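import Cfsg.Agent.Mrg.Omega.HTwo.EightMain
import Cfsg.Agent.Mrg.Omega.HOneTwo.TwoFourTS
import Mathlib
import Cfsg.Agent.Mrg.Omega.HOneTwo.TransMain
import Cfsg.Agent.Lib.NormalAbelian
import Cfsg.Agent.Mrg.Omega.BTwo.Split
import Cfsg.Agent.Mrg.Omega.HTwo.SevenSys
import Cfsg.Agent.Mrg.ParSys.Main
import Cfsg.Agent.Mrg.ParSys.RootEpsBD
import Cfsg.Agent.Mrg.Omega.HOneEnd.OfSys
import Cfsg.Agent.Mrg.Omega.HTwo.EightPos

-- merged: Cfsg.Agent.Mrg.Omega.HOneTwo.OpInst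
section

section


/-!
# II.0h1, `q = 2`, F4-type: the instance `Γ / U` of `OpSys` ((17) of #16429)

`OpD G`: RESULT A (`Eight.Res`) with the output of (13), (14), (16): `Γ = ⟨N_p ∩ C(U) : p ∈ Δ⟩`, `[O₂(M), Γ] ≤ ⟨z⟩`,
`N_p ∩ N_q = ⟨z⟩` (`f p q = 1`), `U ∩ N_p = ⟨p, z⟩`, `C' = U`.

* `OpD.S = Γ / U` (additive), `OpD.E = U` (additive), `OpD.cl : G → S`, `OpD.T : E → S →+ S`;
* `OpD.ops : OpSys f T`, `OpD.gen`, `OpD.mem_range`.
-/

set_option autoImplicit false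
set_option linter.unusedSectionVars false

namespace Cfsg.Agent.Omega.HOneTwo.OpInst

open Subgroup Cfsg.Agent.Omega.BTwo Cfsg.Agent.Omega.HTwo.Eight Cfsg.Agent.Omega.HOneTwo.OpSys

universe u

variable {G : Type u} [Group G]

/-- `Γ` -/
def Gam (z : G) (U : Subgroup G) (Δ : Set G) : Subgroup G :=
  closure {n | ∃ p ∈ Δ, n ∈ Np z p ∧ ∀ u ∈ U, n * u = u * n}

/-- the hypotheses of (17) -/
structure OpD (G : Type u) [Group G] where
  z : G
  M : Subgroup G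
  U : Subgroup G
  Δ : Set G
  f : G → G → ZMod 2
  t : G → G
  r : G
  res : Res z M U Δ f t
  r_Δ : r ∈ Δ
  OG : ∀ o ∈ O2 M, ∀ g ∈ Gam z U Δ, o * g = g * o ∨ o * g = z * (g * o)
  NN : ∀ p ∈ Δ, ∀ q ∈ Δ, f p q = 1 → ∀ n ∈ Np z p, n ∈ Np z q → n = 1 ∨ n = z
  UN : ∀ p ∈ Δ, ∀ u ∈ U, u ∈ Np z p → u = 1 ∨ u = p ∨ u = z ∨ u = p * z
  C14 : ∀ x ∈ O2 M, (∀ p ∈ Δ, ∀ n ∈ Np z p, x * n * x⁻¹ * n⁻¹ ∈ U) → x ∈ U

namespace OpD

variable (D : OpD G)

/-- `Γ` -/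
abbrev Γ : Subgroup G := Gam D.z D.U D.Δ

/-- `n ∈ N_p ∩ C(U)` -/
def NU (p n : G) : Prop := n ∈ Np D.z p ∧ ∀ u ∈ D.U, n * u = u * n

theorem NU_Γ {p n : G} (hp : p ∈ D.Δ) (hn : D.NU p n) : n ∈ D.Γ := subset_closure ⟨p, hp, hn.1, hn.2⟩

theorem cen_conj {m n : G} (hm : m ∈ D.M) (hn : ∀ u ∈ D.U, n * u = u * n) :
    ∀ u ∈ D.U, (m * n * m⁻¹) * u = u * (m * n * m⁻¹) := by
  intro u hu
  have h1 := hn _ (D.res.U_M m⁻¹ (inv_mem hm) u hu)
  rw [inv_inv] at h1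
  calc m * n * m⁻¹ * u = m * (n * (m⁻¹ * u * m)) * m⁻¹ := by group
    _ = m * (m⁻¹ * u * m * n) * m⁻¹ := by rw [h1]
    _ = _ := by group

theorem NU_conj {m p n : G} (hm : m ∈ D.M) (hn : D.NU p n) : D.NU (m * p * m⁻¹) (m * n * m⁻¹) := by
  refine ⟨?_, D.cen_conj hm hn.2⟩
  rw [← cj_Np (D.res.M_z hm)]
  exact conj_mem_cj hn.1

theorem NU_mul {p n m : G} (hn : D.NU p n) (hm : D.NU p m) : D.NU p (n * m) :=
  ⟨mul_mem hn.1 hm.1, fun u hu => by rw [mul_assoc, hm.2 u hu, ← mul_assoc, hn.2 u hu, mul_assoc]⟩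

theorem NU_inv {p n : G} (hn : D.NU p n) : D.NU p n⁻¹ :=
  ⟨inv_mem hn.1, fun u hu => by rw [inv_mul_eq_iff_eq_mul, ← mul_assoc, hn.2 u hu, mul_inv_cancel_right]⟩

theorem NU_p {p : G} (hp : p ∈ D.Δ) : D.NU p p :=
  ⟨D.res.p_N hp, fun u hu => D.res.U_comm p (D.res.Δ_U p hp) u hu⟩

theorem NU_z (p : G) : D.NU p D.z :=
  ⟨z_N _ _, fun u hu => D.res.U_comm _ D.res.z_U u hu⟩

theorem cen_NU {p x : G} (hp : p ∈ D.Δ) (hx : ∀ u ∈ D.U, x * u = u * x) : x ∈ Cp p :=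
  mem_Cp.2 (hx p (D.res.Δ_U p hp))

/-- `C_M(U)` normalises `N_p ∩ C(U)` -/
theorem NU_conj' {p n x : G} (hp : p ∈ D.Δ) (hxM : x ∈ D.M) (hx : ∀ u ∈ D.U, x * u = u * x)
    (hn : D.NU p n) : D.NU p (x * n * x⁻¹) := by
  have := D.NU_conj hxM hn
  rwa [hx p (D.res.Δ_U p hp), mul_inv_cancel_right] at this

theorem Γ_M : D.Γ ≤ D.M := by
  unfold Γ Gam
  rw [closure_le]
  rintro n ⟨p, hp, hn, -⟩
  exact D.res.N_M hp hn

theorem Γ_cen {x : G} (hx : x ∈ D.Γ) {u : G} (hu : u ∈ D.U) : x * u = u * x := by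
  have h1 : D.Γ ≤ centralizer (D.U : Set G) := by
    unfold Γ Gam
    rw [closure_le]
    rintro n ⟨p, hp, -, hn⟩
    rw [SetLike.mem_coe, mem_centralizer_iff]
    exact fun u hu => (hn u hu).symm
  exact ((mem_centralizer_iff.1 (h1 hx)) u hu).symm

theorem Γ_conj {m x : G} (hm : m ∈ D.M) (hx : x ∈ D.Γ) : m * x * m⁻¹ ∈ D.Γ := by
  unfold Γ Gam at hx
  induction hx using closure_induction with
  | mem n hn =>
    obtain ⟨p, hp, hn1, hn2⟩ := hn
    exact D.NU_Γ (D.res.Δ_M m hm p hp) (D.NU_conj hm ⟨hn1, hn2⟩)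
  | one => rw [mul_one, mul_inv_cancel]; exact one_mem _
  | mul x y _ _ hx hy =>
    have e : m * (x * y) * m⁻¹ = (m * x * m⁻¹) * (m * y * m⁻¹) := by group
    rw [e]; exact mul_mem hx hy
  | inv x _ hx =>
    have e : m * x⁻¹ * m⁻¹ = (m * x * m⁻¹)⁻¹ := by group
    rw [e]; exact inv_mem hx

/-- `Γ ≤ O₂(M)` -/
theorem Γ_O [Finite G] : D.Γ ≤ O2 D.M := by
  unfold Γ Gam
  rw [closure_le]
  rintro n ⟨p, hp, hn1, hn2⟩
  have h1 : Np D.z p ⊓ centralizer (D.U : Set G) ≤ O2 D.M := by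
    refine le_O2_of_chain (B := D.M ⊓ centralizer (D.U : Set G)) (C := D.M) ?_ inf_le_left le_rfl ?_ ?_ ?_ ?_
    · exact inf_le_inf_right _ (D.res.N_M hp)
    · intro x
      refine ⟨1, Subtype.ext ?_⟩
      have := D.res.N_sq p hp x x.2.1
      rw [pow_one, pow_two]
      exact this
    · rintro b ⟨hb1, hb2⟩ a ⟨ha1, ha2⟩
      have h3 : ∀ u ∈ D.U, b * u = u * b := fun u hu => ((mem_centralizer_iff.1 hb2) u hu).symm
      have h4 := D.NU_conj' hp hb1 h3 ⟨ha1, fun u hu => ((mem_centralizer_iff.1 ha2) u hu).symm⟩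
      exact ⟨h4.1, mem_centralizer_iff.2 fun u hu => (h4.2 u hu).symm⟩
    · rintro c hc b ⟨hb1, hb2⟩
      exact ⟨D.M.mul_mem (D.M.mul_mem hc hb1) (D.M.inv_mem hc), mem_centralizer_iff.2 fun u hu =>
        (D.cen_conj hc (fun u hu => ((mem_centralizer_iff.1 hb2) u hu).symm) u hu).symm⟩
    · exact fun g hg c hc => D.M.mul_mem (D.M.mul_mem hg hc) (D.M.inv_mem hg)
  exact h1 ⟨hn1, mem_centralizer_iff.2 fun u hu => (hn2 u hu).symm⟩

theorem z_Γ : D.z ∈ D.Γ := D.NU_Γ D.r_Δ (D.NU_z D.r)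

theorem U_Γ : D.U ≤ D.Γ := by
  intro u hu
  rcases D.res.cover u hu with rfl | rfl | h | h
  · exact one_mem _
  · exact D.z_Γ
  · exact D.NU_Γ h (D.NU_p h)
  · have h1 := mul_mem (D.NU_Γ h (D.NU_p h)) D.z_Γ
    rwa [mul_assoc, D.res.zz, mul_one] at h1

theorem z_inv : D.z⁻¹ = D.z := inv_eq_of_mul_eq_one_left D.res.zz

theorem Γ_comm [Finite G] {x y : G} (hx : x ∈ D.Γ) (hy : y ∈ D.Γ) : x * y = y * x ∨ x * y = D.z * (y * x) :=
  D.OG x (D.Γ_O hx) y hy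

theorem Γ_comm_U [Finite G] {x y : G} (hx : x ∈ D.Γ) (hy : y ∈ D.Γ) : (x * y)⁻¹ * (y * x) ∈ D.U := by
  rcases D.Γ_comm hx hy with h | h
  · rw [h, inv_mul_cancel]; exact one_mem _
  · have h1 := D.Γ_cen (mul_mem hy hx) D.res.z_U
    have e : (x * y)⁻¹ * (y * x) = D.z := by
      rw [inv_mul_eq_iff_eq_mul, h, mul_assoc, h1, ← mul_assoc, D.res.zz, one_mul]
    rw [e]; exact D.res.z_U

/-- `Γ² ≤ ⟨z⟩` -/
theorem Γ_sq [Finite G] {x : G} (hx : x ∈ D.Γ) : x * x = 1 ∨ x * x = D.z := by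
  have key : ∀ x ∈ closure {n | ∃ p ∈ D.Δ, n ∈ Np D.z p ∧ ∀ u ∈ D.U, n * u = u * n}, x * x = 1 ∨ x * x = D.z := by
    intro x hx
    induction hx using closure_induction with
    | mem n hn =>
      obtain ⟨p, hp, hn1, hn2⟩ := hn
      exact Or.inl (D.res.N_sq p hp n hn1)
    | one => exact Or.inl (mul_one 1)
    | mul x y hxG hyG hx hy =>
      have hxG' : x ∈ D.Γ := hxG
      have hyG' : y ∈ D.Γ := hyG
      have hz : ∀ w ∈ D.Γ, w * D.z = D.z * w := fun w hw => D.Γ_cen hw D.res.z_U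
      have e : x * y * (x * y) = x * (y * x) * y := by group
      rcases D.Γ_comm hyG' hxG' with h | h
      · have e2 : x * y * (x * y) = (x * x) * (y * y) := by rw [e, h]; group
        rw [e2]
        rcases hx with hx | hx <;> rcases hy with hy | hy <;> rw [hx, hy]
        · left; exact mul_one 1
        · right; exact one_mul _
        · right; exact mul_one _
        · left; exact D.res.zz
      · have e2 : x * y * (x * y) = D.z * ((x * x) * (y * y)) := by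
          rw [e, h]
          calc x * (D.z * (x * y)) * y = (x * D.z) * (x * y * y) := by group
            _ = D.z * ((x * x) * (y * y)) := by rw [hz x hxG']; group
        rw [e2]
        rcases hx with hx | hx <;> rcases hy with hy | hy <;> rw [hx, hy]
        · right; rw [mul_one, mul_one]
        · left; rw [one_mul]; exact D.res.zz
        · left; rw [mul_one]; exact D.res.zz
        · right; rw [D.res.zz, mul_one]
    | inv x _ hx =>
      have e : x⁻¹ * x⁻¹ = (x * x)⁻¹ := by group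
      rw [e]
      rcases hx with hx | hx
      · left; rw [hx, inv_one]
      · right; rw [hx, D.z_inv]
  exact key x hx

/-! ### `S = Γ / U` -/

theorem normal [Finite G] : (D.U.subgroupOf D.Γ).Normal where
  conj_mem := by
    rintro ⟨n, hn⟩ h ⟨g, hg⟩
    rw [mem_subgroupOf] at h ⊢
    exact D.res.U_M g (D.Γ_M hg) n h

instance [Finite G] : (D.U.subgroupOf D.Γ).Normal := D.normal

/-- `Γ / U`, multiplicative -/
abbrev SM : Type u := D.Γ ⧸ D.U.subgroupOf D.Γ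

instance [Finite G] : CommGroup D.SM :=
  { (inferInstance : Group D.SM) with
    mul_comm := by
      intro a b
      obtain ⟨x, rfl⟩ := QuotientGroup.mk_surjective a
      obtain ⟨y, rfl⟩ := QuotientGroup.mk_surjective b
      rw [← QuotientGroup.mk_mul, ← QuotientGroup.mk_mul, QuotientGroup.eq, mem_subgroupOf]
      exact D.Γ_comm_U x.2 y.2 }

/-- `S = Γ / U` -/
def S : Type u := Additive D.SM

noncomputable instance [Finite G] : AddCommGroup D.S := inferInstanceAs (AddCommGroup (Additive D.SM))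

open Classical in
/-- `x ↦ x U` -/
noncomputable def cl (x : G) : D.S := if h : x ∈ D.Γ then Additive.ofMul (QuotientGroup.mk ⟨x, h⟩ : D.SM) else
  Additive.ofMul (QuotientGroup.mk 1 : D.SM)

theorem cl_of {x : G} (h : x ∈ D.Γ) : D.cl x = Additive.ofMul (QuotientGroup.mk ⟨x, h⟩ : D.SM) := dif_pos h

theorem cl_surj (s : D.S) : ∃ x ∈ D.Γ, D.cl x = s := by
  obtain ⟨x, hx⟩ := QuotientGroup.mk_surjective (s := D.U.subgroupOf D.Γ) (Additive.toMul s)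
  exact ⟨x, x.2, by rw [D.cl_of x.2]; exact hx⟩

theorem cl_mul [Finite G] {x y : G} (hx : x ∈ D.Γ) (hy : y ∈ D.Γ) : D.cl (x * y) = D.cl x + D.cl y := by
  rw [D.cl_of hx, D.cl_of hy, D.cl_of (mul_mem hx hy)]
  rfl

theorem cl_eq_iff {x y : G} (hx : x ∈ D.Γ) (hy : y ∈ D.Γ) : D.cl x = D.cl y ↔ x⁻¹ * y ∈ D.U := by
  rw [D.cl_of hx, D.cl_of hy]
  refine Iff.trans (Additive.ofMul.injective.eq_iff) ?_
  rw [QuotientGroup.eq, mem_subgroupOf]
  rfl

theorem cl_one [Finite G] : D.cl 1 = 0 := by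
  rw [D.cl_of (one_mem _)]
  rfl

theorem cl_eq_zero [Finite G] {x : G} (hx : x ∈ D.Γ) : D.cl x = 0 ↔ x ∈ D.U := by
  rw [← D.cl_one, D.cl_eq_iff hx (one_mem _), mul_one, inv_mem_iff]

theorem twoS [Finite G] (s : D.S) : s + s = 0 := by
  obtain ⟨x, hx, rfl⟩ := D.cl_surj s
  rw [← D.cl_mul hx hx, D.cl_eq_zero (mul_mem hx hx)]
  rcases D.Γ_sq hx with h | h
  · rw [h]; exact one_mem _
  · rw [h]; exact D.res.z_U

theorem cl_inv [Finite G] {x : G} (hx : x ∈ D.Γ) : D.cl x⁻¹ = D.cl x := by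
  have h1 := D.cl_mul (inv_mem hx) hx
  rw [inv_mul_cancel, D.cl_one] at h1
  have h2 := D.twoS (D.cl x)
  exact add_right_cancel (h1.symm.trans h2.symm)

/-! ### the action of `M` on `S` -/

/-- conjugation on `Γ` -/
def cjH (m : G) (hm : m ∈ D.M) : D.Γ →* D.Γ where
  toFun x := ⟨m * x * m⁻¹, D.Γ_conj hm x.2⟩
  map_one' := Subtype.ext (by show m * 1 * m⁻¹ = 1; group)
  map_mul' x y := Subtype.ext (by show m * (x * y) * m⁻¹ = m * x * m⁻¹ * (m * y * m⁻¹); group)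

/-- `m ∈ M` on `S` -/
noncomputable def actM [Finite G] (m : G) (hm : m ∈ D.M) : D.S →+ D.S :=
  MonoidHom.toAdditive (QuotientGroup.map (D.U.subgroupOf D.Γ) (D.U.subgroupOf D.Γ) (D.cjH m hm)
    (by
      rintro ⟨x, hx⟩ h
      rw [mem_subgroupOf] at h
      rw [mem_comap, mem_subgroupOf]
      exact D.res.U_M m hm x h))

theorem actM_cl [Finite G] {m x : G} (hm : m ∈ D.M) (hx : x ∈ D.Γ) :
    D.actM m hm (D.cl x) = D.cl (m * x * m⁻¹) := by
  rw [D.cl_of hx, D.cl_of (D.Γ_conj hm hx)]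
  rfl

open Classical in
/-- `m ∈ M` on `S` -/
noncomputable def act [Finite G] (m : G) : D.S →+ D.S := if hm : m ∈ D.M then D.actM m hm else 0

variable [Finite G]

theorem act_cl {m x : G} (hm : m ∈ D.M) (hx : x ∈ D.Γ) : D.act m (D.cl x) = D.cl (m * x * m⁻¹) := by
  rw [act, dif_pos hm, D.actM_cl hm hx]

theorem act_mul {m n : G} (hm : m ∈ D.M) (hn : n ∈ D.M) (s : D.S) : D.act (m * n) s = D.act m (D.act n s) := by
  obtain ⟨x, hx, rfl⟩ := D.cl_surj s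
  rw [D.act_cl (mul_mem hm hn) hx, D.act_cl hn hx, D.act_cl hm (D.Γ_conj hn hx)]
  congr 1
  group

theorem act_one (s : D.S) : D.act 1 s = s := by
  obtain ⟨x, hx, rfl⟩ := D.cl_surj s
  rw [D.act_cl (one_mem _) hx]
  congr 1
  group

/-- `O₂(M)` is trivial on `S` -/
theorem act_O {o : G} (ho : o ∈ O2 D.M) (s : D.S) : D.act o s = s := by
  obtain ⟨x, hx, rfl⟩ := D.cl_surj s
  rw [D.act_cl (O2_le _ ho) hx, D.cl_eq_iff (D.Γ_conj (O2_le _ ho) hx) hx]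
  have hox := D.OG o ho x hx
  rcases hox with h | h
  · rw [h, mul_inv_cancel_right, inv_mul_cancel]; exact one_mem _
  · have e : (o * x * o⁻¹)⁻¹ * x = D.z := by
      rw [inv_mul_eq_iff_eq_mul, h]
      have h1 := D.res.U_O o ho D.z D.res.z_U
      have h2 := D.Γ_cen hx D.res.z_U
      have h3 : o⁻¹ * D.z = D.z * o⁻¹ := D.res.U_O _ (inv_mem ho) D.z D.res.z_U
      calc x = x * (D.z * D.z) := by rw [D.res.zz, mul_one]
        _ = (x * D.z) * D.z := by group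
        _ = (D.z * x) * D.z := by rw [h2]
        _ = D.z * (x * o) * (o⁻¹ * D.z) := by group
        _ = D.z * (x * o) * o⁻¹ * D.z := by group
    rw [e]; exact D.res.z_U

theorem act_mulO {m o : G} (hm : m ∈ D.M) (ho : o ∈ O2 D.M) (s : D.S) : D.act (m * o) s = D.act m s := by
  rw [D.act_mul hm (O2_le _ ho), D.act_O ho]

/-- elements of `N_p` which move `U` act as `t p` up to `Γ` -/
theorem NU_of_mv {p n : G} (hp : p ∈ D.Δ) (hn : n ∈ Np D.z p) (hm : ¬ ∀ u ∈ D.U, n * u = u * n) :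
    D.NU p ((D.t p)⁻¹ * n) := by
  refine ⟨mul_mem (inv_mem (D.res.t_N hp)) hn, fun u hu => ?_⟩
  have h1 := (D.res.act_or hp hn).resolve_left hm u hu
  have h2 := D.res.t_act hp hu
  rw [← h2, mul_inv_eq_iff_eq_mul] at h1
  calc (D.t p)⁻¹ * n * u = (D.t p)⁻¹ * (n * u) := by group
    _ = u * ((D.t p)⁻¹ * n) := by rw [h1]; group

theorem act_mv {p n : G} (hp : p ∈ D.Δ) (hn : n ∈ Np D.z p) (hm : ¬ ∀ u ∈ D.U, n * u = u * n) (s : D.S) :
    D.act n s = D.act (D.t p) s := by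
  have h1 := D.act_mulO (D.res.t_M hp) (D.Γ_O (D.NU_Γ hp (D.NU_of_mv hp hn hm))) s
  rwa [mul_inv_cancel_left] at h1

/-! ### `T₀ p` -/

/-- `s ↦ s + s^{t_p}` -/
noncomputable def T₀ (p : G) : D.S →+ D.S := AddMonoidHom.id D.S + D.act (D.t p)

theorem T₀_eq (p : G) (s : D.S) : D.T₀ p s = s + D.act (D.t p) s := rfl

theorem act_eq (p : G) (s : D.S) : D.act (D.t p) s = s + D.T₀ p s := by
  rw [T₀_eq, ← add_assoc, D.twoS, zero_add]

/-- `[x, t_p]` -/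
theorem br_NU {p x : G} (hp : p ∈ D.Δ) (hx : x ∈ O2 D.M) : D.NU p (x * D.t p * x⁻¹ * (D.t p)⁻¹) := by
  have hxU : ∀ u ∈ D.U, x * u = u * x := fun u hu => D.res.U_O x hx u hu
  refine ⟨mul_mem (N_normal (D.cen_NU hp hxU) (D.res.t_N hp)) (inv_mem (D.res.t_N hp)), fun u hu => ?_⟩
  have hxU' : ∀ u ∈ D.U, x⁻¹ * u = u * x⁻¹ := fun u hu => D.res.U_O _ (inv_mem hx) u hu
  have h1 := D.cen_conj (D.res.t_M hp) hxU' u hu
  calc x * D.t p * x⁻¹ * (D.t p)⁻¹ * u = x * (D.t p * x⁻¹ * (D.t p)⁻¹ * u) := by group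
    _ = (x * u) * (D.t p * x⁻¹ * (D.t p)⁻¹) := by rw [h1]; group
    _ = u * (x * D.t p * x⁻¹ * (D.t p)⁻¹) := by rw [hxU u hu]; group

theorem T₀_cl {p x : G} (hp : p ∈ D.Δ) (hx : x ∈ D.Γ) :
    D.T₀ p (D.cl x) = D.cl (x * D.t p * x⁻¹ * (D.t p)⁻¹) := by
  have e : x * D.t p * x⁻¹ * (D.t p)⁻¹ = x * (D.t p * x⁻¹ * (D.t p)⁻¹) := by group
  have h1 := D.res.t_M hp
  rw [T₀_eq, e, D.cl_mul hx (D.Γ_conj h1 (inv_mem hx)), ← D.act_cl h1 (inv_mem hx), D.cl_inv hx]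

theorem T₀_sq {p : G} (hp : p ∈ D.Δ) (s : D.S) : D.T₀ p (D.T₀ p s) = 0 := by
  have h1 := D.res.t_M hp
  have h2 : D.act (D.t p) (D.act (D.t p) s) = s := by
    rw [← D.act_mul h1 h1, D.res.N_sq p hp _ (D.res.t_N hp), D.act_one]
  rw [T₀_eq, T₀_eq, map_add, h2, add_comm (D.act _ s) s, D.twoS]

theorem T₀_zero {p : G} {n : G} (hp : p ∈ D.Δ) (hn : D.NU p n) : D.T₀ p (D.cl n) = 0 := by
  rw [D.T₀_cl hp (D.NU_Γ hp hn), D.res.N_comm hp hn.1 (D.res.t_N hp)]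
  have e : D.t p * n * n⁻¹ * (D.t p)⁻¹ = 1 := by group
  rw [e, D.cl_one]

theorem act_comm {p q : G} (hp : p ∈ D.Δ) (hq : q ∈ D.Δ) (h0 : D.f p q = 0) (s : D.S) :
    D.act (D.t p) (D.act (D.t q) s) = D.act (D.t q) (D.act (D.t p) s) := by
  have h1 := D.res.t_M hp
  have h2 := D.res.t_M hq
  have hc : D.t p ∈ Cp q := mem_Cp.2 (D.res.t_0 p hp q (D.res.Δ_U q hq) h0)
  have h3 := N_normal hc (D.res.t_N hq)
  have h4 := D.act_mv hq h3 (D.res.conj_mv h1 (D.res.t_mv hq)) (D.act (D.t p) s)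
  rw [← h4, ← D.act_mul (mul_mem (mul_mem h1 h2) (inv_mem h1)) h1, ← D.act_mul h1 h2]
  congr 2
  group

theorem T₀_comm {p q : G} (hp : p ∈ D.Δ) (hq : q ∈ D.Δ) (h0 : D.f p q = 0) (s : D.S) :
    D.T₀ p (D.T₀ q s) = D.T₀ q (D.T₀ p s) := by
  simp only [T₀_eq, map_add]
  rw [D.act_comm hp hq h0]
  abel

theorem act_pqz {p q : G} (hp : p ∈ D.Δ) (hq : q ∈ D.Δ) (h1 : D.f p q = 1) (s : D.S) :
    D.act (D.t (p * q * D.z)) s = D.act (D.t p) (D.act (D.t q) (D.act (D.t p) s)) := by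
  have h2 := D.res.t_M hp
  have h3 := D.res.t_M hq
  have h4 := D.act_mv (D.res.mul1 p hp q hq h1) (D.res.tt_N hp hq h1) (D.res.conj_mv h2 (D.res.t_mv hq)) s
  rw [← h4, D.res.t_inv hp, ← D.act_mul h3 h2, ← D.act_mul h2 (mul_mem h3 h2), mul_assoc]

theorem T₀_conj {p q : G} (hp : p ∈ D.Δ) (hq : q ∈ D.Δ) (h1 : D.f p q = 1) (s : D.S) :
    D.T₀ (p * q * D.z) s = D.T₀ q s + D.T₀ p (D.T₀ q s) + D.T₀ q (D.T₀ p s) + D.T₀ p (D.T₀ q (D.T₀ p s)) := by
  rw [D.T₀_eq (p * q * D.z), D.act_pqz hp hq h1, D.act_eq p s, D.act_eq q, D.act_eq p]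
  simp only [map_add]
  rw [D.T₀_sq hp s]
  have e : ∀ a b c d e' g : D.S, a + (a + b + (c + d) + (b + 0 + (e' + g))) = c + e' + d + g := by
    intro a b c d e' g
    have h1 := D.twoS a
    have h2 := D.twoS b
    calc a + (a + b + (c + d) + (b + 0 + (e' + g))) = (a + a) + (b + b) + (c + e' + d + g) := by abel
      _ = _ := by rw [h1, h2, add_zero, zero_add]
  exact e _ _ _ _ _ _

/-- **(9)**, injectivity -/
theorem inj0 {p q n : G} (hp : p ∈ D.Δ) (hq : q ∈ D.Δ) (h1 : D.f p q = 1) (hn : D.NU p n)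
    (hk : n * D.t q * n⁻¹ * (D.t q)⁻¹ ∈ D.U) : n ∈ D.U := by
  have hpU := D.res.Δ_U p hp
  have hqU := D.res.Δ_U q hq
  have hnc : n ∈ Cp q := D.cen_NU hq hn.2
  have htq := D.res.t_N hq
  have hkN : n * D.t q * n⁻¹ * (D.t q)⁻¹ ∈ Np D.z q := mul_mem (N_normal hnc htq) (inv_mem htq)
  -- the main case
  have main : ∀ n, D.NU p n → (n * D.t q * n⁻¹ * (D.t q)⁻¹ = 1 ∨ n * D.t q * n⁻¹ * (D.t q)⁻¹ = D.z) →
      n = 1 ∨ n = D.z := by
    intro n hn hk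
    have e1 : D.t q * p * (D.t q)⁻¹ = q * p * D.z := by
      rw [D.res.t_act hq hpU, D.res.f_symm q hqU p hpU, h1, pw_one, ← mul_assoc, D.res.U_comm p hpU q hqU]
    have h2 : D.f q p = 1 := by rw [D.res.f_symm q hqU p hpU]; exact h1
    have h3 := D.res.mul1 q hq p hp h2
    have h4 : D.t q * n⁻¹ * (D.t q)⁻¹ ∈ Np D.z (q * p * D.z) := by
      rw [← e1, ← cj_Np (D.res.M_z (D.res.t_M hq))]
      exact conj_mem_cj (inv_mem hn.1)
    have h5 : n ∈ Np D.z (q * p * D.z) := by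
      have e2 : n = (n * D.t q * n⁻¹ * (D.t q)⁻¹) * (D.t q * n⁻¹ * (D.t q)⁻¹)⁻¹ := by group
      rw [e2]
      refine mul_mem ?_ (inv_mem h4)
      rcases hk with hk | hk <;> rw [hk]
      · exact one_mem _
      · exact z_N _ _
    refine D.NN p hp _ h3 ?_ n hn.1 h5
    rw [D.res.f_add' hpU (mul_mem hqU hpU) D.res.z_U, D.res.f_z' hpU, D.res.f_add' hpU hqU hpU, D.res.f_self p hpU, h1]
    decide
  have hz := D.res.z_U
  rcases D.UN q hq _ hk hkN with h | h | h | h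
  · rcases main n hn (Or.inl h) with h | h <;> rw [h]
    · exact one_mem _
    · exact hz
  · -- `k = q`
    have h2 := D.res.u_act hq hpU
    rw [D.res.f_symm q hqU p hpU, h1, pw_one] at h2
    have e : n * p * D.t q * (n * p)⁻¹ * (D.t q)⁻¹ = (n * D.t q * n⁻¹ * (D.t q)⁻¹) * (q * D.z) := by
      have hc1 : n * (q * D.z) = q * D.z * n := hn.2 _ (mul_mem hqU hz)
      have hc2 : D.t q * (q * D.z) = q * D.z * D.t q :=
        D.res.t_0 q hq _ (mul_mem hqU hz) (by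
          rw [D.res.f_add' hqU hqU hz, D.res.f_self q hqU, D.res.f_z' hqU, add_zero])
      calc n * p * D.t q * (n * p)⁻¹ * (D.t q)⁻¹ = n * (p * D.t q * p⁻¹) * n⁻¹ * (D.t q)⁻¹ := by group
        _ = n * (D.t q * (q * D.z)) * n⁻¹ * (D.t q)⁻¹ := by rw [h2]
        _ = n * D.t q * (q * D.z * n⁻¹) * (D.t q)⁻¹ := by group
        _ = n * D.t q * (n⁻¹ * (q * D.z)) * (D.t q)⁻¹ := by
          rw [show q * D.z * n⁻¹ = n⁻¹ * (q * D.z) by rw [eq_inv_mul_iff_mul_eq, ← mul_assoc, hc1, mul_inv_cancel_right]]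
        _ = n * D.t q * n⁻¹ * (q * D.z * (D.t q)⁻¹) := by group
        _ = n * D.t q * n⁻¹ * ((D.t q)⁻¹ * (q * D.z)) := by
          rw [show q * D.z * (D.t q)⁻¹ = (D.t q)⁻¹ * (q * D.z) by
            rw [eq_inv_mul_iff_mul_eq, ← mul_assoc, hc2, mul_inv_cancel_right]]
        _ = _ := by group
    rw [h] at e
    have e3 : q * (q * D.z) = D.z := by rw [← mul_assoc, D.res.U_sq q hqU, one_mul]
    rw [e3] at e
    rcases main (n * p) (D.NU_mul hn (D.NU_p hp)) (Or.inr e) with h3 | h3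
    · have : n = p⁻¹ := eq_inv_of_mul_eq_one_left h3
      rw [this]; exact inv_mem hpU
    · have : n = D.z * p⁻¹ := eq_mul_inv_of_mul_eq h3
      rw [this]; exact mul_mem hz (inv_mem hpU)
  · rcases main n hn (Or.inr h) with h | h <;> rw [h]
    · exact one_mem _
    · exact hz
  · -- `k = q z`
    have h2 := D.res.u_act hq hpU
    rw [D.res.f_symm q hqU p hpU, h1, pw_one] at h2
    have e : n * p * D.t q * (n * p)⁻¹ * (D.t q)⁻¹ = (n * D.t q * n⁻¹ * (D.t q)⁻¹) * (q * D.z) := by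
      have hc1 : n * (q * D.z) = q * D.z * n := hn.2 _ (mul_mem hqU hz)
      have hc2 : D.t q * (q * D.z) = q * D.z * D.t q :=
        D.res.t_0 q hq _ (mul_mem hqU hz) (by
          rw [D.res.f_add' hqU hqU hz, D.res.f_self q hqU, D.res.f_z' hqU, add_zero])
      calc n * p * D.t q * (n * p)⁻¹ * (D.t q)⁻¹ = n * (p * D.t q * p⁻¹) * n⁻¹ * (D.t q)⁻¹ := by group
        _ = n * (D.t q * (q * D.z)) * n⁻¹ * (D.t q)⁻¹ := by rw [h2]
        _ = n * D.t q * (q * D.z * n⁻¹) * (D.t q)⁻¹ := by group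
        _ = n * D.t q * (n⁻¹ * (q * D.z)) * (D.t q)⁻¹ := by
          rw [show q * D.z * n⁻¹ = n⁻¹ * (q * D.z) by rw [eq_inv_mul_iff_mul_eq, ← mul_assoc, hc1, mul_inv_cancel_right]]
        _ = n * D.t q * n⁻¹ * (q * D.z * (D.t q)⁻¹) := by group
        _ = n * D.t q * n⁻¹ * ((D.t q)⁻¹ * (q * D.z)) := by
          rw [show q * D.z * (D.t q)⁻¹ = (D.t q)⁻¹ * (q * D.z) by
            rw [eq_inv_mul_iff_mul_eq, ← mul_assoc, hc2, mul_inv_cancel_right]]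
        _ = _ := by group
    rw [h] at e
    have e3 : q * D.z * (q * D.z) = 1 := D.res.pz_sq hq
    rw [e3] at e
    rcases main (n * p) (D.NU_mul hn (D.NU_p hp)) (Or.inl e) with h3 | h3
    · have : n = p⁻¹ := eq_inv_of_mul_eq_one_left h3
      rw [this]; exact inv_mem hpU
    · have : n = D.z * p⁻¹ := eq_mul_inv_of_mul_eq h3
      rw [this]; exact mul_mem hz (inv_mem hpU)

theorem inj1 {p q n : G} (hp : p ∈ D.Δ) (hq : q ∈ D.Δ) (h1 : D.f p q = 1) (hn : D.NU p n)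
    (hk : D.T₀ q (D.cl n) = 0) : D.cl n = 0 := by
  have hG := D.NU_Γ hp hn
  rw [D.T₀_cl hq hG, D.cl_eq_zero (D.NU_Γ hq (D.br_NU hq (D.Γ_O hG)))] at hk
  rw [D.cl_eq_zero hG]
  exact D.inj0 hp hq h1 hn hk

/-- `[S, Q_q, Q_q] = 0` -/
theorem QQ {q g g' : G} (hq : q ∈ D.Δ) (hg : g ∈ Qp q) (hg' : g' ∈ Qp q) (s : D.S) :
    (s + D.act g s) + D.act g' (s + D.act g s) = 0 := by
  obtain ⟨x, hx, rfl⟩ := D.cl_surj s
  have hgM := D.res.Q_M hq hg
  have hgM' := D.res.Q_M hq hg'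
  have e1 : D.cl x + D.act g (D.cl x) = D.cl (g * x * g⁻¹ * x⁻¹) := by
    rw [D.act_cl hgM hx, D.cl_mul (D.Γ_conj hgM hx) (inv_mem hx), D.cl_inv hx, add_comm]
  have hxq : x ∈ Cp q := D.cen_NU hq fun u hu => D.Γ_cen hx hu
  have h1 : g * x * g⁻¹ * x⁻¹ ∈ Qp q := by
    have e : g * x * g⁻¹ * x⁻¹ = g * (x * g⁻¹ * x⁻¹) := by group
    rw [e]
    exact mul_mem hg (Q_normal hxq (inv_mem hg))
  have h2 : g * x * g⁻¹ * x⁻¹ ∈ D.Γ := mul_mem (D.Γ_conj hgM hx) (inv_mem hx)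
  rw [e1, D.act_cl hgM' h2, ← D.cl_inv h2, ← D.cl_mul (inv_mem h2) (D.Γ_conj hgM' h2),
    D.cl_eq_zero (mul_mem (inv_mem h2) (D.Γ_conj hgM' h2))]
  have h3 := D.Γ_cen h2 (D.res.Δ_U q hq)
  set w := g * x * g⁻¹ * x⁻¹ with hw
  rcases D.res.Q_comm q hq g' hg' w h1 with h | h
  · have e : w⁻¹ * (g' * w * g'⁻¹) = 1 := by rw [h]; group
    rw [e]; exact one_mem _
  · have e : w⁻¹ * (g' * w * g'⁻¹) = q := by
      rw [h]
      calc w⁻¹ * (q * (w * g') * g'⁻¹) = w⁻¹ * (q * w) := by group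
        _ = q := by rw [← h3, inv_mul_cancel_left]
    rw [e]; exact D.res.Δ_U q hq

/-- `C' = U` -/
theorem C14' {x : G} (hx : x ∈ O2 D.M) (h : ∀ p ∈ D.Δ, x * D.t p * x⁻¹ * (D.t p)⁻¹ ∈ D.U) : x ∈ D.U := by
  refine D.C14 x hx fun p hp n hn => ?_
  have key : ∀ m, D.NU p m → x * m * x⁻¹ * m⁻¹ ∈ D.U := by
    intro m hm
    rcases D.OG x hx m (D.NU_Γ hp hm) with h1 | h1
    · have e : x * m * x⁻¹ * m⁻¹ = 1 := by rw [h1]; group
      rw [e]; exact one_mem _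
    · have e : x * m * x⁻¹ * m⁻¹ = D.z := by rw [h1]; group
      rw [e]; exact D.res.z_U
  by_cases hm : ∀ u ∈ D.U, n * u = u * n
  · exact key n ⟨hn, hm⟩
  · have h1 := D.NU_of_mv hp hn hm
    set m := (D.t p)⁻¹ * n with hm'
    have e0 : n = D.t p * m := by rw [hm']; group
    have h2 := key m h1
    have h3 := D.res.U_M _ (D.res.t_M hp) _ h2
    have e : x * n * x⁻¹ * n⁻¹ = (x * D.t p * x⁻¹ * (D.t p)⁻¹) * (D.t p * (x * m * x⁻¹ * m⁻¹) * (D.t p)⁻¹) := by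
      rw [e0]; group
    rw [e]
    exact mul_mem (h p hp) h3

/-! ### `E = U` -/

/-- the commutative group `U` -/
@[reducible] def UCG (D : OpD G) : CommGroup D.U :=
  { (inferInstance : Group D.U) with
    mul_comm := fun a b => Subtype.ext (D.res.U_comm a a.2 b b.2) }

/-- `E = U`, additive -/
def E (D : OpD G) : Type u := Additive D.U

noncomputable instance (D : OpD G) : AddCommGroup D.E := @Additive.addCommGroup D.U D.UCG

/-- the element of `U` -/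
def el {D : OpD G} (v : D.E) : G := (Additive.toMul (α := D.U) v).1

/-- the vector of `u ∈ U` -/
def ve {D : OpD G} {u : G} (hu : u ∈ D.U) : D.E := Additive.ofMul (⟨u, hu⟩ : D.U)

omit [Finite G] in
theorem el_mem {D : OpD G} (v : D.E) : el v ∈ D.U := (Additive.toMul (α := D.U) v).2

omit [Finite G] in
theorem el_add {D : OpD G} (v w : D.E) : el (v + w) = el v * el w := rfl

omit [Finite G] in
theorem el_ve {D : OpD G} {u : G} (hu : u ∈ D.U) : el (ve hu : D.E) = u := rfl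

omit [Finite G] in
theorem el_zero {D : OpD G} : el (0 : D.E) = 1 := rfl

omit [Finite G] in
theorem el_inj {D : OpD G} {v w : D.E} (h : el v = el w) : v = w :=
  Additive.toMul.injective (Subtype.ext h)

/-- the form on `E` -/
def F (v w : D.E) : ZMod 2 := D.f (el v) (el w)

open Classical in
/-- the operator of an element of `U` -/
noncomputable def TT (u : G) : D.S →+ D.S := if u ∈ D.Δ then D.T₀ u else if u * D.z ∈ D.Δ then D.T₀ (u * D.z) else 0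

/-- the operators -/
noncomputable def T (v : D.E) : D.S →+ D.S := D.TT (el v)

theorem TT_Δ {p : G} (hp : p ∈ D.Δ) : D.TT p = D.T₀ p := if_pos hp

theorem TT_pz {p : G} (hp : p ∈ D.Δ) : D.TT (p * D.z) = D.T₀ p := by
  have e : p * D.z * D.z = p := by rw [mul_assoc, D.res.zz, mul_one]
  rw [TT, if_neg (D.res.inj p hp), e, if_pos hp]

theorem TT_one : D.TT 1 = 0 := by
  rw [TT, if_neg D.res.Δ_1, one_mul, if_neg D.res.Δ_z]

theorem TT_z : D.TT D.z = 0 := by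
  rw [TT, if_neg D.res.Δ_z, D.res.zz, if_neg D.res.Δ_1]

theorem TT_mulz {u : G} (hu : u ∈ D.U) : D.TT (u * D.z) = D.TT u := by
  rcases D.res.cover u hu with rfl | rfl | h | h
  · rw [one_mul, TT_z, TT_one]
  · rw [D.res.zz, TT_z, TT_one]
  · rw [D.TT_pz h, D.TT_Δ h]
  · have e : u * D.z * D.z = u := by rw [mul_assoc, D.res.zz, mul_one]
    rw [D.TT_Δ h]
    have := D.TT_pz h
    rw [e] at this
    exact this.symm

/-- the cases of an element of `U` -/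
theorem cases {u : G} (hu : u ∈ D.U) : ((u = 1 ∨ u = D.z) ∧ D.TT u = 0 ∧ ∀ w ∈ D.U, D.f u w = 0) ∨
    ∃ p ∈ D.Δ, (u = p ∨ u = p * D.z) ∧ D.TT u = D.T₀ p ∧ ∀ w ∈ D.U, D.f u w = D.f p w := by
  rcases D.res.cover u hu with rfl | rfl | h | h
  · exact Or.inl ⟨Or.inl rfl, D.TT_one, fun w hw => D.res.one_f hw⟩
  · exact Or.inl ⟨Or.inr rfl, D.TT_z, fun w hw => D.res.f_z w hw⟩
  · exact Or.inr ⟨u, h, Or.inl rfl, D.TT_Δ h, fun w _ => rfl⟩
  · have e : u * D.z * D.z = u := by rw [mul_assoc, D.res.zz, mul_one]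
    refine Or.inr ⟨u * D.z, h, Or.inr e.symm, ?_, fun w hw => ?_⟩
    · rw [← D.TT_mulz hu, D.TT_Δ h]
    · rw [D.res.f_add u hu D.z D.res.z_U w hw, D.res.f_z w hw, add_zero]

omit [Finite G] in
theorem f_right {u w p : G} (hu : u ∈ D.U) (hw : w ∈ D.U) (hp : p ∈ D.Δ) (h : ∀ w ∈ D.U, D.f u w = D.f p w) :
    D.f w u = D.f w p := by
  rw [D.res.f_symm w hw u hu, h w hw, D.res.f_symm w hw p (D.res.Δ_U p hp)]

/-- `TT` of a product with the points -/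
theorem TT_mul {u v p q : G} (hu : u = p ∨ u = p * D.z) (hv : v = q ∨ v = q * D.z) (hp : p ∈ D.Δ) (hq : q ∈ D.Δ) :
    D.TT (u * v) = D.TT (p * q) := by
  have hpU := D.res.Δ_U p hp
  have hqU := D.res.Δ_U q hq
  have hz := D.res.z_U
  rcases hu with rfl | rfl <;> rcases hv with rfl | rfl
  · rfl
  · rw [← mul_assoc, D.TT_mulz (mul_mem hpU hqU)]
  · rw [mul_assoc, D.res.U_comm _ hz _ hqU, ← mul_assoc, D.TT_mulz (mul_mem hpU hqU)]
  · have e : p * D.z * (q * D.z) = p * q := by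
      calc p * D.z * (q * D.z) = p * (D.z * q) * D.z := by group
        _ = p * q * (D.z * D.z) := by rw [D.res.U_comm _ hz _ hqU]; group
        _ = p * q := by rw [D.res.zz, mul_one]
    rw [e]

/-- `D q r = t_r t_{qr} - 1`, an element of `Q_q` -/
theorem exD {q r : G} (hq : q ∈ D.Δ) (hr : r ∈ D.U) (h0 : D.f q r = 0) :
    ∃ g ∈ Qp q, ∀ s, D.TT r s + D.TT (q * r) s + D.TT r (D.TT (q * r) s) = s + D.act g s := by
  have hqU := D.res.Δ_U q hq
  rcases D.cases hr with ⟨h1, h2, -⟩ | ⟨p, hp, h1, h2, h3⟩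
  · refine ⟨D.t q, D.res.N_le_Q hq (D.res.t_N hq), fun s => ?_⟩
    have e : D.TT (q * r) = D.T₀ q := by
      rcases h1 with rfl | rfl
      · rw [mul_one, D.TT_Δ hq]
      · rw [D.TT_pz hq]
    rw [h2, e]
    show (0 : D.S) + D.T₀ q s + 0 = _
    rw [zero_add, add_zero, T₀_eq]
  · have e1 : D.TT (q * r) = D.TT (q * p) := D.TT_mul (Or.inl rfl) h1 hq hp
    have h4 : D.f q p = 0 := by rw [← D.f_right hr hqU hp h3]; exact h0
    by_cases hqp : q = p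
    · subst hqp
      refine ⟨D.t q, D.res.N_le_Q hq (D.res.t_N hq), fun s => ?_⟩
      rw [e1, h2, D.res.U_sq q hqU, D.TT_one]
      show D.T₀ q s + (0 : D.S) + D.T₀ q (0 : D.S) = _
      rw [map_zero, add_zero, add_zero, T₀_eq]
    · obtain ⟨g, hg, hgp⟩ := D.res.Q_mv q hq p hp hqp h4
      have hqpΔ := D.res.mul0 q hq p hp hqp h4
      have hgM := D.res.Q_M hq hg
      have htM := D.res.t_M hp
      have hpU := D.res.Δ_U p hp
      have e2 : g * p * g⁻¹ = q * p := by rw [hgp, D.res.U_comm p hpU q hqU]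
      have h5 : g * D.t p * g⁻¹ ∈ Np D.z (q * p) := by
        rw [← e2, ← cj_Np (D.res.M_z hgM)]
        exact conj_mem_cj (D.res.t_N hp)
      have h6 : ∀ s, D.act (D.t (q * p)) s = D.act (g * D.t p * g⁻¹) s := fun s =>
        (D.act_mv hqpΔ h5 (D.res.conj_mv hgM (D.res.t_mv hp)) s).symm
      have hgM' : g * D.t p * g⁻¹ ∈ D.M := mul_mem (mul_mem hgM htM) (inv_mem hgM)
      refine ⟨D.t p * (g * D.t p * g⁻¹), ?_, fun s => ?_⟩
      · have hc : D.t p ∈ Cp q := mem_Cp.2 (D.res.t_0 p hp q hqU (by rw [D.res.f_symm p hpU q hqU]; exact h4))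
        have h7 := Q_normal hc hg
        have e3 : D.t p * (g * D.t p * g⁻¹) = (D.t p * g * (D.t p)⁻¹) * g⁻¹ := by rw [D.res.t_inv hp]; group
        rw [e3]
        exact mul_mem h7 (inv_mem hg)
      · rw [e1, h2, D.TT_Δ hqpΔ, D.act_mul htM hgM', ← h6]
        simp only [T₀_eq, map_add]
        have e : ∀ a b c d : D.S, a + b + (a + c) + (a + b + (c + d)) = a + d := by
          intro a b c d
          calc a + b + (a + c) + (a + b + (c + d)) = (a + a) + (b + b) + (c + c) + (a + d) := by abel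
            _ = _ := by rw [D.twoS a, D.twoS b, D.twoS c, zero_add, zero_add, zero_add]
        exact e s (D.act (D.t p) s) (D.act (D.t (q * p)) s) (D.act (D.t p) (D.act (D.t (q * p)) s))

/-- **(17)**: the operator system -/
theorem ops : OpSys D.F D.T := by
  have hz := D.res.z_U
  refine OpSys.of_raw D.twoS ?_ ?_ ?_ ?_ ?_ ?_ ?_ ?_ ?_ ?_ ?_ ?_ ?_
  · intro v
    apply el_inj
    rw [el_add, el_zero]
    exact D.res.U_sq _ (el_mem v)
  · exact fun u v w => D.res.f_add _ (el_mem u) _ (el_mem v) _ (el_mem w)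
  · exact fun v w => D.res.f_symm _ (el_mem v) _ (el_mem w)
  · exact fun v => D.res.f_self _ (el_mem v)
  · -- rad
    intro v hv s
    rcases D.cases (el_mem v) with ⟨-, h, -⟩ | ⟨p, hp, -, h2, h3⟩
    · show D.TT (el v) s = 0
      rw [h]; rfl
    · exfalso
      obtain ⟨q, hq, h1⟩ := D.res.exists_q1 hp
      have h4 := hv (ve (D.res.Δ_U q hq))
      have h5 : D.f (el v) q = 0 := h4
      rw [h3 q (D.res.Δ_U q hq), h1] at h5
      exact one_ne_zero h5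
  · -- radd
    intro v c hc s
    have h1 : el c = 1 ∨ el c = D.z := D.res.f_rad _ (el_mem c) fun w hw => hc (ve hw)
    show D.TT (el v * el c) s = D.TT (el v) s
    rcases h1 with h1 | h1 <;> rw [h1]
    · rw [mul_one]
    · rw [D.TT_mulz (el_mem v)]
  · -- sq
    intro v s
    show D.TT (el v) (D.TT (el v) s) = 0
    rcases D.cases (el_mem v) with ⟨-, h, -⟩ | ⟨p, hp, -, h2, h3⟩
    · rw [h]; rfl
    · rw [h2]; exact D.T₀_sq hp s
  · -- comm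
    intro v w hvw s
    show D.TT (el v) (D.TT (el w) s) = D.TT (el w) (D.TT (el v) s)
    rcases D.cases (el_mem v) with ⟨-, h, -⟩ | ⟨p, hp, -, h2, h3⟩
    · rw [h]
      show (0 : D.S) = D.TT (el w) 0
      rw [map_zero]
    · rcases D.cases (el_mem w) with ⟨-, h, -⟩ | ⟨q, hq, -, h5, h6⟩
      · rw [h]
        show D.TT (el v) 0 = (0 : D.S)
        rw [map_zero]
      · rw [h2, h5]
        refine D.T₀_comm hp hq ?_ s
        have h7 : D.f (el v) (el w) = 0 := hvw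
        rwa [h3 _ (el_mem w), D.f_right (el_mem w) (D.res.Δ_U p hp) hq h6] at h7
  · -- inj
    intro v w hvw s hs
    have hs' : D.TT (el w) (D.TT (el v) s) = 0 := hs
    show D.TT (el v) s = 0
    rcases D.cases (el_mem v) with ⟨-, h, -⟩ | ⟨p, hp, -, h2, h3⟩
    · rw [h]; rfl
    · rcases D.cases (el_mem w) with ⟨-, -, h⟩ | ⟨q, hq, -, h5, h6⟩
      · exfalso
        have h7 : D.f (el v) (el w) = 1 := hvw
        rw [D.res.f_symm _ (el_mem v) _ (el_mem w), h _ (el_mem v)] at h7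
        exact zero_ne_one h7
      · have h7 : D.f (el v) (el w) = 1 := hvw
        rw [h3 _ (el_mem w), D.f_right (el_mem w) (D.res.Δ_U p hp) hq h6] at h7
        rw [h2] at hs' ⊢
        rw [h5] at hs'
        obtain ⟨x, hx, rfl⟩ := D.cl_surj s
        rw [D.T₀_cl hp hx] at hs' ⊢
        exact D.inj1 hp hq h7 (D.br_NU hp (D.Γ_O hx)) hs'
  · -- conj
    intro v w hvw s
    show D.TT (el v * el w) s = D.TT (el w) s + D.TT (el v) (D.TT (el w) s) + D.TT (el w) (D.TT (el v) s) +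
      D.TT (el v) (D.TT (el w) (D.TT (el v) s))
    have h7 : D.f (el v) (el w) = 1 := hvw
    rcases D.cases (el_mem v) with ⟨-, -, h⟩ | ⟨p, hp, h1, h2, h3⟩
    · exfalso
      rw [h _ (el_mem w)] at h7
      exact zero_ne_one h7
    · rcases D.cases (el_mem w) with ⟨-, -, h⟩ | ⟨q, hq, h4, h5, h6⟩
      · exfalso
        rw [D.res.f_symm _ (el_mem v) _ (el_mem w), h _ (el_mem v)] at h7
        exact zero_ne_one h7
      · rw [h3 _ (el_mem w), D.f_right (el_mem w) (D.res.Δ_U p hp) hq h6] at h7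
        have hpq := mul_mem (D.res.Δ_U p hp) (D.res.Δ_U q hq)
        rw [D.TT_mul h1 h4 hp hq, ← D.TT_mulz hpq, D.TT_Δ (D.res.mul1 p hp q hq h7), h2, h5]
        exact D.T₀_conj hp hq h7 s
  · -- d1
    intro v w hvw s
    show D.TT (el v) (D.TT (el w) s + D.TT (el v * el w) s + D.TT (el w) (D.TT (el v * el w) s)) = 0
    have h7 : D.f (el v) (el w) = 0 := hvw
    rcases D.cases (el_mem v) with ⟨-, h, -⟩ | ⟨p, hp, h1, h2, h3⟩
    · rw [h]; rfl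
    · have e : D.TT (el v * el w) = D.TT (p * el w) := by
        rcases h1 with h1 | h1
        · rw [h1]
        · have hpU := D.res.Δ_U p hp
          have e1 : p * D.z * el w = p * el w * D.z := by
            rw [mul_assoc, D.res.U_comm _ hz _ (el_mem w), ← mul_assoc]
          rw [h1, e1, D.TT_mulz (mul_mem hpU (el_mem w))]
      rw [h3 _ (el_mem w)] at h7
      obtain ⟨g, hg, hgs⟩ := D.exD hp (el_mem w) h7
      rw [e, hgs s, h2, T₀_eq]
      exact D.QQ hp hg (D.res.N_le_Q hp (D.res.t_N hp)) s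
  · -- d2
    intro v w w' hvw hvw' x y hy
    have hy' : y = D.TT (el w') x + D.TT (el v * el w') x + D.TT (el w') (D.TT (el v * el w') x) := hy
    show D.TT (el w) y + D.TT (el v * el w) y + D.TT (el w) (D.TT (el v * el w) y) = 0
    have h7 : D.f (el v) (el w) = 0 := hvw
    have h7' : D.f (el v) (el w') = 0 := hvw'
    rcases D.cases (el_mem v) with ⟨h1, -, -⟩ | ⟨p, hp, h1, h2, h3⟩
    · have e : D.TT (el v * el w) = D.TT (el w) := by
        rcases h1 with h1 | h1 <;> rw [h1]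
        · rw [one_mul]
        · rw [D.res.U_comm _ hz _ (el_mem w), D.TT_mulz (el_mem w)]
      rw [e, D.twoS, zero_add]
      rcases D.cases (el_mem w) with ⟨-, h, -⟩ | ⟨q, hq, -, h5, h6⟩
      · rw [h]; rfl
      · rw [h5]; exact D.T₀_sq hq y
    · have e : ∀ w : D.E, D.TT (el v * el w) = D.TT (p * el w) := by
        intro w
        rcases h1 with h1 | h1
        · rw [h1]
        · have hpU := D.res.Δ_U p hp
          have e1 : p * D.z * el w = p * el w * D.z := by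
            rw [mul_assoc, D.res.U_comm _ hz _ (el_mem w), ← mul_assoc]
          rw [h1, e1, D.TT_mulz (mul_mem hpU (el_mem w))]
      rw [h3 _ (el_mem w)] at h7
      rw [h3 _ (el_mem w')] at h7'
      obtain ⟨g, hg, hgs⟩ := D.exD hp (el_mem w) h7
      obtain ⟨g', hg', hgs'⟩ := D.exD hp (el_mem w') h7'
      rw [e, hgs' x] at hy'
      rw [e, hgs y, hy']
      exact D.QQ hp hg' hg x
  · -- ker
    intro s hs
    obtain ⟨x, hx, rfl⟩ := D.cl_surj s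
    rw [D.cl_eq_zero hx]
    refine D.C14' (D.Γ_O hx) fun p hp => ?_
    have h1 : D.TT p (D.cl x) = 0 := hs (ve (D.res.Δ_U p hp))
    rw [D.TT_Δ hp, D.T₀_cl hp hx, D.cl_eq_zero (D.NU_Γ hp (D.br_NU hp (D.Γ_O hx)))] at h1
    exact h1

/-- `Σ_p = (N_p ∩ C(U)) U / U` -/
theorem mem_range {p : G} (hp : p ∈ D.Δ) (s : D.S) :
    s ∈ (D.T (ve (D.res.Δ_U p hp))).range ↔ ∃ n, D.NU p n ∧ D.cl n = s := by
  have eT : ∀ s, D.T (ve (D.res.Δ_U p hp)) s = D.T₀ p s := fun s => by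
    show D.TT p s = _
    rw [D.TT_Δ hp]
  constructor
  · rintro ⟨s, rfl⟩
    obtain ⟨x, hx, rfl⟩ := D.cl_surj s
    exact ⟨_, D.br_NU hp (D.Γ_O hx), by rw [eT, D.T₀_cl hp hx]⟩
  · rintro ⟨n, hn, rfl⟩
    obtain ⟨q, hq, h1⟩ := D.res.exists_q1 hp
    have hpU := D.res.Δ_U p hp
    have hqU := D.res.Δ_U q hq
    have h2 : D.F (ve hqU) (ve hpU) = 1 := by
      show D.f q p = 1
      rw [D.res.f_symm q hqU p hpU]; exact h1
    have h3 := D.ops.tri _ _ h2 (D.cl n)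
    have h4 : D.T₀ q (D.T₀ p (D.T₀ q (D.cl n))) = D.T₀ q (D.cl n) := by
      have e2 : ∀ s, D.T (ve hqU) s = D.T₀ q s := fun s => by
        show D.TT q s = _
        rw [D.TT_Δ hq]
      have := h3
      simp only [e2, eT] at this
      exact this
    -- `n + T_p T_q n ∈ Σ_p` is killed by `T_q`
    have hG := D.NU_Γ hp hn
    have h5 := D.br_NU hq (D.Γ_O hG)
    have h6 := D.br_NU hp (D.Γ_O (D.NU_Γ hq h5))
    obtain ⟨k, hk⟩ : ∃ k, k = n * D.t q * n⁻¹ * (D.t q)⁻¹ := ⟨_, rfl⟩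
    rw [← hk] at h5 h6
    obtain ⟨l, hl⟩ : ∃ l, l = k * D.t p * k⁻¹ * (D.t p)⁻¹ := ⟨_, rfl⟩
    rw [← hl] at h6
    have e1 : D.T₀ p (D.T₀ q (D.cl n)) = D.cl l := by
      rw [D.T₀_cl hq hG, ← hk, D.T₀_cl hp (D.NU_Γ hq h5), ← hl]
    have h7 := D.inj1 hp hq h1 (D.NU_mul hn h6) (by
      rw [D.cl_mul hG (D.NU_Γ hp h6), ← e1, map_add, h4, D.twoS])
    rw [D.cl_mul hG (D.NU_Γ hp h6), ← e1] at h7
    refine ⟨D.T₀ q (D.cl n), ?_⟩
    rw [eT]
    exact (D.ops.eq_of_add h7).symm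

/-- `S` is generated by the `Σ_v` -/
theorem gen (W : AddSubgroup D.S) (hW : ∀ v, (D.T v).range ≤ W) : W = ⊤ := by
  rw [eq_top_iff]
  intro s _
  obtain ⟨x, hx, rfl⟩ := D.cl_surj s
  have key : ∀ x ∈ closure {n | ∃ p ∈ D.Δ, n ∈ Np D.z p ∧ ∀ u ∈ D.U, n * u = u * n}, D.cl x ∈ W := by
    intro x hx
    induction hx using closure_induction with
    | mem n hn =>
      obtain ⟨p, hp, hn1, hn2⟩ := hn
      exact hW _ ((D.mem_range hp _).2 ⟨n, ⟨hn1, hn2⟩, rfl⟩)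
    | one => rw [D.cl_one]; exact W.zero_mem
    | mul x y hxG hyG hx hy =>
      rw [D.cl_mul (show x ∈ D.Γ from hxG) (show y ∈ D.Γ from hyG)]
      exact W.add_mem hx hy
    | inv x hxG hx => rw [D.cl_inv (show x ∈ D.Γ from hxG)]; exact hx
  exact key x hx

end OpD

end Cfsg.Agent.Omega.HOneTwo.OpInst

end

section


/-!
# II.0h1, `q = 2`, F4-type: (19), (20) of #16429 on `OpD`

* `OpSys.hyp` : hyperbolic pairs by descent;
* `OpD.O_eq` : (20): `O₂(M) = Γ` if `|U| = 2 · 4³`;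
* `OpD.card_Γ` : `|Γ| = |S| |U|`, `|S| = |Σ_q|²`;
* `OpD.dead` : (19): `Γ` is abelian if `|U| = 2 · 4²`, `|Σ_q| = 4`.
-/

set_option autoImplicit false
set_option linter.unusedSectionVars false
set_option linter.dupNamespace false

namespace Cfsg.Agent.Omega.HOneTwo.OpSys

namespace OpSys

variable {E S : Type*} [AddCommGroup E] [AddCommGroup S] {f : E → E → ZMod 2} {T : E → S →+ S}

/-- one step of the descent -/
theorem hyp [Finite E] (h : OpSys f T) (R : AddSubgroup E) (hR : ∀ c ∈ R, ∀ e, f e c = 0) (n : ℕ)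
    (D : AddSubgroup E) (hD : ∀ d ∈ D, d ∉ R → ∃ d' ∈ D, f d d' = 1) (hRD : R ≤ D)
    (hc : Nat.card D = 4 ^ (n + 1) * Nat.card R) :
    ∃ r ∈ D, ∃ r' ∈ D, f r r' = 1 ∧ ∃ D' : AddSubgroup E, D' ≤ D ∧ (∀ d ∈ D', f r d = 0 ∧ f r' d = 0) ∧
      (∀ d ∈ D', d ∉ R → ∃ d' ∈ D', f d d' = 1) ∧ R ≤ D' ∧ Nat.card D' = 4 ^ n * Nat.card R := by
  have hne : ∃ d ∈ D, d ∉ R := by
    by_contra hcon
    push Not at hcon
    have : D = R := le_antisymm hcon hRD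
    rw [this] at hc
    have h0 : 0 < Nat.card R := Nat.card_pos
    have h4 : 4 ≤ 4 ^ (n + 1) := by
      calc 4 = 4 ^ 1 := by norm_num
        _ ≤ 4 ^ (n + 1) := Nat.pow_le_pow_right (by norm_num) (by omega)
    nlinarith
  obtain ⟨r, hrD, hrR⟩ := hne
  obtain ⟨r', hrD', hrr⟩ := hD r hrD hrR
  have hrr' : f r' r = 1 := by rw [h.symm]; exact hrr
  let φ : D →+ ZMod 2 × ZMod 2 :=
    { toFun := fun d => (f r d, f r' d)
      map_zero' := by
        have z1 : f r 0 = 0 := by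
          have := h.addr 0 0 r; simp at this; exact this
        have z2 : f r' 0 = 0 := by
          have := h.addr 0 0 r'; simp at this; exact this
        simp [z1, z2]
      map_add' := by
        intro x y
        simp [h.addr] }
  have hφ : Function.Surjective φ := by
    have e1 : φ ⟨r, hrD⟩ = (0, 1) := by
      show (f r r, f r' r) = (0, 1); rw [h.alt, hrr']
    have e2 : φ ⟨r', hrD'⟩ = (1, 0) := by
      show (f r r', f r' r') = (1, 0); rw [h.alt, hrr]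
    rintro ⟨a, b⟩
    rcases z2 a with rfl | rfl <;> rcases z2 b with rfl | rfl
    · exact ⟨0, map_zero φ⟩
    · exact ⟨_, e1⟩
    · exact ⟨_, e2⟩
    · refine ⟨⟨r, hrD⟩ + ⟨r', hrD'⟩, ?_⟩
      rw [map_add, e1, e2]; rfl
  let D' : AddSubgroup E := φ.ker.map D.subtype
  have memD' : ∀ d, d ∈ D' ↔ d ∈ D ∧ f r d = 0 ∧ f r' d = 0 := by
    intro d
    constructor
    · rintro ⟨⟨e, he⟩, hk, rfl⟩
      have hk' : φ ⟨e, he⟩ = 0 := hk
      exact ⟨he, congrArg Prod.fst hk', congrArg Prod.snd hk'⟩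
    · rintro ⟨hd, h1, h2⟩
      refine ⟨⟨d, hd⟩, ?_, rfl⟩
      show φ ⟨d, hd⟩ = 0
      exact Prod.ext h1 h2
  have cD' : Nat.card D' = 4 ^ n * Nat.card R := by
    have c1 : Nat.card D' = Nat.card φ.ker :=
      Nat.card_congr (φ.ker.equivMapOfInjective D.subtype D.subtype_injective).symm.toEquiv
    have c2 : Nat.card D = Nat.card (D ⧸ φ.ker) * Nat.card φ.ker :=
      AddSubgroup.card_eq_card_quotient_mul_card_addSubgroup φ.ker
    have c3 : Nat.card (D ⧸ φ.ker) = 4 := by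
      rw [Nat.card_congr (QuotientAddGroup.quotientKerEquivOfSurjective φ hφ).toEquiv]
      simp
    rw [c3, hc, pow_succ] at c2
    rw [c1]
    have : 4 * Nat.card φ.ker = 4 * (4 ^ n * Nat.card R) := by rw [← c2]; ring
    exact Nat.eq_of_mul_eq_mul_left (by norm_num) this
  refine ⟨r, hrD, r', hrD', hrr, D', fun d hd => ((memD' d).1 hd).1, fun d hd => ((memD' d).1 hd).2, ?_,
    fun c hcR => (memD' c).2 ⟨hRD hcR, hR c hcR r, hR c hcR r'⟩, cD'⟩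
  intro d hd hdR
  obtain ⟨hdD, hrd, hrd'⟩ := (memD' d).1 hd
  obtain ⟨e, he, hde⟩ := hD d hdD hdR
  have hdr : f d r = 0 := by rw [h.symm]; exact hrd
  have hdr' : f d r' = 0 := by rw [h.symm]; exact hrd'
  rcases z2 (f r e) with a | a <;> rcases z2 (f r' e) with b | b
  · exact ⟨e, (memD' e).2 ⟨he, a, b⟩, hde⟩
  · refine ⟨e + r, (memD' _).2 ⟨D.add_mem he hrD, ?_, ?_⟩, ?_⟩
    · rw [h.addr, a, h.alt, add_zero]
    · rw [h.addr, b, hrr']; decide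
    · rw [h.addr, hde, hdr, add_zero]
  · refine ⟨e + r', (memD' _).2 ⟨D.add_mem he hrD', ?_, ?_⟩, ?_⟩
    · rw [h.addr, a, hrr]; decide
    · rw [h.addr, b, h.alt, add_zero]
    · rw [h.addr, hde, hdr', add_zero]
  · refine ⟨e + r + r', (memD' _).2 ⟨D.add_mem (D.add_mem he hrD) hrD', ?_, ?_⟩, ?_⟩
    · rw [h.addr, h.addr, a, h.alt, hrr]; decide
    · rw [h.addr, h.addr, b, h.alt, hrr']; decide
    · rw [h.addr, h.addr, hde, hdr, hdr', add_zero, add_zero]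

theorem top_props (h : OpSys f T) (R : AddSubgroup E) (hR : ∀ c, c ∈ R ↔ ∀ e, f e c = 0) :
    ∀ d ∈ (⊤ : AddSubgroup E), d ∉ R → ∃ d' ∈ (⊤ : AddSubgroup E), f d d' = 1 := by
  intro d _ hd
  rw [hR] at hd
  push Not at hd
  obtain ⟨e, he⟩ := hd
  exact ⟨e, trivial, by rw [h.symm]; exact (z2 _).resolve_left he⟩

/-- rank 4: two orthogonal hyperbolic pairs -/
theorem hyp_two [Finite E] (h : OpSys f T) (R : AddSubgroup E) (hR : ∀ c, c ∈ R ↔ ∀ e, f e c = 0) {n : ℕ}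
    (hc : Nat.card E = 4 ^ (n + 2) * Nat.card R) : ∃ p q r r', f p q = 1 ∧ f p r = 0 ∧ f q r = 0 ∧ f p r' = 0 ∧
      f q r' = 0 ∧ f r r' = 1 := by
  obtain ⟨p, -, q, -, hpq, D1, -, h1, h2, h3, h4⟩ := h.hyp R (fun c hc => (hR c).1 hc) (n + 1) ⊤
    (h.top_props R hR) le_top (by rw [← hc]; simp)
  obtain ⟨r, hr, r', hr', hrr, -⟩ := h.hyp R (fun c hc => (hR c).1 hc) n D1 h2 h3 h4
  exact ⟨p, q, r, r', hpq, (h1 r hr).1, (h1 r hr).2, (h1 r' hr').1, (h1 r' hr').2, hrr⟩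

/-- rank ≥ 6: `Three` -/
theorem hyp_three [Finite E] (h : OpSys f T) (R : AddSubgroup E) (hR : ∀ c, c ∈ R ↔ ∀ e, f e c = 0) {n : ℕ}
    (hc : Nat.card E = 4 ^ (n + 3) * Nat.card R) : ∃ p q, f p q = 1 ∧ Three f p q := by
  obtain ⟨p, -, q, -, hpq, D1, -, h1, h2, h3, h4⟩ := h.hyp R (fun c hc => (hR c).1 hc) (n + 2) ⊤
    (h.top_props R hR) le_top (by rw [← hc]; simp)
  obtain ⟨a, ha, a', ha', haa, D2, hD2, k1, k2, k3, k4⟩ := h.hyp R (fun c hc => (hR c).1 hc) (n + 1) D1 h2 h3 h4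
  obtain ⟨b, hb, b', hb', hbb, -⟩ := h.hyp R (fun c hc => (hR c).1 hc) n D2 k2 k3 k4
  exact ⟨p, q, hpq, h.three_of (h1 a ha).1 (h1 a ha).2 (h1 a' ha').1 (h1 a' ha').2 (h1 b (hD2 hb)).1
    (h1 b (hD2 hb)).2 (h1 b' (hD2 hb')).1 (h1 b' (hD2 hb')).2 haa hbb (k1 b hb).1 (k1 b' hb').1 (k1 b hb).2
    (k1 b' hb').2⟩

end OpSys

end Cfsg.Agent.Omega.HOneTwo.OpSys

namespace Cfsg.Agent.Omega.HOneTwo.OpInst

open Subgroup Cfsg.Agent.Omega.BTwo Cfsg.Agent.Omega.HTwo.Eight Cfsg.Agent.Omega.HOneTwo.OpSys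

universe u

variable {G : Type u} [Group G]

namespace OpD

variable (D : OpD G) [Finite G]

/-! ### the cocycle of `o ∈ O₂(M)` -/

/-- `[o, m]` in `S` -/
noncomputable def cc (o m : G) : D.S := D.cl (o * m * o⁻¹ * m⁻¹)

theorem cc_mul {o m n : G} (hm : m ∈ D.M) (h1 : o * m * o⁻¹ * m⁻¹ ∈ D.Γ)
    (h2 : o * n * o⁻¹ * n⁻¹ ∈ D.Γ) : D.cc o (m * n) = D.cc o m + D.act m (D.cc o n) := by
  unfold cc
  rw [D.act_cl hm h2, ← D.cl_mul h1 (D.Γ_conj hm h2)]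
  congr 1
  group

theorem cc_mem {o m n : G} (hm : m ∈ D.M) (h1 : o * m * o⁻¹ * m⁻¹ ∈ D.Γ)
    (h2 : o * n * o⁻¹ * n⁻¹ ∈ D.Γ) : o * (m * n) * o⁻¹ * (m * n)⁻¹ ∈ D.Γ := by
  have e : o * (m * n) * o⁻¹ * (m * n)⁻¹ = (o * m * o⁻¹ * m⁻¹) * (m * (o * n * o⁻¹ * n⁻¹) * m⁻¹) := by group
  rw [e]
  exact mul_mem h1 (D.Γ_conj hm h2)

theorem oc_mem {o k : G} (ho : o ∈ O2 D.M) (hk : k ∈ D.Γ) : o * k * o⁻¹ * k⁻¹ ∈ D.U := by
  rcases D.OG o ho k hk with h | h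
  · have e : o * k * o⁻¹ * k⁻¹ = 1 := by rw [h]; group
    rw [e]; exact one_mem _
  · have e : o * k * o⁻¹ * k⁻¹ = D.z := by rw [h]; group
    rw [e]; exact D.res.z_U

theorem cc_Γ {o k : G} (ho : o ∈ O2 D.M) (hk : k ∈ D.Γ) : D.cc o k = 0 := by
  unfold cc
  have h1 := D.oc_mem ho hk
  rw [D.cl_eq_zero (D.U_Γ h1)]
  exact h1

/-- `[o, t_p]` -/
theorem cct_mem {o p : G} (ho : o ∈ O2 D.M) (hp : p ∈ D.Δ) : o * D.t p * o⁻¹ * (D.t p)⁻¹ ∈ D.Γ :=
  D.NU_Γ hp (D.br_NU hp ho)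

theorem act_Γ {k : G} (hk : k ∈ D.Γ) (s : D.S) : D.act k s = s := D.act_O (D.Γ_O hk) s

theorem T₀_cct {o p : G} (ho : o ∈ O2 D.M) (hp : p ∈ D.Δ) : D.T₀ p (D.cc o (D.t p)) = 0 :=
  D.T₀_zero hp (D.br_NU hp ho)

theorem cct_comm {o p q : G} (ho : o ∈ O2 D.M) (hp : p ∈ D.Δ) (hq : q ∈ D.Δ) (h0 : D.f p q = 0) :
    D.T₀ p (D.cc o (D.t q)) = D.T₀ q (D.cc o (D.t p)) := by
  have h1 := D.res.t_M hp
  have h2 := D.res.t_M hq
  have hc : D.t p ∈ Cp q := mem_Cp.2 (D.res.t_0 p hp q (D.res.Δ_U q hq) h0)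
  have h3 := N_normal hc (D.res.t_N hq)
  have h4 := D.NU_of_mv hq h3 (D.res.conj_mv h1 (D.res.t_mv hq))
  obtain ⟨k, hk⟩ : ∃ k, k = (D.t q)⁻¹ * (D.t p * D.t q * (D.t p)⁻¹) := ⟨_, rfl⟩
  rw [← hk] at h4
  have hkG := D.NU_Γ hq h4
  have e : D.t p * D.t q = D.t q * (k * D.t p) := by rw [hk]; group
  have m1 := D.cct_mem ho hp
  have m2 := D.cct_mem ho hq
  have mk : o * k * o⁻¹ * k⁻¹ ∈ D.Γ := D.U_Γ (D.oc_mem ho hkG)
  have e1 := D.cc_mul h1 m1 m2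
  have e2 := D.cc_mul h2 m2 (D.cc_mem (D.Γ_M hkG) mk m1)
  rw [D.cc_mul (D.Γ_M hkG) mk m1, D.cc_Γ ho hkG, D.act_Γ hkG, zero_add] at e2
  rw [e, e2, D.act_eq p, D.act_eq q] at e1
  have e3 : D.cc o (D.t p) + D.cc o (D.t q) + D.T₀ q (D.cc o (D.t p)) =
      D.cc o (D.t p) + D.cc o (D.t q) + D.T₀ p (D.cc o (D.t q)) := by
    calc D.cc o (D.t p) + D.cc o (D.t q) + D.T₀ q (D.cc o (D.t p)) =
        D.cc o (D.t q) + (D.cc o (D.t p) + D.T₀ q (D.cc o (D.t p))) := by abel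
      _ = _ := by rw [e1]; abel
  exact (add_left_cancel e3).symm

theorem cct_conj {o p q : G} (ho : o ∈ O2 D.M) (hp : p ∈ D.Δ) (hq : q ∈ D.Δ) (h1 : D.f p q = 1) :
    D.cc o (D.t (p * q * D.z)) = D.cc o (D.t q) + D.T₀ q (D.cc o (D.t p)) + D.T₀ p (D.cc o (D.t q)) +
      D.T₀ p (D.T₀ q (D.cc o (D.t p))) := by
  have h2 := D.res.t_M hp
  have h3 := D.res.t_M hq
  have hpq := D.res.mul1 p hp q hq h1
  have h4 := D.NU_of_mv hpq (D.res.tt_N hp hq h1) (D.res.conj_mv h2 (D.res.t_mv hq))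
  obtain ⟨k, hk⟩ : ∃ k, k = (D.t (p * q * D.z))⁻¹ * (D.t p * D.t q * (D.t p)⁻¹) := ⟨_, rfl⟩
  rw [← hk] at h4
  have hkG := D.NU_Γ hpq h4
  have e : D.t (p * q * D.z) * k = D.t p * (D.t q * D.t p) := by
    rw [hk, D.res.t_inv hp]; group
  have m1 := D.cct_mem ho hp
  have m2 := D.cct_mem ho hq
  have m3 := D.cct_mem ho hpq
  have mk : o * k * o⁻¹ * k⁻¹ ∈ D.Γ := D.U_Γ (D.oc_mem ho hkG)
  have e1 := D.cc_mul (D.res.t_M hpq) m3 mk
  rw [D.cc_Γ ho hkG, map_zero, add_zero, e, D.cc_mul h2 m1 (D.cc_mem h3 m2 m1), D.cc_mul h3 m2 m1] at e1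
  rw [← e1, D.act_eq q, D.act_eq p]
  simp only [map_add]
  rw [D.T₀_cct ho hp]
  have e3 : ∀ a b c d g : D.S, a + (b + (a + c) + (d + (0 + g))) = b + c + d + g := by
    intro a b c d g
    calc a + (b + (a + c) + (d + (0 + g))) = (a + a) + (b + c + d + g) := by abel
      _ = _ := by rw [D.twoS, zero_add]
  exact e3 _ _ _ _ _

open Classical in
/-- the family of `o` -/
noncomputable def ta (o u : G) : D.S :=
  if u ∈ D.Δ then D.cc o (D.t u) else if u * D.z ∈ D.Δ then D.cc o (D.t (u * D.z)) else 0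

theorem ta_Δ (o : G) {p : G} (hp : p ∈ D.Δ) : D.ta o p = D.cc o (D.t p) := if_pos hp

theorem ta_pz (o : G) {p : G} (hp : p ∈ D.Δ) : D.ta o (p * D.z) = D.cc o (D.t p) := by
  have e : p * D.z * D.z = p := by rw [mul_assoc, D.res.zz, mul_one]
  rw [ta, if_neg (D.res.inj p hp), e, if_pos hp]

theorem ta_one (o : G) : D.ta o 1 = 0 := by
  rw [ta, if_neg D.res.Δ_1, one_mul, if_neg D.res.Δ_z]

theorem ta_z (o : G) : D.ta o D.z = 0 := by
  rw [ta, if_neg D.res.Δ_z, D.res.zz, if_neg D.res.Δ_1]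

theorem ta_mulz (o : G) {u : G} (hu : u ∈ D.U) : D.ta o (u * D.z) = D.ta o u := by
  rcases D.res.cover u hu with rfl | rfl | h | h
  · rw [one_mul, ta_z, ta_one]
  · rw [D.res.zz, ta_z, ta_one]
  · rw [D.ta_pz o h, D.ta_Δ o h]
  · have e : u * D.z * D.z = u := by rw [mul_assoc, D.res.zz, mul_one]
    rw [D.ta_Δ o h]
    have := D.ta_pz o h
    rw [e] at this
    exact this.symm

/-- the cases, with `ta` -/
theorem cases' (o : G) {u : G} (hu : u ∈ D.U) :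
    ((u = 1 ∨ u = D.z) ∧ D.TT u = 0 ∧ (∀ w ∈ D.U, D.f u w = 0) ∧ D.ta o u = 0) ∨
    ∃ p ∈ D.Δ, (u = p ∨ u = p * D.z) ∧ D.TT u = D.T₀ p ∧ (∀ w ∈ D.U, D.f u w = D.f p w) ∧
      D.ta o u = D.cc o (D.t p) := by
  rcases D.cases hu with ⟨h1, h2, h3⟩ | ⟨p, hp, h1, h2, h3⟩
  · refine Or.inl ⟨h1, h2, h3, ?_⟩
    rcases h1 with rfl | rfl
    · exact D.ta_one o
    · exact D.ta_z o
  · refine Or.inr ⟨p, hp, h1, h2, h3, ?_⟩
    rcases h1 with rfl | rfl
    · exact D.ta_Δ o hp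
    · exact D.ta_pz o hp

theorem ta_mul (o : G) {u v p q : G} (hu : u = p ∨ u = p * D.z) (hv : v = q ∨ v = q * D.z) (hp : p ∈ D.Δ)
    (hq : q ∈ D.Δ) : D.ta o (u * v) = D.ta o (p * q) := by
  have hpU := D.res.Δ_U p hp
  have hqU := D.res.Δ_U q hq
  have hz := D.res.z_U
  rcases hu with rfl | rfl <;> rcases hv with rfl | rfl
  · rfl
  · rw [← mul_assoc, D.ta_mulz o (mul_mem hpU hqU)]
  · rw [mul_assoc, D.res.U_comm _ hz _ hqU, ← mul_assoc, D.ta_mulz o (mul_mem hpU hqU)]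
  · have e : p * D.z * (q * D.z) = p * q := by
      calc p * D.z * (q * D.z) = p * (D.z * q) * D.z := by group
        _ = p * q * (D.z * D.z) := by rw [D.res.U_comm _ hz _ hqU]; group
        _ = p * q := by rw [D.res.zz, mul_one]
    rw [e]

/-- the family is a cocycle -/
theorem coc {o : G} (ho : o ∈ O2 D.M) : OpSys.Coc D.F D.T (fun v => D.ta o (el v)) where
  mem := by
    intro v
    show D.ta o (el v) ∈ (D.TT (el v)).range
    rcases D.cases' o (el_mem v) with ⟨-, -, -, h⟩ | ⟨p, hp, h1, h2, h3, h4⟩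
    · rw [h]; exact AddSubgroup.zero_mem _
    · rw [h4, h2]
      have := (D.mem_range hp (D.cc o (D.t p))).2 ⟨_, D.br_NU hp ho, rfl⟩
      have e : (D.T (ve (D.res.Δ_U p hp))).range = (D.T₀ p).range := by
        show (D.TT p).range = _
        rw [D.TT_Δ hp]
      rwa [e] at this
  comm := by
    intro v w hvw
    show D.TT (el v) (D.ta o (el w)) = D.TT (el w) (D.ta o (el v))
    rcases D.cases' o (el_mem v) with ⟨-, h, -, h'⟩ | ⟨p, hp, h1, h2, h3, h4⟩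
    · rw [h, h', map_zero]; rfl
    · rcases D.cases' o (el_mem w) with ⟨-, h, -, h'⟩ | ⟨q, hq, k1, k2, k3, k4⟩
      · rw [h, h', map_zero]; rfl
      · rw [h2, k2, h4, k4]
        refine D.cct_comm ho hp hq ?_
        have h7 : D.f (el v) (el w) = 0 := hvw
        rwa [h3 _ (el_mem w), D.f_right (el_mem w) (D.res.Δ_U p hp) hq k3] at h7
  conj := by
    intro v w hvw
    show D.ta o (el v * el w) = D.ta o (el w) + D.TT (el w) (D.ta o (el v)) + D.TT (el v) (D.ta o (el w)) +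
      D.TT (el v) (D.TT (el w) (D.ta o (el v)))
    have h7 : D.f (el v) (el w) = 1 := hvw
    rcases D.cases' o (el_mem v) with ⟨-, -, h, -⟩ | ⟨p, hp, h1, h2, h3, h4⟩
    · exfalso
      rw [h _ (el_mem w)] at h7
      exact zero_ne_one h7
    · rcases D.cases' o (el_mem w) with ⟨-, -, h, -⟩ | ⟨q, hq, k1, k2, k3, k4⟩
      · exfalso
        rw [D.res.f_symm _ (el_mem v) _ (el_mem w), h _ (el_mem v)] at h7
        exact zero_ne_one h7
      · rw [h3 _ (el_mem w), D.f_right (el_mem w) (D.res.Δ_U p hp) hq k3] at h7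
        have hpq := mul_mem (D.res.Δ_U p hp) (D.res.Δ_U q hq)
        rw [D.ta_mul o h1 k1 hp hq, ← D.ta_mulz o hpq, D.ta_Δ o (D.res.mul1 p hp q hq h7), h2, k2, h4, k4]
        exact D.cct_conj ho hp hq h7

/-! ### the radical and the cardinalities -/

/-- `⟨z⟩` in `E` -/
def R (D : OpD G) : AddSubgroup D.E where
  carrier := {v | el v = 1 ∨ el v = D.z}
  zero_mem' := Or.inl el_zero
  add_mem' := by
    rintro v w hv hw
    show el v * el w = 1 ∨ el v * el w = D.z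
    rcases hv with hv | hv <;> rcases hw with hw | hw <;> rw [hv, hw]
    · exact Or.inl (mul_one 1)
    · exact Or.inr (one_mul _)
    · exact Or.inr (mul_one _)
    · exact Or.inl D.res.zz
  neg_mem' := by
    rintro v hv
    have e : el (-v) = (el v)⁻¹ := rfl
    show el (-v) = 1 ∨ el (-v) = D.z
    rw [e]
    rcases hv with hv | hv <;> rw [hv]
    · exact Or.inl inv_one
    · exact Or.inr D.z_inv

omit [Finite G] in
theorem mem_R {c : D.E} : c ∈ D.R ↔ ∀ e, D.F e c = 0 := by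
  constructor
  · rintro (h | h) e
    · show D.f (el e) (el c) = 0
      rw [h]; exact D.res.f_one (el_mem e)
    · show D.f (el e) (el c) = 0
      rw [h]; exact D.res.f_z' (el_mem e)
  · intro h
    refine D.res.f_rad _ (el_mem c) fun v hv => ?_
    rw [D.res.f_symm _ (el_mem c) v hv]
    exact h (ve hv)

omit [Finite G] in
theorem card_R : Nat.card D.R = 2 := by
  have e : (D.R : Set D.E) = {(0 : D.E), ve D.res.z_U} := by
    ext v
    constructor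
    · rintro (h | h)
      · exact Or.inl (el_inj h)
      · exact Or.inr (el_inj h)
    · rintro (h | h)
      · rw [h]; exact Or.inl rfl
      · rw [Set.mem_singleton_iff] at h; rw [h]; exact Or.inr rfl
  have h1 : Nat.card D.R = (D.R : Set D.E).ncard := rfl
  rw [h1, e, Set.ncard_pair]
  intro h
  have h2 : (1 : G) = D.z := congrArg el h
  exact D.res.z1 h2.symm

instance : Finite D.E := inferInstanceAs (Finite (Additive D.U))

instance : Finite D.S := inferInstanceAs (Finite (Additive D.SM))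

omit [Finite G] in
theorem card_E : Nat.card D.E = Nat.card D.U := rfl

omit [Finite G] in
theorem card_Γ : Nat.card D.Γ = Nat.card D.S * Nat.card D.U := by
  have h1 := card_eq_card_quotient_mul_card_subgroup (D.U.subgroupOf D.Γ)
  rw [h1]
  congr 1
  exact Nat.card_congr (subgroupOfEquivOfLe D.U_Γ).toEquiv

/-- **(20)** `O₂(M) = Γ` -/
theorem O_eq {n : ℕ} (hU : Nat.card D.U = 2 * 4 ^ (n + 3)) : O2 D.M = D.Γ := by
  apply le_antisymm _ D.Γ_O
  intro o ho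
  obtain ⟨p, q, hpq, hm⟩ := D.ops.hyp_three D.R (fun c => D.mem_R) (n := n)
    (by rw [card_R, card_E, hU]; ring)
  obtain ⟨y, hy⟩ := D.ops.coc (D.coc ho) hpq hm
  obtain ⟨x, hx, rfl⟩ := D.cl_surj y
  have hxO : x⁻¹ * o ∈ O2 D.M := mul_mem (inv_mem (D.Γ_O hx)) ho
  have key : x⁻¹ * o ∈ D.U := by
    refine D.C14' hxO fun p hp => ?_
    have h1 : D.ta o p = D.TT p (D.cl x) := hy (ve (D.res.Δ_U p hp))
    rw [D.ta_Δ o hp, D.TT_Δ hp, T₀_eq] at h1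
    have htM := D.res.t_M hp
    have m1 := D.cct_mem ho hp
    have m2 := D.Γ_conj htM hx
    rw [D.act_cl htM hx] at h1
    rw [← D.cl_eq_zero (D.cct_mem hxO hp)]
    have e : x⁻¹ * o * D.t p * (x⁻¹ * o)⁻¹ * (D.t p)⁻¹ =
        x⁻¹ * (o * D.t p * o⁻¹ * (D.t p)⁻¹) * (D.t p * x * (D.t p)⁻¹) := by group
    have h2 : D.cl (o * D.t p * o⁻¹ * (D.t p)⁻¹) = D.cl x + D.cl (D.t p * x * (D.t p)⁻¹) := h1
    rw [e, D.cl_mul (mul_mem (inv_mem hx) m1) m2, D.cl_mul (inv_mem hx) m1, D.cl_inv hx, h2]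
    have e2 : ∀ a b : D.S, a + (a + b) + b = 0 := by
      intro a b
      calc a + (a + b) + b = (a + a) + (b + b) := by abel
        _ = 0 := by rw [D.twoS, D.twoS, add_zero]
    exact e2 _ _
  have h3 := mul_mem hx (D.U_Γ key)
  rwa [mul_inv_cancel_left] at h3

/-- `|O₂(M)| = |U| |Σ_r|²` -/
theorem card_O {n : ℕ} (hU : Nat.card D.U = 2 * 4 ^ (n + 3)) :
    Nat.card (O2 D.M) = Nat.card (D.T (ve (D.res.Δ_U _ D.r_Δ))).range ^ 2 * Nat.card D.U := by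
  obtain ⟨q, hq, h1⟩ := D.res.exists_q1 D.r_Δ
  have h2 : D.F (ve (D.res.Δ_U q hq)) (ve (D.res.Δ_U _ D.r_Δ)) = 1 := by
    show D.f q D.r = 1
    rw [D.res.f_symm q (D.res.Δ_U q hq) _ (D.res.Δ_U _ D.r_Δ)]; exact h1
  rw [D.O_eq hU, D.card_Γ, D.ops.card_S D.gen h2]

/-! ### (19) -/

open Classical in
/-- `κ(x) = 1` iff `x² ≠ 1` -/
noncomputable def kap (x : G) : ZMod 2 := if x * x = 1 then 0 else 1

open Classical in
/-- `B(x, y) = 1` iff `[x, y] ≠ 1` -/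
noncomputable def bb (x y : G) : ZMod 2 := if x * y = y * x then 0 else 1

omit [Finite G] in
theorem bb_congr {x y x' y' : G} (h : x * y = y * x ↔ x' * y' = y' * x') : bb x y = bb x' y' := by
  unfold bb
  by_cases h1 : x * y = y * x
  · rw [if_pos h1, if_pos (h.1 h1)]
  · rw [if_neg h1, if_neg fun h2 => h1 (h.2 h2)]

omit [Finite G] in
theorem kap_U {x u : G} (hx : x ∈ D.Γ) (hu : u ∈ D.U) : kap (x * u) = kap x := by
  have h1 := D.Γ_cen hx hu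
  have e : x * u * (x * u) = x * x := by
    calc x * u * (x * u) = x * (u * x) * u := by group
      _ = x * x * (u * u) := by rw [← h1]; group
      _ = x * x := by rw [D.res.U_sq u hu, mul_one]
  unfold kap
  rw [e]

omit [Finite G] in
theorem bb_U {x y u : G} (hy : y ∈ D.Γ) (hu : u ∈ D.U) : bb (x * u) y = bb x y := by
  have h1 := D.Γ_cen hy hu
  have e : x * u * y = y * (x * u) ↔ x * y = y * x := by
    constructor
    · intro h
      have h2 : x * y * u = y * x * u := by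
        calc x * y * u = x * (y * u) := by group
          _ = x * u * y := by rw [h1]; group
          _ = y * x * u := by rw [h]; group
      exact mul_right_cancel h2
    · intro h
      calc x * u * y = x * (u * y) := by group
        _ = x * y * u := by rw [← h1]; group
        _ = y * (x * u) := by rw [h]; group
  exact bb_congr e

omit [Finite G] in
theorem bb_symm (x y : G) : bb x y = bb y x := by
  exact bb_congr eq_comm

theorem comm_eq {x y : G} (hx : x ∈ D.Γ) (hy : y ∈ D.Γ) : x * y = pw D.z (bb x y) * (y * x) := by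
  unfold bb
  by_cases h : x * y = y * x
  · rw [if_pos h, pw_zero, one_mul, h]
  · rw [if_neg h, pw_one]
    exact (D.Γ_comm hx hy).resolve_left h

theorem sq_eq {x : G} (hx : x ∈ D.Γ) : x * x = pw D.z (kap x) := by
  unfold kap
  by_cases h : x * x = 1
  · rw [if_pos h, pw_zero, h]
  · rw [if_neg h, pw_one]
    exact (D.Γ_sq hx).resolve_left h

omit [Finite G] in
theorem z_pw_cen {x : G} (hx : x ∈ D.Γ) (a : ZMod 2) : x * pw D.z a = pw D.z a * x :=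
  D.Γ_cen hx (pw_mem D.res.z_U a)

theorem bb_mul {x y w : G} (hx : x ∈ D.Γ) (hy : y ∈ D.Γ) (hw : w ∈ D.Γ) :
    bb (x * y) w = bb x w + bb y w := by
  apply pw_inj D.res.z1
  apply mul_right_cancel (b := w * (x * y))
  rw [← D.comm_eq (mul_mem hx hy) hw, pw_add D.res.zz]
  calc x * y * w = x * (y * w) := by group
    _ = (x * pw D.z (bb y w)) * (w * y) := by rw [D.comm_eq hy hw]; group
    _ = pw D.z (bb y w) * (x * w) * y := by rw [D.z_pw_cen hx]; group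
    _ = (pw D.z (bb y w) * pw D.z (bb x w)) * (w * (x * y)) := by rw [D.comm_eq hx hw]; group
    _ = pw D.z (bb x w) * pw D.z (bb y w) * (w * (x * y)) := by
      rw [D.z_pw_cen (D.z_Γ |> fun h => (pw_mem h (bb y w) : pw D.z (bb y w) ∈ D.Γ))]

theorem kap_mul {x y : G} (hx : x ∈ D.Γ) (hy : y ∈ D.Γ) : kap (x * y) = kap x + kap y + bb y x := by
  apply pw_inj D.res.z1
  rw [← D.sq_eq (mul_mem hx hy), pw_add D.res.zz, pw_add D.res.zz, ← D.sq_eq hx, ← D.sq_eq hy]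
  calc x * y * (x * y) = x * (y * x) * y := by group
    _ = (x * pw D.z (bb y x)) * (x * y) * y := by rw [D.comm_eq hy hx]; group
    _ = pw D.z (bb y x) * (x * x * (y * y)) := by rw [D.z_pw_cen hx]; group
    _ = x * x * (y * y) * pw D.z (bb y x) := by
      rw [D.z_pw_cen (mul_mem (mul_mem hx hx) (mul_mem hy hy))]

/-- a representative -/
noncomputable def rp (s : D.S) : G := (D.cl_surj s).choose

theorem rp_mem (s : D.S) : D.rp s ∈ D.Γ := (D.cl_surj s).choose_spec.1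

theorem rp_cl (s : D.S) : D.cl (D.rp s) = s := (D.cl_surj s).choose_spec.2

theorem kap_cl {x y : G} (hx : x ∈ D.Γ) (hy : y ∈ D.Γ) (h : D.cl x = D.cl y) : kap x = kap y := by
  have h1 := (D.cl_eq_iff hx hy).1 h
  have e : y = x * (x⁻¹ * y) := by group
  rw [e, D.kap_U hx h1]

theorem bb_cl {x y w : G} (hx : x ∈ D.Γ) (hy : y ∈ D.Γ) (hw : w ∈ D.Γ) (h : D.cl x = D.cl y) : bb x w = bb y w := by
  have h1 := (D.cl_eq_iff hx hy).1 h
  have e : y = x * (x⁻¹ * y) := by group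
  rw [e, D.bb_U hw h1]

/-- **(19)**: rank 4 and `|Σ_q| = 4`: `Γ` is abelian -/
theorem dead (hU : Nat.card D.U = 2 * 4 ^ 2) (hS : Nat.card (D.T (ve (D.res.Δ_U _ D.r_Δ))).range = 4) :
    ∀ x ∈ D.Γ, ∀ y ∈ D.Γ, x * y = y * x := by
  obtain ⟨p, q, r, r', hpq, hpr, hqr, hpr', hqr', hrr⟩ := D.ops.hyp_two D.R (fun c => D.mem_R) (n := 0)
    (by rw [card_R, card_E, hU]; norm_num)
  have hcq : Nat.card (D.T q).range = 4 := by
    obtain ⟨q', hq', h1⟩ := D.res.exists_q1 D.r_Δ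
    have h2 : D.F (ve (D.res.Δ_U q' hq')) (ve (D.res.Δ_U _ D.r_Δ)) = 1 := by
      show D.f q' D.r = 1
      rw [D.res.f_symm q' (D.res.Δ_U q' hq') _ (D.res.Δ_U _ D.r_Δ)]; exact h1
    have h3 := D.ops.card_S D.gen h2
    rw [hS, D.ops.card_S D.gen hpq] at h3
    exact Nat.pow_left_injective (n := 2) (by norm_num) h3
  have hz := D.ops.dead_two hpq hpr hqr hpr' hqr' hrr (D.ops.sum D.gen hpq)
    (fun s t => bb (D.rp t) (D.rp s)) ?_ ?_ (fun s => kap (D.rp s)) ?_ ?_ ?_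
  · intro x hx y hy
    have h1 := hz (D.cl y) (D.cl x)
    have h2 : bb x y = 0 := by
      have e1 := D.bb_cl (D.rp_mem (D.cl x)) hx (D.rp_mem (D.cl y)) (D.rp_cl _)
      have e2 := D.bb_cl (D.rp_mem (D.cl y)) hy hx (D.rp_cl _)
      rw [bb_symm x y, ← e2, bb_symm, ← e1]
      exact h1
    have h3 := D.comm_eq hx hy
    rwa [h2, pw_zero, one_mul] at h3
  · intro s t w
    have e1 := D.bb_cl (D.rp_mem (s + t)) (mul_mem (D.rp_mem s) (D.rp_mem t)) (D.rp_mem w)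
      (by rw [D.rp_cl, D.cl_mul (D.rp_mem s) (D.rp_mem t), D.rp_cl, D.rp_cl])
    show bb (D.rp w) (D.rp (s + t)) = bb (D.rp w) (D.rp s) + bb (D.rp w) (D.rp t)
    rw [bb_symm _ (D.rp (s + t)), e1, D.bb_mul (D.rp_mem s) (D.rp_mem t) (D.rp_mem w), bb_symm _ (D.rp s),
      bb_symm _ (D.rp t)]
  · intro s t w
    have e1 := D.bb_cl (D.rp_mem (s + t)) (mul_mem (D.rp_mem s) (D.rp_mem t)) (D.rp_mem w)
      (by rw [D.rp_cl, D.cl_mul (D.rp_mem s) (D.rp_mem t), D.rp_cl, D.rp_cl])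
    show bb (D.rp (s + t)) (D.rp w) = bb (D.rp s) (D.rp w) + bb (D.rp t) (D.rp w)
    rw [e1, D.bb_mul (D.rp_mem s) (D.rp_mem t) (D.rp_mem w)]
  · intro s t
    have e1 := D.kap_cl (D.rp_mem (s + t)) (mul_mem (D.rp_mem s) (D.rp_mem t))
      (by rw [D.rp_cl, D.cl_mul (D.rp_mem s) (D.rp_mem t), D.rp_cl, D.rp_cl])
    show kap (D.rp (s + t)) = kap (D.rp s) + kap (D.rp t) + bb (D.rp t) (D.rp s)
    rw [e1, D.kap_mul (D.rp_mem s) (D.rp_mem t)]
  · intro v s hs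
    have hs' : s ∈ (D.TT (el v)).range := hs
    rcases D.cases (el_mem v) with ⟨-, h, -⟩ | ⟨p', hp', -, h2, -⟩
    · rw [h] at hs'
      obtain ⟨t, rfl⟩ := hs'
      have e1 := D.kap_cl (D.rp_mem (0 : D.S)) (one_mem _) (by rw [D.rp_cl, D.cl_one])
      show kap (D.rp (0 : D.S)) = 0
      rw [e1, kap, if_pos (mul_one 1)]
    · have h3 : s ∈ (D.T (ve (D.res.Δ_U p' hp'))).range := by
        show s ∈ (D.TT p').range
        rw [D.TT_Δ hp', ← h2]; exact hs'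
      obtain ⟨n, hn, hns⟩ := (D.mem_range hp' s).1 h3
      have e1 := D.kap_cl (D.rp_mem s) (D.NU_Γ hp' hn) (by rw [D.rp_cl, hns])
      show kap (D.rp s) = 0
      rw [e1, kap, if_pos (D.res.N_sq p' hp' n hn.1)]
  · -- `|T_r Σ_q| ≤ 2`
    intro a hpa hqa x hx y hy hx0 hy0
    by_contra hne
    have h1 := D.ops.card_W_le hqa
    rw [hcq] at h1
    have h2 : 3 ≤ Nat.card ((D.T q).range.map (D.T a)) := by
      have hsub : ({0, D.T a x, D.T a y} : Set D.S) ⊆ ((D.T q).range.map (D.T a) : Set D.S) := by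
        rintro s (h | h | h)
        · rw [h]; exact AddSubgroup.zero_mem _
        · rw [h]; exact ⟨x, hx, rfl⟩
        · rw [Set.mem_singleton_iff] at h; rw [h]; exact ⟨y, hy, rfl⟩
      have h3 := Set.ncard_le_ncard hsub (Set.toFinite _)
      have h4 : ({0, D.T a x, D.T a y} : Set D.S).ncard = 3 := by
        rw [Set.ncard_eq_three]
        exact ⟨0, D.T a x, D.T a y, hx0.symm, hy0.symm, hne, rfl⟩
      rw [h4] at h3
      exact h3
    nlinarith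

end OpD

end Cfsg.Agent.Omega.HOneTwo.OpInst

end

section


/-!
# The cardinality of a finite `F₂`-group with an alternating form: `|L| = 4 ^ n |rad|`
-/

set_option autoImplicit false

namespace Cfsg.Agent.Omega.HOneTwo.FormPow

theorem z2 (c : ZMod 2) : c = 0 ∨ c = 1 := by
  revert c; decide

variable {L : Type*} [AddCommGroup L] {g : L → L → ZMod 2}

theorem form_step (add : ∀ u v w, g (u + v) w = g u w + g v w) (symm : ∀ v w, g v w = g w v)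
    (alt : ∀ v, g v v = 0) (R : AddSubgroup L) (hR : ∀ c ∈ R, ∀ e, g e c = 0) (D : AddSubgroup L)
    (hD : ∀ d ∈ D, d ∉ R → ∃ d' ∈ D, g d d' = 1) (hRD : R ≤ D) (hne : D ≠ R) :
    ∃ D' : AddSubgroup L, (∀ d ∈ D', d ∉ R → ∃ d' ∈ D', g d d' = 1) ∧ R ≤ D' ∧
      Nat.card D = 4 * Nat.card D' := by
  have addr : ∀ u v w, g w (u + v) = g w u + g w v := fun u v w => by
    rw [symm, add, symm u, symm v]
  have hne' : ∃ d ∈ D, d ∉ R := by
    by_contra hcon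
    push Not at hcon
    exact hne (le_antisymm hcon hRD)
  obtain ⟨r, hrD, hrR⟩ := hne'
  obtain ⟨r', hrD', hrr⟩ := hD r hrD hrR
  have hrr' : g r' r = 1 := by rw [symm]; exact hrr
  let φ : D →+ ZMod 2 × ZMod 2 :=
    { toFun := fun d => (g r d, g r' d)
      map_zero' := by
        have z1 : g r 0 = 0 := by
          have := addr 0 0 r; simp at this; exact this
        have z2 : g r' 0 = 0 := by
          have := addr 0 0 r'; simp at this; exact this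
        simp [z1, z2]
      map_add' := by
        intro x y
        simp [addr] }
  have hφ : Function.Surjective φ := by
    have e1 : φ ⟨r, hrD⟩ = (0, 1) := by
      show (g r r, g r' r) = (0, 1); rw [alt, hrr']
    have e2 : φ ⟨r', hrD'⟩ = (1, 0) := by
      show (g r r', g r' r') = (1, 0); rw [alt, hrr]
    rintro ⟨a, b⟩
    rcases z2 a with rfl | rfl <;> rcases z2 b with rfl | rfl
    · exact ⟨0, map_zero φ⟩
    · exact ⟨_, e1⟩
    · exact ⟨_, e2⟩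
    · refine ⟨⟨r, hrD⟩ + ⟨r', hrD'⟩, ?_⟩
      rw [map_add, e1, e2]; rfl
  let D' : AddSubgroup L := φ.ker.map D.subtype
  have memD' : ∀ d, d ∈ D' ↔ d ∈ D ∧ g r d = 0 ∧ g r' d = 0 := by
    intro d
    constructor
    · rintro ⟨⟨e, he⟩, hk, rfl⟩
      have hk' : φ ⟨e, he⟩ = 0 := hk
      exact ⟨he, congrArg Prod.fst hk', congrArg Prod.snd hk'⟩
    · rintro ⟨hd, h1, h2⟩
      refine ⟨⟨d, hd⟩, ?_, rfl⟩
      show φ ⟨d, hd⟩ = 0
      exact Prod.ext h1 h2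
  have cD' : Nat.card D = 4 * Nat.card D' := by
    have c1 : Nat.card D' = Nat.card φ.ker :=
      Nat.card_congr (φ.ker.equivMapOfInjective D.subtype D.subtype_injective).symm.toEquiv
    have c2 : Nat.card D = Nat.card (D ⧸ φ.ker) * Nat.card φ.ker :=
      AddSubgroup.card_eq_card_quotient_mul_card_addSubgroup φ.ker
    have c3 : Nat.card (D ⧸ φ.ker) = 4 := by
      rw [Nat.card_congr (QuotientAddGroup.quotientKerEquivOfSurjective φ hφ).toEquiv]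
      simp
    rw [c2, c3, c1]
  refine ⟨D', ?_, fun c hcR => (memD' c).2 ⟨hRD hcR, hR c hcR r, hR c hcR r'⟩, cD'⟩
  intro d hd hdR
  obtain ⟨hdD, hrd, hrd'⟩ := (memD' d).1 hd
  obtain ⟨e, he, hde⟩ := hD d hdD hdR
  have hdr : g d r = 0 := by rw [symm]; exact hrd
  have hdr' : g d r' = 0 := by rw [symm]; exact hrd'
  rcases z2 (g r e) with a | a <;> rcases z2 (g r' e) with b | b
  · exact ⟨e, (memD' e).2 ⟨he, a, b⟩, hde⟩
  · refine ⟨e + r, (memD' _).2 ⟨D.add_mem he hrD, ?_, ?_⟩, ?_⟩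
    · rw [addr, a, alt, add_zero]
    · rw [addr, b, hrr']; decide
    · rw [addr, hde, hdr, add_zero]
  · refine ⟨e + r', (memD' _).2 ⟨D.add_mem he hrD', ?_, ?_⟩, ?_⟩
    · rw [addr, a, hrr]; decide
    · rw [addr, b, alt, add_zero]
    · rw [addr, hde, hdr', add_zero]
  · refine ⟨e + r + r', (memD' _).2 ⟨D.add_mem (D.add_mem he hrD) hrD', ?_, ?_⟩, ?_⟩
    · rw [addr, addr, a, alt, hrr]; decide
    · rw [addr, addr, b, alt, hrr']; decide
    · rw [addr, addr, hde, hdr, hdr', add_zero, add_zero]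

/-- `|L| = 4 ^ n |rad|` -/
theorem form_pow [Finite L] (add : ∀ u v w, g (u + v) w = g u w + g v w) (symm : ∀ v w, g v w = g w v)
    (alt : ∀ v, g v v = 0) (R : AddSubgroup L) (hR : ∀ c, c ∈ R ↔ ∀ e, g e c = 0) :
    ∃ n, Nat.card L = 4 ^ n * Nat.card R := by
  have key : ∀ k, ∀ D : AddSubgroup L, Nat.card D = k → (∀ d ∈ D, d ∉ R → ∃ d' ∈ D, g d d' = 1) → R ≤ D →
      ∃ n, Nat.card D = 4 ^ n * Nat.card R := by
    intro k
    induction k using Nat.strong_induction_on with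
    | _ k ih =>
      intro D hk hD hRD
      by_cases hne : D = R
      · exact ⟨0, by rw [hne, pow_zero, one_mul]⟩
      · obtain ⟨D', h1, h2, h3⟩ := form_step add symm alt R (fun c hc => (hR c).1 hc) D hD hRD hne
        have h4 : 0 < Nat.card D' := Nat.card_pos
        obtain ⟨n, hn⟩ := ih (Nat.card D') (by omega) D' rfl h1 h2
        exact ⟨n + 1, by rw [h3, hn, pow_succ]; ring⟩
  obtain ⟨n, hn⟩ := key _ ⊤ rfl (by
    intro d _ hd
    rw [hR] at hd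
    push Not at hd
    obtain ⟨e, he⟩ := hd
    exact ⟨e, trivial, by rw [symm]; exact (z2 _).resolve_left he⟩) le_top
  exact ⟨n, by rw [← hn]; simp⟩

end Cfsg.Agent.Omega.HOneTwo.FormPow

end

section


/-!
# II.0h1, `q = 2`, F4-type: `TS` gives `OpD`, and the end of (17)-(20) of #16429

* `Inp D` : `OM D (O₂ M)`, `Bz D`, `[O₂ M, Γ] ≤ ⟨z⟩`;  `Inp.op : OpD G`;
* `Inp.two_three` : (18);
* `Inp.f4` : `|U| = 2⁷`, `|NO r| = 2⁶`, `O₂(M) = Γ`, `|O₂(M)| = 2¹⁵`.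
-/

set_option autoImplicit false
set_option linter.unusedSectionVars false

namespace Cfsg.Agent.Omega.HOneTwo.OpInst

open Subgroup Cfsg.Agent.Omega.BTwo Cfsg.Agent.Omega.HTwo.Eight Cfsg.Agent.Omega.HOneTwo.OpSys

universe u

variable {G : Type u} [Group G]

namespace OpD

variable (D : OpD G) [Finite G]

/-- `M` permutes the operators -/
theorem TT_conj {m u : G} (hm : m ∈ D.M) (hu : u ∈ D.U) (s : D.S) :
    D.act m (D.TT u s) = D.TT (m * u * m⁻¹) (D.act m s) := by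
  have hz := D.res.conj_z hm
  have key : ∀ p ∈ D.Δ, D.act m (D.T₀ p s) = D.T₀ (m * p * m⁻¹) (D.act m s) := by
    intro p hp
    have htM := D.res.t_M hp
    have hN : m * D.t p * m⁻¹ ∈ Np D.z (m * p * m⁻¹) := by
      rw [← cj_Np (D.res.M_z hm)]
      exact conj_mem_cj (D.res.t_N hp)
    have h1 := D.act_mv (D.res.Δ_M m hm p hp) hN (D.res.conj_mv hm (D.res.t_mv hp)) (D.act m s)
    have hM : m * D.t p * m⁻¹ ∈ D.M := D.M.mul_mem (D.M.mul_mem hm htM) (D.M.inv_mem hm)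
    have e : m * D.t p * m⁻¹ * m = m * D.t p := by group
    rw [D.T₀_eq, D.T₀_eq, map_add, ← h1, ← D.act_mul hM hm, e, D.act_mul hm htM]
  have hzz : ∀ u, m * (u * D.z) * m⁻¹ = m * u * m⁻¹ * D.z := by
    intro u
    calc m * (u * D.z) * m⁻¹ = m * u * m⁻¹ * (m * D.z * m⁻¹) := by group
      _ = _ := by rw [hz]
  rcases D.cases hu with ⟨h1, h2, -⟩ | ⟨p, hp, h1, h2, -⟩
  · rw [h2]
    rcases h1 with rfl | rfl
    · have e : m * 1 * m⁻¹ = 1 := by group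
      rw [e, D.TT_one]
      show D.act m 0 = 0
      rw [map_zero]
    · rw [hz, D.TT_z]
      show D.act m 0 = 0
      rw [map_zero]
  · rw [h2, key p hp]
    have hp' := D.res.Δ_M m hm p hp
    rcases h1 with rfl | rfl
    · rw [D.TT_Δ hp']
    · rw [hzz, D.TT_pz hp']

end OpD

end Cfsg.Agent.Omega.HOneTwo.OpInst

namespace Cfsg.Agent.Omega.HOneTwo.Trans

open Subgroup Cfsg.Agent.Omega.BTwo Cfsg.Agent.Omega.HTwo.Eight Cfsg.Agent.Omega.HOneTwo.OpSys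
  Cfsg.Agent.Omega.HOneTwo.OpInst
open Cfsg.Agent.Omega.HOneTwo.OpInst.OpD (el ve el_mem)

universe u

variable {G : Type u} [Group G]

namespace TS

/-- the inputs -/
structure Inp (D : TS G) : Prop where
  hQ : ∀ p, D.Q p = Qp p
  F : OM D (O2 D.M)
  B : Bz D
  hOG : ∀ o ∈ O2 D.M, ∀ g ∈ D.Gam, o * g = g * o ∨ o * g = D.z * (g * o)

theorem Gam_eq (D : TS G) : OpInst.Gam D.z D.U D.Δ = D.Gam := by
  unfold OpInst.Gam Gam
  congr 1
  ext n
  constructor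
  · rintro ⟨p, hp, h1, h2⟩
    rw [Np_eq] at h1
    exact ⟨p, hp, D.mem_NO.2 ⟨h1, h2⟩⟩
  · rintro ⟨p, hp, h1⟩
    rw [D.mem_NO] at h1
    exact ⟨p, hp, by rw [Np_eq]; exact h1.1, h1.2⟩

variable {D : TS G}

theorem U_N {p u : G} (hp : p ∈ D.Δ) (hu : u ∈ D.U) (hn : u ∈ gen p D.z) :
    u = 1 ∨ u = p ∨ u = D.z ∨ u = p * D.z := by
  obtain ⟨m, hm, rfl⟩ := hp
  have hm' := D.M.inv_mem hm
  have h1 : m⁻¹ * u * m ∈ D.U := by
    have := gn_inv (r := D.r 0) hm' hu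
    rwa [inv_inv] at this
  have h2 : m⁻¹ * u * m ∈ gen (D.r 0) D.z := by
    have := gen_conj m⁻¹ hn
    rw [D.m_z' hm, inv_inv] at this
    have e : m⁻¹ * (m * D.r 0 * m⁻¹) * m = D.r 0 := by group
    rwa [e] at this
  have hz := D.m_z hm
  have e : u = m * (m⁻¹ * u * m) * m⁻¹ := by group
  rcases D.U_zt h1 (D.N_le_zt 0 h2) with h | h | h | h
  · left; rw [e, h]; group
  · right; right; left
    rw [e, h, hz]
  · right; left
    rw [e, h]
  · right; right; right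
    rw [e, h]
    calc m * (D.r 0 * D.z) * m⁻¹ = m * D.r 0 * m⁻¹ * (m * D.z * m⁻¹) := by group
      _ = _ := by rw [hz]

namespace Inp

variable (I : Inp D)

/-- **the instance** -/
noncomputable def op [Finite G] (I : Inp D) : OpD G where
  z := D.z
  M := D.M
  U := D.U
  Δ := D.Δ
  f := D.f
  t := D.tz
  r := D.r 0
  res := D.res I.hQ I.F.O_U I.F.U_O
  r_Δ := D.r0_Δ
  OG := by
    rw [D.Gam_eq]
    exact I.hOG
  NN := by
    intro p hp q hq h1 n hn hn'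
    rw [Np_eq] at hn hn'
    have h2 : D.φ p q = 1 := by rw [← D.f_Δ hp]; exact h1
    exact I.B.cen n fun s hs => D.BN_BB (D.N_inf hp hq h2 hn hn') s hs
  UN := by
    intro p hp u hu hn
    rw [Np_eq] at hn
    exact U_N hp hu hn
  C14 := by
    intro x hx h
    refine I.F.fourteen I.B hx fun p hp n hn => h p hp n ?_
    rw [Np_eq]
    exact hn

theorem NU_iff [Finite G] {p n : G} : I.op.NU p n ↔ n ∈ D.NO p := by
  rw [D.mem_NO]
  show n ∈ Np D.z p ∧ _ ↔ _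
  rw [Np_eq]
  exact Iff.rfl

end Inp

/-! ### the space `L = NO (r 0)` -/

/-- the group `NO (r 0)` -/
@[reducible] def NOCG (D : TS G) : CommGroup (D.NO (D.r 0)) :=
  { (inferInstance : Group (D.NO (D.r 0))) with
    mul_comm := fun a b => Subtype.ext (D.N_comm D.r0_Δ (D.mem_NO.1 a.2).1 (D.mem_NO.1 b.2).1) }

/-- `L` -/
def L (D : TS G) : Type u := Additive (D.NO (D.r 0))

noncomputable instance (D : TS G) : AddCommGroup D.L := @Additive.addCommGroup _ D.NOCG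

/-- the element -/
def le (x : D.L) : G := (Additive.toMul (α := D.NO (D.r 0)) x).1

/-- the vector -/
def lv {n : G} (hn : n ∈ D.NO (D.r 0)) : D.L := Additive.ofMul (⟨n, hn⟩ : D.NO (D.r 0))

theorem le_mem (x : D.L) : le x ∈ D.NO (D.r 0) := (Additive.toMul (α := D.NO (D.r 0)) x).2

theorem le_add (x y : D.L) : le (x + y) = le x * le y := rfl

theorem le_lv {n : G} (hn : n ∈ D.NO (D.r 0)) : le (lv hn : D.L) = n := rfl

theorem le_zero : le (0 : D.L) = 1 := rfl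

theorem le_inj {x y : D.L} (h : le x = le y) : x = y := Additive.toMul.injective (Subtype.ext h)

instance [Finite G] : Finite D.L := inferInstanceAs (Finite (Additive (D.NO (D.r 0))))

/-- the form -/
noncomputable def g (x y : D.L) : ZMod 2 := D.Hs.f (le x) (le y)

theorem le_U (x : D.L) : le x ∈ D.Hs.U := (D.mem_NO.1 (le_mem x)).1

theorem le_z (x : D.L) : D.Hs.φ D.z (le x) = 0 := (TB.mem_NO_r.1 (le_mem x)).2

section form

variable (hF : D.Hs.IsFull)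

theorem g_two (x : D.L) : x + x = 0 := le_inj (by rw [le_add, le_zero]; exact D.Hs.U_sq _ (le_U x))

theorem g_add (hF : D.Hs.IsFull) (x y w : D.L) : g (x + y) w = g x w + g y w :=
  hF.f_mul_left (le_U x) (le_U y) (le_U w)

theorem g_symm (hF : D.Hs.IsFull) (x y : D.L) : g x y = g y x := hF.f_symm (le_U x) (le_U y)

theorem g_alt (hF : D.Hs.IsFull) (x : D.L) : g x x = 0 := hF.f_self (le_U x)

theorem f_zn (n : G) : D.Hs.f D.z n = D.Hs.φ D.z n := Side.f_Δ D.zHs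

theorem f_nz (hF : D.Hs.IsFull) {n : G} (hn : n ∈ D.Hs.U) : D.Hs.f n D.z = D.Hs.φ D.z n := by
  rw [hF.f_symm hn (D.Hs.Δ_le D.zHs), f_zn]

/-- elements of `U` are in the radical -/
theorem g_U (hF : D.Hs.IsFull) {x : D.L} (hx : le x ∈ D.U) (y : D.L) : g x y = 0 := by
  have hx' := U_N D.r0_Δ hx (le_U x)
  show D.Hs.f (le x) (le y) = 0
  have hz : D.z ∈ D.Hs.U := D.Hs.Δ_le D.zHs
  have h1 : D.Hs.f D.z (le y) = 0 := by rw [f_zn]; exact le_z y
  have h2 : D.Hs.f (D.r 0) (le y) = 0 := hF.f_z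
  rcases hx' with h | h | h | h <;> rw [h]
  · exact hF.f_one
  · exact h2
  · exact h1
  · have h3 : D.Hs.f (D.r 0 * D.z) (le y) = D.Hs.f (D.r 0) (le y) + D.Hs.f D.z (le y) :=
      hF.f_mul_left D.Hs.z_mem hz (le_U y)
    rw [h3, h1, h2, add_zero]

/-- the radical of `g` is `U ∩ NO r` -/
theorem g_ker (hF : D.Hs.IsFull) {x : D.L} (hx : le x ∉ D.U) : ∃ y, g x y = 1 := by
  by_contra hcon
  push Not at hcon
  have h0 : ∀ y : D.L, g x y = 0 := fun y => (zmod_cases _).resolve_right (hcon y)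
  have hz : D.z ∈ D.Hs.U := D.Hs.Δ_le D.zHs
  obtain ⟨w, hw, hw1⟩ := D.Hs.exists_nbr D.zHs
  have hwU := D.Hs.Δ_le hw
  -- the claim for `x'` with `f x' w = 0`
  have key : ∀ x', x' ∈ D.Hs.U → (∀ y ∈ D.Hs.U, D.Hs.φ D.z y = 0 → D.Hs.f x' y = 0) → D.Hs.f x' w = 0 →
      x' = 1 ∨ x' = D.r 0 := by
    intro x' hx' h1 h2
    refine hF.rad hx' fun v hv => ?_
    have hvU := D.Hs.Δ_le hv
    rcases zmod_cases (D.Hs.φ D.z v) with h3 | h3
    · exact h1 v hvU h3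
    · have h4 := h1 (v * w) (Subgroup.mul_mem _ hvU hwU) (by
        rw [D.Hs.φ_mul D.zHs hvU hwU, h3, hw1]; decide)
      rwa [hF.f_mul_right hvU hwU hx', h2, add_zero] at h4
  have hx0 : ∀ y ∈ D.Hs.U, D.Hs.φ D.z y = 0 → D.Hs.f (le x) y = 0 := fun y hy h1 =>
    h0 (lv (TB.mem_NO_r.2 ⟨hy, h1⟩))
  rcases zmod_cases (D.Hs.f (le x) w) with h1 | h1
  · rcases key _ (le_U x) hx0 h1 with h2 | h2 <;> apply hx <;> rw [h2]
    · exact one_mem _
    · exact D.r_mem 0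
  · have h2 := key (le x * D.z) (Subgroup.mul_mem _ (le_U x) hz) (fun y hy h3 => by
      rw [hF.f_mul_left (le_U x) hz hy, hx0 y hy h3, f_zn, h3, add_zero])
      (by rw [hF.f_mul_left (le_U x) hz hwU, h1, f_zn, hw1]; decide)
    apply hx
    have e : le x = le x * D.z * D.z := by rw [mul_assoc, D.z_sq, mul_one]
    rw [e]
    rcases h2 with h2 | h2 <;> rw [h2]
    · exact Subgroup.mul_mem _ (one_mem _) D.z_mem
    · exact Subgroup.mul_mem _ (D.r_mem 0) D.z_mem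

end form

namespace Inp

variable [Finite G] (I : Inp D)

/-- `n ↦ n U` -/
noncomputable def iota : D.L →+ I.op.S where
  toFun x := I.op.cl (le x)
  map_zero' := I.op.cl_one
  map_add' x y := I.op.cl_mul (I.op.NU_Γ D.r0_Δ (I.NU_iff.2 (le_mem x))) (I.op.NU_Γ D.r0_Δ (I.NU_iff.2 (le_mem y)))

theorem NO_Γ {n : G} (hn : n ∈ D.NO (D.r 0)) : n ∈ I.op.Γ := I.op.NU_Γ D.r0_Δ (I.NU_iff.2 hn)

theorem iota_eq_zero {x : D.L} : I.iota x = 0 ↔ le x ∈ D.U := I.op.cl_eq_zero (I.NO_Γ (le_mem x))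

/-- the vector of `r` -/
noncomputable abbrev q : I.op.E := ve (I.op.res.Δ_U _ I.op.r_Δ)

theorem iota_range : I.iota.range = (I.op.T I.q).range := by
  ext s
  rw [I.op.mem_range I.op.r_Δ s]
  constructor
  · rintro ⟨x, rfl⟩
    exact ⟨le x, I.NU_iff.2 (le_mem x), rfl⟩
  · rintro ⟨n, hn, rfl⟩
    exact ⟨lv (I.NU_iff.1 hn), rfl⟩

include I in
theorem conj_NO {m n : G} (hm : m ∈ D.M) (hr : m * D.r 0 = D.r 0 * m) (hn : n ∈ D.NO (D.r 0)) :
    m * n * m⁻¹ ∈ D.NO (D.r 0) := by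
  have := D.NO_conj (D.mem_A.2 hm) hn
  rwa [conj_of_comm hr] at this

/-- `g` is invariant under `C_M(r)` -/
theorem g_conj {m : G} (hm : m ∈ D.M) (hr : m * D.r 0 = D.r 0 * m) {x y x' y' : D.L}
    (hx : I.iota x' = I.op.act m (I.iota x)) (hy : I.iota y' = I.op.act m (I.iota y)) : g x' y' = g x y := by
  have hF := I.B.full
  -- replace `x'` by `m x m⁻¹`
  have key : ∀ x x' : D.L, I.iota x' = I.op.act m (I.iota x) → ∀ w,
      g x' w = g (lv (I.conj_NO hm hr (le_mem x))) w := by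
    intro x x' hx w
    have h1 : I.iota (x' + lv (I.conj_NO hm hr (le_mem x))) = 0 := by
      have h2 : I.op.act m (I.iota x) = I.iota (lv (I.conj_NO hm hr (le_mem x))) :=
        I.op.act_cl hm (I.NO_Γ (le_mem x))
      rw [map_add, hx, h2, I.op.twoS]
    have h3 := g_U hF (I.iota_eq_zero.1 h1) w
    rw [g_add hF] at h3
    rcases zmod_cases (g x' w) with c | c <;>
      rcases zmod_cases (g (lv (I.conj_NO hm hr (le_mem x))) w) with d | d <;> rw [c, d] at h3 ⊢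
    · exact absurd h3 (by decide)
    · exact absurd h3 (by decide)
  rw [key x x' hx, g_symm hF, key y y' hy, g_symm hF]
  show D.Hs.f (m * le x * m⁻¹) (m * le y * m⁻¹) = D.Hs.f (le x) (le y)
  exact hF.f_conj (mem_centralizer_singleton_iff.2 hr) (le_U x) (le_U y)

include I in
theorem t_r {p : G} (hp : p ∈ D.Δ) (h : D.f (D.r 0) p = 0) : D.tz p * D.r 0 = D.r 0 * D.tz p := by
  refine I.op.res.t_0 p hp (D.r 0) (D.r_mem 0) ?_
  show D.f p (D.r 0) = 0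
  rw [D.f_symm (D.Ms.Δ_le hp) (D.r_mem 0), h]

/-- (iso) -/
theorem iso (s : I.op.E) (hs : I.op.F I.q s = 0) (x y x' y' : D.L) (hx : I.iota x' = I.op.T s (I.iota x))
    (hy : I.iota y' = I.op.T s (I.iota y)) : g (x + x') (y + y') = g x y := by
  have hF := I.B.full
  have hs' : D.f (D.r 0) (el s) = 0 := hs
  rcases I.op.cases (el_mem s) with ⟨-, h, -⟩ | ⟨p, hp, -, h2, h3⟩
  · have e : ∀ w, I.op.T s w = 0 := fun w => by
      show I.op.TT (el s) w = 0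
      rw [h]; rfl
    rw [e] at hx hy
    have h1 := g_U hF (I.iota_eq_zero.1 hx)
    have h2 := g_U hF (I.iota_eq_zero.1 hy)
    rw [g_add hF, h1, add_zero, g_symm hF, g_add hF, h2, add_zero, g_symm hF]
  · have hp' : D.f (D.r 0) p = 0 := by
      have h4 : D.f (el s) (D.r 0) = D.f p (D.r 0) := h3 _ (D.r_mem 0)
      rw [D.f_symm (D.r_mem 0) (D.Ms.Δ_le hp), ← h4, D.f_symm (el_mem s) (D.r_mem 0)]
      exact hs'
    have e : ∀ w, I.op.T s w = w + I.op.act (D.tz p) w := fun w => by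
      show I.op.TT (el s) w = _
      rw [h2]; rfl
    rw [e] at hx hy
    refine I.g_conj (I.op.res.t_M hp) (I.t_r hp hp') ?_ ?_
    · rw [map_add, hx, ← add_assoc, I.op.twoS, zero_add]; rfl
    · rw [map_add, hy, ← add_assoc, I.op.twoS, zero_add]; rfl

/-- `T s` and `C_M(r)` -/
theorem act_W {m : G} (hm : m ∈ D.M) (hr : m * D.r 0 = D.r 0 * m) {s : I.op.E} (hs : I.op.F I.q s = 0) :
    ∃ s', I.op.F I.q s' = 0 ∧ ∀ w ∈ (I.op.T I.q).range.map (I.op.T s),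
      I.op.act m w ∈ (I.op.T I.q).range.map (I.op.T s') := by
  have hr' : m * D.r 0 * m⁻¹ = D.r 0 := conj_of_comm hr
  have hsU := el_mem s
  have hm' : m * el s * m⁻¹ ∈ D.U := I.op.res.U_M m hm _ hsU
  refine ⟨ve hm', ?_, ?_⟩
  · have h1 : D.f (m * D.r 0 * m⁻¹) (m * el s * m⁻¹) = D.f (D.r 0) (el s) := I.op.res.f_M m hm _ (D.r_mem 0) _ hsU
    rw [hr'] at h1
    show D.f (D.r 0) (m * el s * m⁻¹) = 0
    rw [h1]; exact hs
  · rintro _ ⟨_, ⟨w, rfl⟩, rfl⟩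
    have e1 : I.op.act m (I.op.T s (I.op.T I.q w)) = I.op.TT (m * el s * m⁻¹) (I.op.act m (I.op.T I.q w)) :=
      I.op.TT_conj hm hsU _
    have e2 : I.op.act m (I.op.T I.q w) = I.op.TT (m * D.r 0 * m⁻¹) (I.op.act m w) :=
      I.op.TT_conj hm (D.r_mem 0) _
    rw [hr'] at e2
    show I.op.act m (I.op.T s (I.op.T I.q w)) ∈ _
    rw [e1, e2]
    exact ⟨_, ⟨_, rfl⟩, rfl⟩

/-- (tv) -/
theorem tv (u : D.L) (s : I.op.E) (hs : I.op.F I.q s = 0) : ∃ s', I.op.F I.q s' = 0 ∧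
    ∀ x, I.iota x ∈ (I.op.T I.q).range.map (I.op.T s) →
      I.iota (tau g u x) ∈ (I.op.T I.q).range.map (I.op.T s') := by
  have hF := I.B.full
  rcases hF.cases (le_U u) with h | ⟨y, hy, huy⟩
  · refine ⟨s, hs, fun x hx => ?_⟩
    have h1 : g u x = 0 := by
      show D.Hs.f (le u) (le x) = 0
      rcases h with h | h <;> rw [h]
      · exact hF.f_one
      · exact hF.f_z
    rw [tau_zero h1]; exact hx
  · -- the transvection of `y`
    have hyU := D.Hs.Δ_le hy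
    have h0 : D.Hs.φ D.z y = 0 := by
      have h1 := le_z u
      rcases huy with h | h <;> rw [h] at h1
      · exact h1
      · have h2 : D.Hs.φ D.z (y * D.Hs.z) = D.Hs.φ D.z y := hF.φ_mul_z D.zHs hyU
        rwa [h2] at h1
    have h0' : D.Hs.φ y D.z = 0 := (D.Hs.symm hy D.zHs).trans h0
    have hN := D.Hs.t_mem hy
    have hmr : D.Hs.t y * D.r 0 = D.r 0 * D.Hs.t y := mem_centralizer_singleton_iff.1 (D.Hs.t_A hy)
    have hmz : D.Hs.t y * D.z = D.z * D.Hs.t y := by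
      have h1 := D.Hs.t_act hy (D.Hs.Δ_le D.zHs)
      rw [h0', pw_zero, mul_one] at h1
      exact comm_of_conj h1
    have hm : D.Hs.t y ∈ D.M := D.M_r _ hmr hmz
    obtain ⟨s', hs', hW⟩ := I.act_W hm hmr hs
    refine ⟨s', hs', fun x hx => ?_⟩
    have e : I.iota (tau g u x) = I.op.act (D.Hs.t y) (I.iota x) := by
      have h1 : I.op.act (D.Hs.t y) (I.iota x) = I.op.cl (D.Hs.t y * le x * (D.Hs.t y)⁻¹) :=
        I.op.act_cl hm (I.NO_Γ (le_mem x))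
      have h2 := D.Hs.t_act hy (le_U x)
      have h3 : g u x = D.Hs.φ y (le x) := by
        show D.Hs.f (le u) (le x) = _
        rcases huy with h | h <;> rw [h]
        · exact Side.f_Δ hy
        · exact hF.f_pz hy
      rw [h1, h2, ← h3]
      rcases zmod_cases (g u x) with h4 | h4
      · rw [tau_zero h4, h4, pw_zero, mul_one]; rfl
      · rw [tau_one h4, h4, pw_one]
        have hrG : D.r 0 ∈ I.op.Γ := I.op.U_Γ (D.r_mem 0)
        have h5 : I.op.cl (le u) = I.op.cl (y * D.r 0) := by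
          rcases huy with h | h
          · rw [h, I.op.cl_mul (by rw [← h]; exact I.NO_Γ (le_mem u)) hrG, (I.op.cl_eq_zero hrG).2 (D.r_mem 0),
              add_zero]
          · rw [h]; rfl
        have hyG : y * D.r 0 ∈ I.op.Γ := by
          rcases huy with h | h
          · have h6 := I.NO_Γ (le_mem u)
            rw [h] at h6
            exact Subgroup.mul_mem _ h6 hrG
          · have h6 := I.NO_Γ (le_mem u)
            rw [h] at h6
            exact h6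
        show I.op.cl (le x * le u) = I.op.cl (le x * (y * D.r 0))
        rw [I.op.cl_mul (I.NO_Γ (le_mem x)) (I.NO_Γ (le_mem u)), I.op.cl_mul (I.NO_Γ (le_mem x)) hyG, h5]
    rw [e]
    exact hW _ hx

theorem q_perp : ∃ s s', I.op.F I.q s = 0 ∧ I.op.F I.q s' = 0 ∧ I.op.F s s' = 1 := by
  have h0 := D.r_mem 0
  have h1 := D.r_mem 1
  have f01 : D.f (D.r 0) (D.r 1) = 0 := by
    rw [D.f_Δ D.r0_Δ, D.φ_eq_zero_iff]; exact D.r_Q 1 0
  have key : ∃ v ∈ D.U, D.f (D.r 0) v = 0 ∧ D.f (D.r 1) v = 1 := by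
    by_contra hcon
    push Not at hcon
    have hc : ∀ v ∈ D.U, D.f (D.r 0) v = 0 → D.f (D.r 1) v = 0 := fun v hv hv0 =>
      (zmod_cases _).resolve_right (hcon v hv hv0)
    obtain ⟨w, hw, hw1⟩ := D.Ms.φ_ne D.r0_Δ
    have hw1' : D.f (D.r 0) w = 1 := by rw [D.f_Δ D.r0_Δ]; exact hw1
    have hr1 : D.r 1 ≠ 1 ∧ D.r 1 ≠ D.z := ⟨D.Ms.one_notin (D.r_Δ 1), D.Ms.z_notin (D.r_Δ 1)⟩
    have hr2 : D.r 2 ≠ 1 ∧ D.r 2 ≠ D.z := ⟨D.Ms.one_notin (D.r_Δ 2), D.Ms.z_notin (D.r_Δ 2)⟩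
    rcases zmod_cases (D.f (D.r 1) w) with h2 | h2
    · have h3 := D.f_rad h1 (fun v hv => by
        rcases zmod_cases (D.f (D.r 0) v) with h4 | h4
        · exact hc v hv h4
        · have h5 := hc (v * w) (Subgroup.mul_mem _ hv hw) (by
            rw [D.f_mul_right h0 hv hw, h4, hw1']; decide)
          rwa [D.f_mul_right h1 hv hw, h2, add_zero] at h5)
      rcases h3 with h3 | h3
      · exact hr1.1 h3
      · exact hr1.2 h3
    · have h3 := D.f_rad (Subgroup.mul_mem _ h0 h1) (fun v hv => by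
        rw [D.f_mul_left h0 h1 hv]
        rcases zmod_cases (D.f (D.r 0) v) with h4 | h4
        · rw [h4, hc v hv h4, add_zero]
        · have h5 := hc (v * w) (Subgroup.mul_mem _ hv hw) (by
            rw [D.f_mul_right h0 hv hw, h4, hw1']; decide)
          rw [D.f_mul_right h1 hv hw, h2] at h5
          rcases zmod_cases (D.f (D.r 1) v) with h6 | h6 <;> rw [h6] at h5 ⊢
          · exact absurd h5 (by decide)
          · rw [h4]; decide)
      have h4 : D.r 0 * D.r 1 = D.r 2 := by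
        have h5 := D.r_prod
        rw [mul_eq_one_iff_eq_inv, D.Ms.U_inv (D.r_mem 2)] at h5
        exact h5
      rw [h4] at h3
      rcases h3 with h3 | h3
      · exact hr2.1 h3
      · exact hr2.2 h3
  obtain ⟨v, hv, hv0, hv1⟩ := key
  exact ⟨ve h1, ve hv, f01, hv0, hv1⟩

theorem exists_q : ∃ p : I.op.E, I.op.F p I.q = 1 := by
  obtain ⟨w, hw, hw1⟩ := D.Ms.φ_ne D.r0_Δ
  refine ⟨ve hw, ?_⟩
  show D.f w (D.r 0) = 1
  rw [D.f_symm hw (D.r_mem 0), D.f_Δ D.r0_Δ]; exact hw1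

include I in
/-- `|U| = 2 · 4 ^ m` -/
theorem card_U : ∃ m, Nat.card D.U = 4 ^ m * 2 := by
  obtain ⟨m, hm⟩ := FormPow.form_pow (L := I.op.E) (g := I.op.F) I.op.ops.add I.op.ops.symm I.op.ops.alt I.op.R
    (fun c => I.op.mem_R)
  rw [I.op.card_R] at hm
  exact ⟨m, hm⟩

theorem ker_iota (c : D.L) : c ∈ I.iota.ker ↔ ∀ e, g e c = 0 := by
  have hF := I.B.full
  rw [AddMonoidHom.mem_ker, I.iota_eq_zero]
  constructor
  · intro h e
    rw [g_symm hF]; exact g_U hF h e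
  · intro h
    by_contra hcon
    obtain ⟨y, hy⟩ := g_ker hF hcon
    rw [g_symm hF, h y] at hy
    exact zero_ne_one hy

theorem card_ker : Nat.card I.iota.ker = 4 := by
  have hzN : D.z ∈ D.NO (D.r 0) := D.mem_NO.2 ⟨self_mem_gen _ _, fun u hu => (D.U_z hu).symm⟩
  have hrN : D.r 0 ∈ D.NO (D.r 0) := D.mem_NO.2 ⟨D.r_mem_N, fun u hu => (D.U_r hu).symm⟩
  have e : (I.iota.ker : Set D.L) = {0, lv hzN, lv hrN, lv hrN + lv hzN} := by
    ext x
    show I.iota x = 0 ↔ _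
    rw [I.iota_eq_zero]
    constructor
    · intro h
      rcases U_N D.r0_Δ h (le_U x) with h | h | h | h
      · left; exact le_inj h
      · right; right; left; exact le_inj h
      · right; left; exact le_inj h
      · right; right; right; exact le_inj h
    · rintro (h | h | h | h)
      · rw [h]; exact one_mem _
      · rw [h]; exact D.z_mem
      · rw [h]; exact D.r_mem 0
      · rw [Set.mem_singleton_iff] at h
        rw [h]; exact Subgroup.mul_mem _ (D.r_mem 0) D.z_mem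
  have h1 : Nat.card I.iota.ker = (I.iota.ker : Set D.L).ncard := rfl
  have hz1 := D.z_ne
  have hr1 : D.r 0 ≠ 1 := D.Ms.one_notin D.r0_Δ
  have hrz : D.r 0 ≠ D.z := D.Ms.z_notin D.r0_Δ
  have n1 : (0 : D.L) ≠ lv hzN := fun h => hz1 (congrArg le h).symm
  have n2 : (0 : D.L) ≠ lv hrN := fun h => hr1 (congrArg le h).symm
  have n3 : (0 : D.L) ≠ lv hrN + lv hzN := fun h => by
    have h2 : (1 : G) = D.r 0 * D.z := congrArg le h
    apply hrz
    have h3 : D.r 0 = D.z⁻¹ := eq_inv_of_mul_eq_one_left h2.symm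
    rw [h3, inv_eq_of_mul_eq_one_left D.z_sq]
  have n4 : (lv hzN : D.L) ≠ lv hrN := fun h => hrz (congrArg le h).symm
  have n5 : (lv hzN : D.L) ≠ lv hrN + lv hzN := fun h => by
    have h2 : D.z = D.r 0 * D.z := congrArg le h
    exact hr1 (right_eq_mul.1 h2)
  have n6 : (lv hrN : D.L) ≠ lv hrN + lv hzN := fun h => by
    have h2 : D.r 0 = D.r 0 * D.z := congrArg le h
    exact hz1 (left_eq_mul.1 h2)
  rw [h1, e, Set.ncard_insert_of_notMem, Set.ncard_insert_of_notMem, Set.ncard_pair n6]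
  · rintro (h | h)
    · exact n4 h
    · exact n5 h
  · rintro (h | h | h)
    · exact n1 h
    · exact n2 h
    · exact n3 h

/-- `|NO r| = 4 |Σ_r|`, `|Σ_r| = 4 ^ n` -/
theorem card_range : ∃ n, Nat.card (I.op.T I.q).range = 4 ^ n ∧ Nat.card (D.NO (D.r 0)) = 4 ^ n * 4 := by
  have hF := I.B.full
  obtain ⟨n, hn⟩ := FormPow.form_pow (L := D.L) (g := g) (g_add hF) (g_symm hF) (g_alt hF) I.iota.ker I.ker_iota
  have h1 : Nat.card D.L = Nat.card I.iota.range * Nat.card I.iota.ker := by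
    rw [AddSubgroup.card_eq_card_quotient_mul_card_addSubgroup I.iota.ker]
    congr 1
    exact Nat.card_congr (QuotientAddGroup.quotientKerEquivRange I.iota).toEquiv
  rw [I.card_ker] at hn h1
  refine ⟨n, ?_, hn⟩
  rw [← I.iota_range]
  rw [hn] at h1
  exact (Nat.eq_of_mul_eq_mul_right (by norm_num) h1).symm

/-- **(18)** -/
theorem two_three (hk : ∃ x ∈ D.NO (D.r 0), x ∉ D.U) :
    (Nat.card D.U = 2 * 4 ^ 2 ∧ Nat.card (I.op.T I.q).range = 4) ∨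
    (Nat.card D.U = 2 * 4 ^ 3 ∧ Nat.card (I.op.T I.q).range = 4 ^ 2 ∧ Nat.card (D.NO (D.r 0)) = 2 ^ 6) := by
  have hF := I.B.full
  obtain ⟨m, hm⟩ := I.card_U
  obtain ⟨n, hn, hn'⟩ := I.card_range
  obtain ⟨p, hp⟩ := I.exists_q
  have hn1 : 1 ≤ n := by
    by_contra hcon
    have h0 : n = 0 := by omega
    rw [h0, pow_zero] at hn
    obtain ⟨x, hx, hxU⟩ := hk
    apply hxU
    have h1 : I.iota (lv hx) = 0 := by
      have h2 : I.iota (lv hx) ∈ (I.op.T I.q).range := by rw [← I.iota_range]; exact ⟨_, rfl⟩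
      have h3 : Subsingleton (I.op.T I.q).range := (Nat.card_eq_one_iff_unique.1 hn).1
      have h4 := congrArg Subtype.val (Subsingleton.elim (⟨_, h2⟩ : (I.op.T I.q).range) ⟨0, AddSubgroup.zero_mem _⟩)
      exact h4
    exact I.iota_eq_zero.1 h1
  rcases I.op.ops.final hp I.op.R (fun c => I.op.mem_R) (m := m) (n := n)
    (by rw [I.op.card_R]; exact hm) hn hn1 I.iota I.iota_range g g_two (g_add hF) (g_symm hF) (g_alt hF)
    (fun x hx => g_ker hF (fun h => hx (I.iota_eq_zero.2 h)))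
    (fun x hx => g_U hF (I.iota_eq_zero.1 hx)) I.iso I.tv I.q_perp with ⟨rfl, rfl⟩ | ⟨rfl, rfl⟩
  · left
    exact ⟨by rw [hm, mul_comm], by rw [hn]; norm_num⟩
  · right
    exact ⟨by rw [hm, mul_comm], hn, by rw [hn']; norm_num⟩

include I in
/-- **the end of (18)-(20)** -/
theorem f4 (hk : ∃ x ∈ D.NO (D.r 0), x ∉ D.U) (hnab : ∃ g ∈ D.Gam, ∃ h ∈ D.Gam, g * h ≠ h * g) :
    Nat.card D.U = 2 ^ 7 ∧ Nat.card (D.NO (D.r 0)) = 2 ^ 6 ∧ O2 D.M = D.Gam ∧ Nat.card (O2 D.M) = 2 ^ 15 := by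
  have hG : I.op.Γ = D.Gam := D.Gam_eq
  rcases I.two_three hk with ⟨h1, h2⟩ | ⟨h1, h2, h3⟩
  · exfalso
    obtain ⟨a, ha, b, hb, hne⟩ := hnab
    rw [← hG] at ha hb
    exact hne (I.op.dead h1 h2 a ha b hb)
  · refine ⟨by rw [h1]; norm_num, h3, ?_, ?_⟩
    · rw [← hG]
      exact I.op.O_eq (n := 0) h1
    · have h4 := I.op.card_O (n := 0) h1
      have h5 : Nat.card (O2 D.M) = Nat.card (I.op.T I.q).range ^ 2 * Nat.card D.U := h4
      rw [h5, h1, h2]; norm_num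

end Inp

end TS

end Cfsg.Agent.Omega.HOneTwo.Trans

end

end

-- merged: Cfsg.Agent.Mrg.Omega.HOneTwo.EndOp
section

/-!
# II.0h1, `q = 2`, F4-type: consequences of (20) of #16429 on operator systems

* `OpSys.hyp_at`, `OpSys.frame` : orthogonal hyperbolic pairs through a given pair;
* `OpSys.card_two` : `|T_s T_r Σ_q| = 2` if `|Σ_q| = 16`;
* `OpSys.fix_of_comm` : a map commuting with all `T_v` is trivial;
* `OpSys.irr` : `S` is irreducible under the `T_v`;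
* `OpD.KM_O` : `C_M(U) = O₂(M)`, `OpD.irrM` : `M` is irreducible on `O₂(M) / U`.
-/

set_option autoImplicit false
set_option linter.unusedSectionVars false
set_option linter.dupNamespace false

namespace Cfsg.Agent.Omega.HOneTwo.OpSys

namespace OpSys

variable {E S : Type*} [AddCommGroup E] [AddCommGroup S] {f : E → E → ZMod 2} {T : E → S →+ S}

/-- one step of the descent, at a given hyperbolic pair -/
theorem hyp_at [Finite E] (h : OpSys f T) (R : AddSubgroup E) (hR : ∀ c ∈ R, ∀ e, f e c = 0) (n : ℕ)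
    (D : AddSubgroup E) (hD : ∀ d ∈ D, d ∉ R → ∃ d' ∈ D, f d d' = 1) (hRD : R ≤ D)
    (hc : Nat.card D = 4 ^ (n + 1) * Nat.card R) {r r' : E} (hrD : r ∈ D) (hrD' : r' ∈ D) (hrr : f r r' = 1) :
    ∃ D' : AddSubgroup E, D' ≤ D ∧ (∀ d ∈ D', f r d = 0 ∧ f r' d = 0) ∧
      (∀ d ∈ D', d ∉ R → ∃ d' ∈ D', f d d' = 1) ∧ R ≤ D' ∧ Nat.card D' = 4 ^ n * Nat.card R := by
  have hrr' : f r' r = 1 := by rw [h.symm]; exact hrr
  let φ : D →+ ZMod 2 × ZMod 2 :=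
    { toFun := fun d => (f r d, f r' d)
      map_zero' := by
        have z1 : f r 0 = 0 := by
          have := h.addr 0 0 r; simp at this; exact this
        have z2 : f r' 0 = 0 := by
          have := h.addr 0 0 r'; simp at this; exact this
        simp [z1, z2]
      map_add' := by
        intro x y
        simp [h.addr] }
  have hφ : Function.Surjective φ := by
    have e1 : φ ⟨r, hrD⟩ = (0, 1) := by
      show (f r r, f r' r) = (0, 1); rw [h.alt, hrr']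
    have e2 : φ ⟨r', hrD'⟩ = (1, 0) := by
      show (f r r', f r' r') = (1, 0); rw [h.alt, hrr]
    rintro ⟨a, b⟩
    rcases z2 a with rfl | rfl <;> rcases z2 b with rfl | rfl
    · exact ⟨0, map_zero φ⟩
    · exact ⟨_, e1⟩
    · exact ⟨_, e2⟩
    · refine ⟨⟨r, hrD⟩ + ⟨r', hrD'⟩, ?_⟩
      rw [map_add, e1, e2]; rfl
  let D' : AddSubgroup E := φ.ker.map D.subtype
  have memD' : ∀ d, d ∈ D' ↔ d ∈ D ∧ f r d = 0 ∧ f r' d = 0 := by
    intro d
    constructor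
    · rintro ⟨⟨e, he⟩, hk, rfl⟩
      have hk' : φ ⟨e, he⟩ = 0 := hk
      exact ⟨he, congrArg Prod.fst hk', congrArg Prod.snd hk'⟩
    · rintro ⟨hd, h1, h2⟩
      refine ⟨⟨d, hd⟩, ?_, rfl⟩
      show φ ⟨d, hd⟩ = 0
      exact Prod.ext h1 h2
  have cD' : Nat.card D' = 4 ^ n * Nat.card R := by
    have c1 : Nat.card D' = Nat.card φ.ker :=
      Nat.card_congr (φ.ker.equivMapOfInjective D.subtype D.subtype_injective).symm.toEquiv
    have c2 : Nat.card D = Nat.card (D ⧸ φ.ker) * Nat.card φ.ker :=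
      AddSubgroup.card_eq_card_quotient_mul_card_addSubgroup φ.ker
    have c3 : Nat.card (D ⧸ φ.ker) = 4 := by
      rw [Nat.card_congr (QuotientAddGroup.quotientKerEquivOfSurjective φ hφ).toEquiv]
      simp
    rw [c3, hc, pow_succ] at c2
    rw [c1]
    have : 4 * Nat.card φ.ker = 4 * (4 ^ n * Nat.card R) := by rw [← c2]; ring
    exact Nat.eq_of_mul_eq_mul_left (by norm_num) this
  refine ⟨D', fun d hd => ((memD' d).1 hd).1, fun d hd => ((memD' d).1 hd).2, ?_,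
    fun c hcR => (memD' c).2 ⟨hRD hcR, hR c hcR r, hR c hcR r'⟩, cD'⟩
  intro d hd hdR
  obtain ⟨hdD, hrd, hrd'⟩ := (memD' d).1 hd
  obtain ⟨e, he, hde⟩ := hD d hdD hdR
  have hdr : f d r = 0 := by rw [h.symm]; exact hrd
  have hdr' : f d r' = 0 := by rw [h.symm]; exact hrd'
  rcases z2 (f r e) with a | a <;> rcases z2 (f r' e) with b | b
  · exact ⟨e, (memD' e).2 ⟨he, a, b⟩, hde⟩
  · refine ⟨e + r, (memD' _).2 ⟨D.add_mem he hrD, ?_, ?_⟩, ?_⟩
    · rw [h.addr, a, h.alt, add_zero]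
    · rw [h.addr, b, hrr']; decide
    · rw [h.addr, hde, hdr, add_zero]
  · refine ⟨e + r', (memD' _).2 ⟨D.add_mem he hrD', ?_, ?_⟩, ?_⟩
    · rw [h.addr, a, hrr]; decide
    · rw [h.addr, b, h.alt, add_zero]
    · rw [h.addr, hde, hdr', add_zero]
  · refine ⟨e + r + r', (memD' _).2 ⟨D.add_mem (D.add_mem he hrD) hrD', ?_, ?_⟩, ?_⟩
    · rw [h.addr, h.addr, a, h.alt, hrr]; decide
    · rw [h.addr, h.addr, b, h.alt, hrr']; decide
    · rw [h.addr, h.addr, hde, hdr, hdr', add_zero, add_zero]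

/-- two orthogonal hyperbolic pairs, orthogonal to `q` -/
theorem frame [Finite E] (h : OpSys f T) (R : AddSubgroup E) (hR : ∀ c, c ∈ R ↔ ∀ e, f e c = 0)
    (hc : Nat.card E = 4 ^ 3 * Nat.card R) {p q : E} (hpq : f p q = 1) : ∃ r r' s s', f q r = 0 ∧ f q r' = 0 ∧
      f r r' = 1 ∧ f q s = 0 ∧ f q s' = 0 ∧ f s s' = 1 ∧ f r s = 0 ∧ f r s' = 0 ∧ f r' s = 0 ∧ f r' s' = 0 := by
  obtain ⟨D1, -, h1, h2, h3, h4⟩ := h.hyp_at R (fun c hc => (hR c).1 hc) 2 ⊤ (h.top_props R hR) le_top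
    (by rw [← hc]; simp) trivial trivial hpq
  obtain ⟨r, hr, r', hr', hrr, D2, hD2, k1, k2, k3, k4⟩ := h.hyp R (fun c hc => (hR c).1 hc) 1 D1 h2 h3 h4
  obtain ⟨s, hs, s', hs', hss, -⟩ := h.hyp R (fun c hc => (hR c).1 hc) 0 D2 k2 k3 k4
  exact ⟨r, r', s, s', (h1 r hr).2, (h1 r' hr').2, hrr, (h1 s (hD2 hs)).2, (h1 s' (hD2 hs')).2, hss,
    (k1 s hs).1, (k1 s' hs').1, (k1 s hs).2, (k1 s' hs').2⟩

section two

variable (h : OpSys f T) {q r r' s s' : E} (hr : f q r = 0) (hr' : f q r' = 0) (hrr : f r r' = 1)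
  (hs : f q s = 0) (hs' : f q s' = 0) (hss : f s s' = 1) (rs : f r s = 0) (rs' : f r s' = 0)

include h hr hr' hrr hs hs' hss rs rs'

/-- `|T_s T_r Σ_q| = 2` -/
theorem card_two (h16 : Nat.card (T q).range = 16) :
    Nat.card (((T q).range.map (T r)).map (T s)) = 2 := by
  have e1 := h.card_sq hr hr' hrr (T q).range le_rfl (fun x hx => h.mem_of_comm hr hx)
    (fun x hx => h.mem_of_comm hr' hx)
  have hle : (T q).range.map (T r) ≤ (T q).range := by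
    rintro _ ⟨x, hx, rfl⟩; exact h.mem_of_comm hr hx
  have e2 := h.card_sq hs hs' hss ((T q).range.map (T r)) hle
    (by
      rintro _ ⟨x, hx, rfl⟩
      exact ⟨T s x, h.mem_of_comm hs hx, h.comm r s rs x⟩)
    (by
      rintro _ ⟨x, hx, rfl⟩
      exact ⟨T s' x, h.mem_of_comm hs' hx, h.comm r s' rs' x⟩)
  rw [h16] at e1
  have e3 : Nat.card ((T q).range.map (T r)) = 4 :=
    Nat.pow_left_injective (n := 2) (by norm_num) (show _ ^ 2 = 4 ^ 2 by rw [← e1])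
  rw [e3] at e2
  exact Nat.pow_left_injective (n := 2) (by norm_num) (show _ ^ 2 = 2 ^ 2 by rw [← e2])

/-- the only nonzero vector -/
theorem eq_of_two (h16 : Nat.card (T q).range = 16) {x y : S} (hx : x ∈ (T q).range) (hy : y ∈ (T q).range)
    (hx0 : T s (T r x) ≠ 0) (hy0 : T s (T r y) ≠ 0) : T s (T r x) = T s (T r y) := by
  have h2 := h.card_two hr hr' hrr hs hs' hss rs rs' h16
  by_contra hne
  have hfin : Finite (((T q).range.map (T r)).map (T s)) := Nat.finite_of_card_ne_zero (by rw [h2]; norm_num)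
  have hsub : ({0, T s (T r x), T s (T r y)} : Set S) ⊆ (((T q).range.map (T r)).map (T s) : Set S) := by
    rintro w (hw | hw | hw)
    · rw [hw]; exact AddSubgroup.zero_mem _
    · rw [hw]; exact ⟨T r x, ⟨x, hx, rfl⟩, rfl⟩
    · rw [Set.mem_singleton_iff] at hw; rw [hw]; exact ⟨T r y, ⟨y, hy, rfl⟩, rfl⟩
  have h3 := Set.ncard_le_ncard hsub (Set.toFinite _)
  have h4 : ({0, T s (T r x), T s (T r y)} : Set S).ncard = 3 := by
    rw [Set.ncard_eq_three]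
    exact ⟨0, _, _, hx0.symm, hy0.symm, hne, rfl⟩
  rw [h4] at h3
  have h5 : (((T q).range.map (T r)).map (T s) : Set S).ncard = 2 := h2
  omega

/-- the vectors of `T_s T_r Σ_q` are fixed by every map commuting with the `T_v` -/
theorem fix_two (h16 : Nat.card (T q).range = 16) {k : S →+ S} (hk0 : ∀ x, k x = 0 → x = 0)
    (hk : ∀ v x, k (T v x) = T v (k x)) {x : S} (hx : x ∈ (T q).range) :
    k (T s (T r x)) = T s (T r x) := by
  by_cases hx0 : T s (T r x) = 0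
  · rw [hx0, map_zero]
  have hkx : k x ∈ (T q).range := by
    obtain ⟨y, rfl⟩ := hx
    exact ⟨k y, (hk q y).symm⟩
  have e : k (T s (T r x)) = T s (T r (k x)) := by rw [hk, hk]
  rw [e]
  refine h.eq_of_two hr hr' hrr hs hs' hss rs rs' h16 hkx hx ?_ hx0
  rw [← e]
  exact fun h0 => hx0 (hk0 _ h0)

end two

/-- decomposition of `x ∈ Σ_q` along two orthogonal hyperbolic pairs -/
theorem split_two (h : OpSys f T) {q r r' s s' : E} (hr : f q r = 0) (hr' : f q r' = 0) (hrr : f r r' = 1)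
    (hs : f q s = 0) (hs' : f q s' = 0) (hss : f s s' = 1) (rs : f r s = 0) (rs' : f r s' = 0) (rs1 : f r' s = 0)
    (rs1' : f r' s' = 0) {x : S} (hx : x ∈ (T q).range) :
    x = T s (T r (T s' (T r' x))) + T s' (T r (T s (T r' x))) +
      (T s (T r' (T s' (T r x))) + T s' (T r' (T s (T r x)))) := by
  have a1 := h.mem_of_comm hr (h.mem_of_comm hr' hx)
  have a2 := h.mem_of_comm hr' (h.mem_of_comm hr hx)
  have e1 := h.split hr hr' hrr hx
  have e2 := h.split hs hs' hss a1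
  have e3 := h.split hs hs' hss a2
  have c1 : T s (T s' (T r (T r' x))) = T s (T r (T s' (T r' x))) := by rw [h.comm r s' rs']
  have c2 : T s' (T s (T r (T r' x))) = T s' (T r (T s (T r' x))) := by rw [h.comm r s rs]
  have c3 : T s (T s' (T r' (T r x))) = T s (T r' (T s' (T r x))) := by rw [h.comm r' s' rs1']
  have c4 : T s' (T s (T r' (T r x))) = T s' (T r' (T s (T r x))) := by rw [h.comm r' s rs1]
  rw [← c1, ← c2, ← c3, ← c4, ← e2, ← e3, ← e1]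

/-- **a map commuting with all `T_v` is trivial** -/
theorem fix_of_comm [Finite E] (h : OpSys f T) (gen : ∀ W : AddSubgroup S, (∀ v, (T v).range ≤ W) → W = ⊤)
    (R : AddSubgroup E) (hR : ∀ c, c ∈ R ↔ ∀ e, f e c = 0) (hc : Nat.card E = 4 ^ 3 * Nat.card R)
    (h256 : Nat.card S = 256) {k : S →+ S} (hk0 : ∀ x, k x = 0 → x = 0)
    (hk : ∀ v x, k (T v x) = T v (k x)) (x : S) : k x = x := by
  have key : ∀ q, ∀ x ∈ (T q).range, k x = x := by
    intro q x hx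
    by_cases hq : ∀ w, f q w = 0
    · obtain ⟨y, rfl⟩ := hx
      rw [h.rad q hq, map_zero]
    push Not at hq
    obtain ⟨p, hp⟩ := hq
    have hpq : f p q = 1 := by rw [h.symm]; exact (z2 _).resolve_left hp
    have h16 : Nat.card (T q).range = 16 := by
      have e1 := h.card_S gen hpq
      rw [h256] at e1
      exact Nat.pow_left_injective (n := 2) (by norm_num) (show _ ^ 2 = 16 ^ 2 by rw [← e1])
    obtain ⟨r, r', s, s', hr, hr', hrr, hs, hs', hss, rs, rs', rs1, rs1'⟩ := h.frame R hR hc hpq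
    have hrr1 : f r' r = 1 := by rw [h.symm]; exact hrr
    have hss1 : f s' s = 1 := by rw [h.symm]; exact hss
    have b1 := h.fix_two hr hr' hrr hs hs' hss rs rs' h16 hk0 hk (h.mem_of_comm hs' (h.mem_of_comm hr' hx))
    have b2 := h.fix_two hr hr' hrr hs' hs hss1 rs' rs h16 hk0 hk (h.mem_of_comm hs (h.mem_of_comm hr' hx))
    have b3 := h.fix_two hr' hr hrr1 hs hs' hss rs1 rs1' h16 hk0 hk (h.mem_of_comm hs' (h.mem_of_comm hr hx))
    have b4 := h.fix_two hr' hr hrr1 hs' hs hss1 rs1' rs1 h16 hk0 hk (h.mem_of_comm hs (h.mem_of_comm hr hx))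
    have e := h.split_two hr hr' hrr hs hs' hss rs rs' rs1 rs1' hx
    conv_lhs => rw [e]
    rw [map_add, map_add, map_add, b1, b2, b3, b4, ← e]
  let W : AddSubgroup S :=
    { carrier := {x | k x = x}
      zero_mem' := map_zero k
      add_mem' := by
        intro a b ha hb
        show k (a + b) = a + b
        rw [map_add, show k a = a from ha, show k b = b from hb]
      neg_mem' := by
        intro a ha
        show k (-a) = -a
        rw [map_neg, show k a = a from ha] }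
  have hW := gen W (fun v x hx => key v x hx)
  have : x ∈ W := by rw [hW]; trivial
  exact this

/-- **`S` is irreducible** -/
theorem irr [Finite E] (h : OpSys f T) (gen : ∀ W : AddSubgroup S, (∀ v, (T v).range ≤ W) → W = ⊤)
    (R : AddSubgroup E) (hR : ∀ c, c ∈ R ↔ ∀ e, f e c = 0) (hc : Nat.card E = 4 ^ 3 * Nat.card R)
    (h256 : Nat.card S = 256) (W : AddSubgroup S) (hW : ∀ v, ∀ x ∈ W, T v x ∈ W) {x : S} (hx : x ∈ W)
    (hx0 : x ≠ 0) : W = ⊤ := by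
  have ex : ∃ q, T q x ≠ 0 := by
    by_contra hcon
    push Not at hcon
    exact hx0 (h.ker x hcon)
  obtain ⟨q, hq0⟩ := ex
  have hqr : ¬ ∀ w, f q w = 0 := fun hq => hq0 (h.rad q hq x)
  push Not at hqr
  obtain ⟨p, hp⟩ := hqr
  have hpq : f p q = 1 := by rw [h.symm]; exact (z2 _).resolve_left hp
  have h16 : Nat.card (T q).range = 16 := by
    have e1 := h.card_S gen hpq
    rw [h256] at e1
    exact Nat.pow_left_injective (n := 2) (by norm_num) (show _ ^ 2 = 16 ^ 2 by rw [← e1])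
  obtain ⟨r, r', s, s', hr, hr', hrr, hs, hs', hss, rs, rs', rs1, rs1'⟩ := h.frame R hR hc hpq
  have hrr1 : f r' r = 1 := by rw [h.symm]; exact hrr
  have hss1 : f s' s = 1 := by rw [h.symm]; exact hss
  have sr : f s r = 0 := by rw [h.symm]; exact rs
  have sr' : f s r' = 0 := by rw [h.symm]; exact rs1
  have sr1 : f s' r = 0 := by rw [h.symm]; exact rs'
  have sr1' : f s' r' = 0 := by rw [h.symm]; exact rs1'
  -- a nonzero vector of `W ∩ Σ_q`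
  have hy : T q x ∈ W := hW q x hx
  have hyq : T q x ∈ (T q).range := ⟨x, rfl⟩
  -- one of the four lines is in `W`
  have step1 : ∃ y ∈ W, y ∈ (T q).range ∧ T r y ≠ 0 := by
    by_cases h1 : T r (T q x) = 0
    · have h2 : T r' (T q x) ≠ 0 := fun h2 => hq0 (h.lemE hr hr' hrr hyq h1 h2)
      refine ⟨T r' (T q x), hW _ _ hy, h.mem_of_comm hr' hyq, fun h3 => h2 ?_⟩
      rw [← h.tri r' r hrr1, h3, map_zero]
    · exact ⟨_, hy, hyq, h1⟩
  obtain ⟨y, hyW, hyq, hy0⟩ := step1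
  have step2 : ∃ y ∈ W, y ∈ (T q).range ∧ T s (T r y) ≠ 0 := by
    have hyr := h.mem_of_comm hr hyq
    by_cases h1 : T s (T r y) = 0
    · have h2 : T s' (T r y) ≠ 0 := fun h2 => hy0 (h.lemE hs hs' hss hyr h1 h2)
      refine ⟨T s' y, hW _ _ hyW, h.mem_of_comm hs' hyq, fun h3 => h2 ?_⟩
      rw [h.comm r s' rs'] at h3
      rw [← h.tri s' s hss1, h3, map_zero]
    · exact ⟨_, hyW, hyq, h1⟩
  obtain ⟨y, hyW, hyq, hy0⟩ := step2
  -- all four lines are in `W`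
  have w1 : ∀ z ∈ (T q).range, T s (T r z) ∈ W := by
    intro z hz
    by_cases h0 : T s (T r z) = 0
    · rw [h0]; exact W.zero_mem
    · rw [h.eq_of_two hr hr' hrr hs hs' hss rs rs' h16 hz hyq h0 hy0]
      exact hW _ _ (hW _ _ hyW)
  have w2 : ∀ z ∈ (T q).range, T s' (T r z) ∈ W := by
    intro z hz
    have h1 := w1 _ (h.mem_of_comm hs' hz)
    have h2 := hW s' _ h1
    rwa [h.comm r s' rs', h.tri s' s hss1] at h2
  have w3 : ∀ z ∈ (T q).range, T s (T r' z) ∈ W := by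
    intro z hz
    have h1 := w1 _ (h.mem_of_comm hr' hz)
    have h2 := hW r' _ h1
    rwa [h.comm r' s rs1, h.tri r' r hrr1] at h2
  have w4 : ∀ z ∈ (T q).range, T s' (T r' z) ∈ W := by
    intro z hz
    have h1 := w2 _ (h.mem_of_comm hr' hz)
    have h2 := hW r' _ h1
    rwa [h.comm r' s' rs1', h.tri r' r hrr1] at h2
  have hSq : (T q).range ≤ W := by
    intro z hz
    rw [h.split_two hr hr' hrr hs hs' hss rs rs' rs1 rs1' hz]
    exact W.add_mem (W.add_mem (w1 _ (h.mem_of_comm hs' (h.mem_of_comm hr' hz)))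
      (w2 _ (h.mem_of_comm hs (h.mem_of_comm hr' hz))))
      (W.add_mem (w3 _ (h.mem_of_comm hs' (h.mem_of_comm hr hz)))
      (w4 _ (h.mem_of_comm hs (h.mem_of_comm hr hz))))
  have hqp : f q p = 1 := by rw [h.symm]; exact hpq
  have hSp : (T p).range ≤ W := by
    rintro _ ⟨z, rfl⟩
    rw [← h.tri p q hpq z]
    exact hW _ _ (hSq ⟨_, rfl⟩)
  have h1 := h.sum gen hpq
  rw [eq_top_iff, ← h1]
  exact sup_le hSp hSq

end OpSys

end Cfsg.Agent.Omega.HOneTwo.OpSys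

namespace Cfsg.Agent.Omega.HOneTwo.OpInst

open Subgroup Cfsg.Agent.Omega.BTwo Cfsg.Agent.Omega.HTwo.Eight Cfsg.Agent.Omega.HOneTwo.OpSys

universe u

variable {G : Type u} [Group G]

namespace OpD

variable (D : OpD G) [Finite G]

/-- elements of `C_M(p)` normalise `N_p`; `k ∈ M` maps `T_u` to `T_{k u k⁻¹}` -/
theorem act_TT {k u : G} (hk : k ∈ D.M) (hu : u ∈ D.U) (s : D.S) :
    D.act k (D.TT u s) = D.TT (k * u * k⁻¹) (D.act k s) := by
  have hz : k * D.z * k⁻¹ = D.z := by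
    have := D.res.M_z hk
    rw [mem_Cp] at this
    rw [this, mul_inv_cancel_right]
  have main : ∀ p ∈ D.Δ, D.act k (D.T₀ p s) = D.T₀ (k * p * k⁻¹) (D.act k s) := by
    intro p hp
    have htM := D.res.t_M hp
    have hkp := D.res.Δ_M k hk p hp
    rw [T₀_eq, T₀_eq, map_add]
    congr 1
    have h1 : k * D.t p * k⁻¹ ∈ Np D.z (k * p * k⁻¹) := by
      rw [← cj_Np (D.res.M_z hk)]
      exact conj_mem_cj (D.res.t_N hp)
    rw [← D.act_mv hkp h1 (D.res.conj_mv hk (D.res.t_mv hp)), ← D.act_mul hk htM,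
      ← D.act_mul (mul_mem (mul_mem hk htM) (inv_mem hk)) hk]
    congr 2
    group
  rcases D.res.cover u hu with rfl | rfl | h | h
  · rw [mul_one, mul_inv_cancel, D.TT_one]
    show D.act k 0 = 0
    rw [map_zero]
  · rw [hz, D.TT_z]
    show D.act k 0 = 0
    rw [map_zero]
  · rw [D.TT_Δ h, D.TT_Δ (D.res.Δ_M k hk u h), main u h]
  · have e : k * (u * D.z) * k⁻¹ = k * u * k⁻¹ * D.z := by
      calc k * (u * D.z) * k⁻¹ = k * u * k⁻¹ * (k * D.z * k⁻¹) := by group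
        _ = _ := by rw [hz]
    have h2 := main _ h
    rw [e] at h2
    have h3 := D.res.Δ_M k hk _ h
    rw [e] at h3
    rw [← D.TT_mulz hu, D.TT_Δ h, h2, ← D.TT_Δ h3, D.TT_mulz (D.res.U_M k hk u hu)]

theorem act_zero {k : G} (hk : k ∈ D.M) {s : D.S} (h : D.act k s = 0) : s = 0 := by
  have h1 := D.act_mul (inv_mem hk) hk s
  rw [inv_mul_cancel, D.act_one, h, map_zero] at h1
  exact h1

theorem R_E {n : ℕ} (hU : Nat.card D.U = 2 * n) : Nat.card D.E = n * Nat.card D.R := by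
  rw [card_R, card_E, hU]; ring

/-- `C_M(U)` acts trivially on `S` -/
theorem KM_act (hU : Nat.card D.U = 2 * 4 ^ 3) (hS : Nat.card D.S = 256) {k : G} (hk : k ∈ D.M)
    (hkU : ∀ u ∈ D.U, k * u = u * k) (s : D.S) : D.act k s = s := by
  refine D.ops.fix_of_comm D.gen D.R (fun c => D.mem_R) (D.R_E hU) hS (fun x hx => D.act_zero hk hx)
    (fun v x => ?_) s
  show D.act k (D.TT (el v) x) = D.TT (el v) (D.act k x)
  rw [D.act_TT hk (el_mem v), hkU _ (el_mem v), mul_inv_cancel_right]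

/-- **`C_M(U) = O₂(M)`** -/
theorem KM_O (hU : Nat.card D.U = 2 * 4 ^ 3) (hS : Nat.card D.S = 256)
    (hc : ∀ g ∈ D.M, (∀ o ∈ O2 D.M, g * o = o * g) → g ∈ O2 D.M) {k : G} (hk : k ∈ D.M)
    (hkU : ∀ u ∈ D.U, k * u = u * k) : k ∈ O2 D.M := by
  have hO : O2 D.M = D.Γ := D.O_eq (n := 0) hU
  -- the square of an element of `C_M(U)` centralises `O₂(M)`
  have sq : ∀ k ∈ D.M, (∀ u ∈ D.U, k * u = u * k) → k * k ∈ O2 D.M := by
    intro k hk hkU
    refine hc _ (mul_mem hk hk) fun o ho => ?_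
    rw [hO] at ho
    have h1 := D.KM_act hU hS hk hkU (D.cl o)
    rw [D.act_cl hk ho, D.cl_eq_iff (D.Γ_conj hk ho) ho] at h1
    have h2 := inv_mem h1
    have e : ((k * o * k⁻¹)⁻¹ * o)⁻¹ = o⁻¹ * (k * o * k⁻¹) := by group
    rw [e] at h2
    obtain ⟨a, ha⟩ : ∃ a, a = o⁻¹ * (k * o * k⁻¹) := ⟨_, rfl⟩
    rw [← ha] at h2
    have e1 : k * o * k⁻¹ = o * a := by rw [ha]; group
    have e3 : k * a * k⁻¹ = a := by rw [hkU a h2, mul_inv_cancel_right]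
    have e2 : k * k * o * (k * k)⁻¹ = o := by
      calc k * k * o * (k * k)⁻¹ = k * (k * o * k⁻¹) * k⁻¹ := by group
        _ = k * (o * a) * k⁻¹ := by rw [e1]
        _ = (k * o * k⁻¹) * (k * a * k⁻¹) := by group
        _ = o * (a * a) := by rw [e1, e3, mul_assoc]
        _ = o := by rw [D.res.U_sq a h2, mul_one]
    rwa [mul_inv_eq_iff_eq_mul] at e2
  have hK : D.M ⊓ centralizer (D.U : Set G) ≤ O2 D.M := by
    refine le_O2_of_normal inf_le_left ?_ ?_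
    · intro x
      obtain ⟨hx1, hx2⟩ := x.2
      have h1 := sq _ hx1 (fun u hu => ((mem_centralizer_iff.1 hx2) u hu).symm)
      obtain ⟨n, hn⟩ := O2_isPGroup D.M ⟨_, h1⟩
      refine ⟨n + 1, Subtype.ext ?_⟩
      have h2 := congrArg Subtype.val hn
      rw [pow_succ', pow_mul, pow_two]
      exact h2
    · rintro g hg a ⟨ha1, ha2⟩
      refine ⟨D.M.mul_mem (D.M.mul_mem hg ha1) (D.M.inv_mem hg), mem_centralizer_iff.2 fun u hu => ?_⟩
      exact (D.cen_conj hg (fun u hu => ((mem_centralizer_iff.1 ha2) u hu).symm) u hu).symm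
  exact hK ⟨hk, mem_centralizer_iff.2 fun u hu => (hkU u hu).symm⟩

/-- **`M` is irreducible on `O₂(M) / U`** -/
theorem irrM (hU : Nat.card D.U = 2 * 4 ^ 3) (hS : Nat.card D.S = 256) {K : Subgroup G} (hK : K ≤ O2 D.M)
    (hKM : ∀ m ∈ D.M, ∀ x ∈ K, m * x * m⁻¹ ∈ K) (hUK : D.U ≤ K) {x : G} (hx : x ∈ K) (hxU : x ∉ D.U) :
    K = O2 D.M := by
  have hO : O2 D.M = D.Γ := D.O_eq (n := 0) hU
  have hKG : K ≤ D.Γ := hO ▸ hK
  let W : AddSubgroup D.S :=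
    { carrier := {s | ∃ x ∈ K, D.cl x = s}
      zero_mem' := ⟨1, one_mem _, D.cl_one⟩
      add_mem' := by
        rintro _ _ ⟨a, ha, rfl⟩ ⟨b, hb, rfl⟩
        exact ⟨a * b, mul_mem ha hb, D.cl_mul (hKG ha) (hKG hb)⟩
      neg_mem' := by
        rintro _ ⟨a, ha, rfl⟩
        refine ⟨a, ha, ?_⟩
        exact (neg_eq_of_add_eq_zero_left (D.twoS (D.cl a))).symm }
  have hT : ∀ v, ∀ s ∈ W, D.T v s ∈ W := by
    rintro v _ ⟨a, ha, rfl⟩
    have h0 : ∀ p ∈ D.Δ, D.T₀ p (D.cl a) ∈ W := by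
      intro p hp
      have htM := D.res.t_M hp
      rw [T₀_eq, D.act_cl htM (hKG ha)]
      exact W.add_mem ⟨a, ha, rfl⟩ ⟨_, hKM _ htM a ha, rfl⟩
    show D.TT (el v) (D.cl a) ∈ W
    rcases D.cases (el_mem v) with ⟨-, h, -⟩ | ⟨p, hp, -, h2, -⟩
    · rw [h]; exact W.zero_mem
    · rw [h2]; exact h0 p hp
  have h1 := D.ops.irr D.gen D.R (fun c => D.mem_R) (D.R_E hU) hS W hT (x := D.cl x) ⟨x, hx, rfl⟩
    (fun h => hxU ((D.cl_eq_zero (hKG hx)).1 h))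
  apply le_antisymm hK
  intro y hy
  rw [hO] at hy
  have h2 : D.cl y ∈ W := by rw [h1]; trivial
  obtain ⟨a, ha, hay⟩ := h2
  have h3 := (D.cl_eq_iff (hKG ha) hy).1 hay
  have h4 := mul_mem ha (hUK h3)
  rwa [mul_inv_cancel_left] at h4

/-! ### `k` trivial on `Σ_r` -/

omit [Finite G] in
/-- `(p^⟂)^⟂ = ⟨p, z⟩` -/
theorem perp_perp {p w : G} (hp : p ∈ D.Δ) (hw : w ∈ D.U) (h : ∀ s ∈ D.U, D.f p s = 0 → D.f s w = 0) :
    w = 1 ∨ w = D.z ∨ w = p ∨ w = p * D.z := by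
  have hpU := D.res.Δ_U p hp
  have key : ∀ w ∈ D.U, (∀ s ∈ D.U, D.f p s = 0 → D.f s w = 0) → (∃ q ∈ D.U, D.f p q = 1 ∧ D.f q w = 0) →
      w = 1 ∨ w = D.z := by
    rintro w hw h ⟨q, hq, h1, h2⟩
    refine D.res.f_rad w hw fun v hv => ?_
    rw [D.res.f_symm w hw v hv]
    rcases OpSys.z2 (D.f p v) with h3 | h3
    · exact h v hv h3
    · have h4 := h (v * q) (mul_mem hv hq) (by
        rw [D.res.f_add' hpU hv hq, h3, h1]; decide)
      rwa [D.res.f_add v hv q hq w hw, h2, add_zero] at h4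
  obtain ⟨q, hq, h1⟩ := D.res.exists_q1 hp
  have hqU := D.res.Δ_U q hq
  rcases OpSys.z2 (D.f q w) with h2 | h2
  · rcases key w hw h ⟨q, hqU, h1, h2⟩ with h3 | h3
    · exact Or.inl h3
    · exact Or.inr (Or.inl h3)
  · have h5 := key (w * p) (mul_mem hw hpU) (fun s hs h3 => by
      rw [D.res.f_add' hs hw hpU, h s hs h3, D.res.f_symm s hs p hpU, h3, add_zero]) ⟨q, hqU, h1, by
      rw [D.res.f_add' hqU hw hpU, h2, D.res.f_symm q hqU p hpU, h1]; decide⟩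
    have e : w = w * p * p := by rw [mul_assoc, D.res.U_sq p hpU, mul_one]
    rcases h5 with h5 | h5
    · right; right; left; rw [e, h5, one_mul]
    · right; right; right; rw [e, h5, D.res.U_comm _ D.res.z_U _ hpU]

/-- `k` trivial on `Σ_r`: `[r^⟂, k] ≤ ⟨r, z⟩` -/
theorem conj_perp (hne : (D.T (ve (D.res.Δ_U _ D.r_Δ))).range ≠ ⊥) {k : G} (hk : k ∈ D.M) (hkr : k * D.r = D.r * k)
    (htr : ∀ n, D.NU D.r n → k * n * k⁻¹ * n⁻¹ ∈ D.U) {s : G} (hs : s ∈ D.U) (h0 : D.f D.r s = 0) :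
    s * (k * s * k⁻¹) = 1 ∨ s * (k * s * k⁻¹) = D.z ∨ s * (k * s * k⁻¹) = D.r ∨ s * (k * s * k⁻¹) = D.r * D.z := by
  have hrU := D.res.Δ_U _ D.r_Δ
  have hks := D.res.U_M k hk s hs
  have hkr' : k * D.r * k⁻¹ = D.r := by rw [hkr, mul_inv_cancel_right]
  have h0' : D.f D.r (k * s * k⁻¹) = 0 := by
    have := D.res.f_M k hk _ hrU s hs
    rw [hkr'] at this
    rw [this, h0]
  -- `k` is trivial on `Σ_r`
  have hact : ∀ x ∈ (D.T (ve hrU)).range, D.act k x = x := by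
    intro x hx
    obtain ⟨n, hn, rfl⟩ := (D.mem_range D.r_Δ x).1 hx
    have hnG := D.NU_Γ D.r_Δ hn
    rw [D.act_cl hk hnG, D.cl_eq_iff (D.Γ_conj hk hnG) hnG]
    have h1 := inv_mem (htr n hn)
    have e : (k * n * k⁻¹)⁻¹ * n = n⁻¹ * (k * n * k⁻¹ * n⁻¹)⁻¹ * n⁻¹⁻¹ := by group
    rw [e]
    exact D.res.U_M _ (inv_mem (D.Γ_M hnG)) _ h1
  refine D.perp_perp D.r_Δ (mul_mem hs hks) fun w hw h1 => ?_
  have h2 := D.ops.inj hne (q := ve hrU) (r := ve hs) (r' := ve hks) (s := ve hw) h0 h0' h1 (fun x hx => by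
    have h3 := D.act_TT hk hs x
    have h4 : D.TT s x ∈ (D.T (ve hrU)).range := D.ops.mem_of_comm (q := ve hrU) (r := ve hs) h0 hx
    rw [hact _ h4, hact x hx] at h3
    exact h3)
  have h3 : D.f w s = D.f w (k * s * k⁻¹) := h2
  rw [D.res.f_add' hw hs hks, h3]
  exact CharTwo.add_self_eq_zero _

/-- `k` trivial on `Σ_r`: `k⁴` centralises `U` -/
theorem pow_four (hne : (D.T (ve (D.res.Δ_U _ D.r_Δ))).range ≠ ⊥) {k : G} (hk : k ∈ D.M) (hkr : k * D.r = D.r * k)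
    (htr : ∀ n, D.NU D.r n → k * n * k⁻¹ * n⁻¹ ∈ D.U) {u : G} (hu : u ∈ D.U) :
    (k * k) * (k * k) * u = u * ((k * k) * (k * k)) := by
  have hrU := D.res.Δ_U _ D.r_Δ
  have hzU := D.res.z_U
  have hkr' : k * D.r * k⁻¹ = D.r := by rw [hkr, mul_inv_cancel_right]
  have hkz : k * D.z * k⁻¹ = D.z := by
    have := D.res.M_z hk
    rw [mem_Cp] at this
    rw [this, mul_inv_cancel_right]
  have hkrz : k * (D.r * D.z) * k⁻¹ = D.r * D.z := by
    calc k * (D.r * D.z) * k⁻¹ = (k * D.r * k⁻¹) * (k * D.z * k⁻¹) := by group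
      _ = _ := by rw [hkr', hkz]
  have hsq := D.res.U_sq
  -- `a = [u, k]`
  obtain ⟨a, ha⟩ : ∃ a, a = u * (k * u * k⁻¹) := ⟨_, rfl⟩
  have haU : a ∈ D.U := by rw [ha]; exact mul_mem hu (D.res.U_M k hk u hu)
  have e1 : k * u * k⁻¹ = u * a := by rw [ha, ← mul_assoc, hsq u hu, one_mul]
  have ha0 : D.f D.r a = 0 := by
    have h1 := D.res.f_M k hk _ hrU u hu
    rw [hkr'] at h1
    rw [ha, D.res.f_add' hrU hu (D.res.U_M k hk u hu), h1]
    exact CharTwo.add_self_eq_zero _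
  obtain ⟨b, hb⟩ : ∃ b, b = a * (k * a * k⁻¹) := ⟨_, rfl⟩
  have hbU : b ∈ D.U := by rw [hb]; exact mul_mem haU (D.res.U_M k hk a haU)
  have e2 : k * a * k⁻¹ = a * b := by rw [hb, ← mul_assoc, hsq a haU, one_mul]
  have e3 : k * b * k⁻¹ = b := by
    have h1 := D.conj_perp hne hk hkr htr haU ha0
    rw [← hb] at h1
    rcases h1 with h1 | h1 | h1 | h1 <;> rw [h1]
    · group
    · exact hkz
    · exact hkr'
    · exact hkrz
  have e4 : (k * k) * u * (k * k)⁻¹ = u * b := by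
    calc (k * k) * u * (k * k)⁻¹ = k * (k * u * k⁻¹) * k⁻¹ := by group
      _ = k * (u * a) * k⁻¹ := by rw [e1]
      _ = (k * u * k⁻¹) * (k * a * k⁻¹) := by group
      _ = u * (a * a) * b := by rw [e1, e2]; group
      _ = u * b := by rw [hsq a haU, mul_one]
  have e5 : (k * k) * b * (k * k)⁻¹ = b := by
    calc (k * k) * b * (k * k)⁻¹ = k * (k * b * k⁻¹) * k⁻¹ := by group
      _ = b := by rw [e3, e3]
  have e6 : (k * k) * (k * k) * u * ((k * k) * (k * k))⁻¹ = u := by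
    calc (k * k) * (k * k) * u * ((k * k) * (k * k))⁻¹ = (k * k) * ((k * k) * u * (k * k)⁻¹) * (k * k)⁻¹ := by group
      _ = (k * k) * (u * b) * (k * k)⁻¹ := by rw [e4]
      _ = ((k * k) * u * (k * k)⁻¹) * ((k * k) * b * (k * k)⁻¹) := by group
      _ = u * (b * b) := by rw [e4, e5]; group
      _ = u := by rw [hsq b hbU, mul_one]
  rwa [mul_inv_eq_iff_eq_mul] at e6

end OpD

end Cfsg.Agent.Omega.HOneTwo.OpInst

end

-- merged: Cfsg.Agent.Mrg.Omega.HOneTwo.TwoPerp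
section

/-!
# II.0h1, `q = 2`: (16) of #16429 (helper467), the case `k ≥ 2`

`k ≥ 2`: some `n ∈ NO (r 0) = N₁ ∩ O_M` is not in `U`.  Then
* `Gam_nab` : `Γ` is not abelian; `Hs_orth` : the `H`-side is orthogonal;
* `perp_trans` : `C(r) ∩ C(z)` is transitive on `ZZ ∩ z^⊥ - {z}`;
* `O_perp` : `[O, NO p] ≤ ⟨z⟩`; `O_Gam` : `[O, Γ] ≤ ⟨z⟩`;
* `O_fix` : an `x ∈ O` fixing some `y ∈ ZZ - z^⊥` is in `Q₁`; `O_split` : `O = Γ (O ∩ Q₁)`.
-/

set_option autoImplicit false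
set_option maxHeartbeats 400000
set_option linter.unusedSectionVars false

namespace Cfsg.Agent.Omega.HOneTwo.Trans

open Subgroup Cfsg.Agent

universe u

variable {G : Type u} [Group G]

theorem le_norm_of_conj {H : Subgroup G} {S : Subgroup G} (hS : ∀ x ∈ S, ∀ y ∈ H, x * y * x⁻¹ ∈ H) :
    S ≤ normalizer (H : Set G) := by
  intro x hx
  rw [mem_normalizer_iff]
  intro y
  refine ⟨hS x hx y, fun hy => ?_⟩
  have := hS x⁻¹ (inv_mem hx) _ hy
  simpa [mul_assoc] using this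

/-- a nontrivial section `B / A` has a nontrivial fixed point under a 2-group -/
theorem exists_fix_mod [Finite G] {S B A : Subgroup G} (hS : IsPGroup 2 S) (hB2 : IsPGroup 2 B)
    (hBn : ∀ x ∈ S, ∀ b ∈ B, x * b * x⁻¹ ∈ B) (hAn : ∀ x ∈ S, ∀ b ∈ A, x * b * x⁻¹ ∈ A)
    (hAB : ∀ x ∈ B, ∀ b ∈ A, x * b * x⁻¹ ∈ A) (hne : ¬ B ≤ A) :
    ∃ m ∈ B, m ∉ A ∧ ∀ t ∈ S, t * m * t⁻¹ * m⁻¹ ∈ A := by
  have : Fact (Nat.Prime 2) := ⟨Nat.prime_two⟩
  set T : Subgroup G := S ⊔ B with hTdef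
  have hSB : S ≤ normalizer (B : Set G) := le_norm_of_conj hBn
  have hT : IsPGroup 2 T := IsPGroup.to_sup_of_normal_right' hS hB2 hSB
  have hBT : B ≤ T := le_sup_right
  have hB : T ≤ normalizer (B : Set G) := sup_le hSB le_normalizer
  have hA : T ≤ normalizer (A : Set G) := sup_le (le_norm_of_conj hAn) (le_norm_of_conj hAB)
  have hnA : (A.subgroupOf T).Normal := normal_subgroupOf_of_le_normalizer hA
  have hnB : (B.subgroupOf T).Normal := normal_subgroupOf_of_le_normalizer hB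
  have hp : IsPGroup 2 (T ⧸ A.subgroupOf T) := hT.to_quotient _
  have : Group.IsNilpotent (T ⧸ A.subgroupOf T) := hp.isNilpotent
  let K : Subgroup (T ⧸ A.subgroupOf T) := (B.subgroupOf T).map (QuotientGroup.mk' (A.subgroupOf T))
  have hK : K.Normal := hnB.map _ (QuotientGroup.mk'_surjective _)
  have hK1 : K ≠ ⊥ := by
    intro h
    apply hne
    intro x hx
    have h1 : QuotientGroup.mk' (A.subgroupOf T) ⟨x, hBT hx⟩ ∈ K := ⟨⟨x, hBT hx⟩, hx, rfl⟩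
    rw [h, mem_bot] at h1
    exact (QuotientGroup.eq_one_iff (⟨x, hBT hx⟩ : T)).1 h1
  have h2 := Lib.NormalAbelian.normal_inf_center_ne_bot K hK1
  obtain ⟨⟨y, hy⟩, hy1⟩ := Subgroup.ne_bot_iff_exists_ne_one.1 h2
  obtain ⟨⟨m, hm, rfl⟩, hyc⟩ := mem_inf.1 hy
  refine ⟨m, hm, fun h => hy1 ?_, fun t ht => ?_⟩
  · apply Subtype.ext
    exact (QuotientGroup.eq_one_iff m).2 h
  · have ht' : t ∈ T := (le_sup_left : S ≤ T) ht
    have h3 := mem_center_iff.1 hyc (QuotientGroup.mk' (A.subgroupOf T) ⟨t, ht'⟩)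
    rw [← map_mul, ← map_mul] at h3
    have h4 : QuotientGroup.mk' (A.subgroupOf T) (⟨t, ht'⟩ * m * (⟨t, ht'⟩ : T)⁻¹ * m⁻¹) = 1 := by
      rw [mul_assoc, map_mul, h3, ← map_mul]
      rw [show m * ⟨t, ht'⟩ * ((⟨t, ht'⟩ : T)⁻¹ * m⁻¹) = 1 by group, map_one]
    have h5 := (QuotientGroup.eq_one_iff ((⟨t, ht'⟩ : T) * m * (⟨t, ht'⟩ : T)⁻¹ * m⁻¹)).1 h4
    exact h5

namespace TS

variable (D : TS G)

theorem zHΔ : D.z ∈ D.Hs.Δ := self_mem_Delta (D.r 0) D.z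

theorem zN : D.z ∈ D.Hs.U := D.Hs.Δ_le D.zHΔ

theorem mem_HA {h : G} : h ∈ D.Hs.A ↔ h * D.r 0 = D.r 0 * h := mem_centralizer_singleton_iff

/-- `NO (r 0) = N₁ ∩ z^⊥` -/
theorem NO_iff {n : G} : n ∈ D.NO (D.r 0) ↔ n ∈ D.Hs.U ∧ D.Hs.φ D.z n = 0 := by
  rw [D.mem_NO]
  refine and_congr_right fun _ => ?_
  rw [← D.not_NC_iff]
  constructor
  · intro h h'
    exact h' fun u hu => conj_of_comm (h u hu)
  · intro h u hu
    unfold Side.NC at h
    push Not at h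
    exact comm_of_conj (h u hu)

theorem pw_N {c : ZMod 2} : pw D.z c ∈ D.Hs.U := D.Hs.pw_mem D.zN c

end TS

namespace Bz

variable {D : TS G} (B : Bz D)
include B

/-- `(z^⊥)^⊥ = ⟨z, r⟩` -/
theorem perp_perp {v : G} (hv : v ∈ D.Hs.U) (h : ∀ w ∈ D.Hs.U, D.Hs.φ D.z w = 0 → D.Hs.f v w = 0) :
    v = 1 ∨ v = D.z ∨ v = D.r 0 ∨ v = D.r 0 * D.z := by
  have hF := B.full
  have zΔ := D.zHΔ
  have zN := D.zN
  obtain ⟨y, hy, hy1⟩ := D.Hs.exists_nbr zΔ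
  have hyU := D.Hs.Δ_le hy
  have fz : ∀ w, D.Hs.f D.z w = D.Hs.φ D.z w := fun w => Side.f_Δ zΔ
  set c := D.Hs.f v y with hc
  have hcU : pw D.z c ∈ D.Hs.U := D.pw_N
  have fpw : ∀ w ∈ D.Hs.U, D.Hs.f (pw D.z c) w = c * D.Hs.φ D.z w := by
    intro w hw
    rcases zmod_cases c with h1 | h1
    · rw [h1, pw_zero, hF.f_one, zero_mul]
    · rw [h1, pw_one, fz, one_mul]
  have key : ∀ w ∈ D.Hs.U, D.Hs.f (v * pw D.z c) w = 0 := by
    intro w hw
    rw [hF.f_mul_left hv hcU hw, fpw w hw]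
    rcases zmod_cases (D.Hs.φ D.z w) with h1 | h1
    · rw [h w hw h1, h1, mul_zero, add_zero]
    · -- `w y ∈ z^⊥`
      have h2 : D.Hs.φ D.z (w * y) = 0 := by
        rw [D.Hs.φ_mul zΔ hw hyU, h1, hy1]; decide
      have h3 := h _ (D.Hs.U.mul_mem hw hyU) h2
      rw [hF.f_mul_right hw hyU hv, ← hc] at h3
      rw [h1, mul_one]
      exact h3
  have h4 := hF.rad (D.Hs.U.mul_mem hv hcU) fun p hp => key p (D.Hs.Δ_le hp)
  have h5 : v = v * pw D.z c * pw D.z c := by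
    rw [mul_assoc, ← pw_add D.z_sq]
    have : c + c = 0 := by
      have : ∀ c : ZMod 2, c + c = 0 := by decide
      exact this c
    rw [this, pw_zero, mul_one]
  rcases h4 with h4 | h4 <;> rw [h4] at h5 <;> rcases zmod_cases c with h6 | h6
  · rw [h6, pw_zero, mul_one] at h5; exact Or.inl h5
  · rw [h6, pw_one, one_mul] at h5; exact Or.inr (Or.inl h5)
  · rw [h6, pw_zero, mul_one] at h5; exact Or.inr (Or.inr (Or.inl h5))
  · rw [h6, pw_one] at h5; exact Or.inr (Or.inr (Or.inr h5))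

/-- `y` and `y'` adjacent in `z^⊥` are conjugate under `C(r) ∩ C(z)` -/
theorem adj_conj {y y' : G} (hy : y ∈ D.Hs.Δ) (hy' : y' ∈ D.Hs.Δ) (hz : D.Hs.φ D.z y = 0)
    (hz' : D.Hs.φ D.z y' = 0) (h1 : D.Hs.φ y y' = 1) :
    ∃ h, h * D.r 0 = D.r 0 * h ∧ h * D.z = D.z * h ∧ h * y * h⁻¹ = y' := by
  have zΔ := D.zHΔ
  have hyU := D.Hs.Δ_le hy
  have hyU' := D.Hs.Δ_le hy'
  have hw : y * y' * D.r 0 ∈ D.Hs.Δ := D.Hs.mz1 hy hy' h1
  have hrU : D.r 0 ∈ D.Hs.U := D.Hs.z_mem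
  have hwA := D.Hs.t_A hw
  refine ⟨D.Hs.t (y * y' * D.r 0), D.mem_HA.1 hwA, ?_, ?_⟩
  · apply comm_of_conj
    rw [D.Hs.t_act hw D.zN, D.Hs.symm hw zΔ, D.Hs.φ_mul zΔ (D.Hs.U.mul_mem hyU hyU') hrU,
      D.Hs.φ_mul zΔ hyU hyU', hz, hz', show D.Hs.φ D.z (D.r 0) = 0 from D.Hs.φ_z zΔ, add_zero, add_zero, pw_zero,
      mul_one]
  · rw [D.Hs.t_act hw hyU, D.Hs.symm hw hy, D.Hs.φ_mul hy (D.Hs.U.mul_mem hyU hyU') hrU,
      D.Hs.φ_mul hy hyU hyU', D.Hs.φ_self hy, h1, show D.Hs.φ y (D.r 0) = 0 from D.Hs.φ_z hy, add_zero, zero_add,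
      pw_one]
    have h2 : D.Hs.z = D.r 0 := rfl
    rw [h2]
    have h3 := D.r_sq 0
    have h4 := D.Hs.U_sq y hyU
    calc y * (y * y' * D.r 0 * D.r 0) = (y * y) * y' * (D.r 0 * D.r 0) := by group
      _ = y' := by rw [h3, h4, one_mul, mul_one]

/-- an element of `ZZ ∩ z^⊥ - {z}` has a neighbour in `ZZ ∩ z^⊥` -/
theorem perp_nbr {y : G} (hy : y ∈ D.Hs.Δ) (hne : y ≠ D.z) :
    ∃ v ∈ D.Hs.Δ, D.Hs.φ D.z v = 0 ∧ D.Hs.φ y v = 1 := by
  have hF := B.full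
  have zΔ := D.zHΔ
  have hyU := D.Hs.Δ_le hy
  by_contra hcon
  push Not at hcon
  have h1 := B.perp_perp hyU (by
    intro w hw h0
    rw [Side.f_Δ hy]
    rcases zmod_cases (D.Hs.φ y w) with h | h
    · exact h
    · exfalso
      rcases hF.full w hw with h2 | h2 | h2 | h2
      · rw [h2, D.Hs.φ_one hy] at h; exact one_ne_zero h.symm
      · rw [h2, D.Hs.φ_z hy] at h; exact one_ne_zero h.symm
      · exact hcon w h2 h0 h
      · apply hcon _ h2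
        · rw [hF.φ_mul_z zΔ hw, h0]
        · rw [hF.φ_mul_z hy hw, h])
  rcases h1 with h1 | h1 | h1 | h1
  · exact D.Hs.one_notin hy h1
  · exact hne h1
  · exact D.Hs.z_notin hy h1
  · have h2 := hF.inj D.z zΔ
    rw [h1, ← D.z_r] at hy
    exact h2 hy

/-- a common neighbour in `ZZ ∩ z^⊥` -/
theorem perp_common {y y' : G} (hy : y ∈ D.Hs.Δ) (hy' : y' ∈ D.Hs.Δ) (hne : y ≠ D.z) (hne' : y' ≠ D.z) :
    ∃ v ∈ D.Hs.Δ, D.Hs.φ D.z v = 0 ∧ D.Hs.φ y v = 1 ∧ D.Hs.φ y' v = 1 := by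
  have hF := B.full
  have zΔ := D.zHΔ
  obtain ⟨a, ha, ha0, ha1⟩ := B.perp_nbr hy hne
  obtain ⟨b, hb, hb0, hb1⟩ := B.perp_nbr hy' hne'
  have haU := D.Hs.Δ_le ha
  have hbU := D.Hs.Δ_le hb
  rcases zmod_cases (D.Hs.φ y' a) with h1 | h1
  · rcases zmod_cases (D.Hs.φ y b) with h2 | h2
    · have habU := D.Hs.U.mul_mem haU hbU
      have e0 : D.Hs.φ D.z (a * b) = 0 := by rw [D.Hs.φ_mul zΔ haU hbU, ha0, hb0, add_zero]
      have e1 : D.Hs.φ y (a * b) = 1 := by rw [D.Hs.φ_mul hy haU hbU, ha1, h2, add_zero]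
      have e2 : D.Hs.φ y' (a * b) = 1 := by rw [D.Hs.φ_mul hy' haU hbU, hb1, h1, zero_add]
      rcases hF.full _ habU with h | h | h | h
      · rw [h, D.Hs.φ_one hy] at e1; exact absurd e1.symm one_ne_zero
      · rw [h, D.Hs.φ_z hy] at e1; exact absurd e1.symm one_ne_zero
      · exact ⟨_, h, e0, e1, e2⟩
      · exact ⟨_, h, by rw [hF.φ_mul_z zΔ habU, e0], by rw [hF.φ_mul_z hy habU, e1],
          by rw [hF.φ_mul_z hy' habU, e2]⟩
    · exact ⟨b, hb, hb0, h2, hb1⟩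
  · exact ⟨a, ha, ha0, ha1, h1⟩

/-- `C(r) ∩ C(z)` is transitive on `ZZ ∩ z^⊥ - {z}` -/
theorem perp_trans {y y' : G} (hy : y ∈ D.Hs.Δ) (hy' : y' ∈ D.Hs.Δ) (hz : D.Hs.φ D.z y = 0)
    (hz' : D.Hs.φ D.z y' = 0) (hne : y ≠ D.z) (hne' : y' ≠ D.z) :
    ∃ h, h * D.r 0 = D.r 0 * h ∧ h * D.z = D.z * h ∧ h * y * h⁻¹ = y' := by
  obtain ⟨v, hv, hv0, h1, h2⟩ := B.perp_common hy hy' hne hne'
  obtain ⟨a, ha, ha', e⟩ := B.adj_conj hy hv hz hv0 h1
  obtain ⟨b, hb, hb', e'⟩ := B.adj_conj hv hy' hv0 hz' ((D.Hs.symm hv hy').trans h2)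
  refine ⟨b * a, ?_, ?_, ?_⟩
  · rw [mul_assoc, ha, ← mul_assoc, hb, mul_assoc]
  · rw [mul_assoc, ha', ← mul_assoc, hb', mul_assoc]
  · calc b * a * y * (b * a)⁻¹ = b * (a * y * a⁻¹) * b⁻¹ := by group
      _ = y' := by rw [e, e']

theorem BN_eq {b : G} (hb : b ∈ D.BN) : b = 1 ∨ b = D.z := B.cen b (D.mem_BB.1 hb.1)

end Bz

namespace OM

variable {D : TS G} {O : Subgroup G} (F : OM D O) (B : Bz D)
include F B

/-- `Γ` is not abelian -/
theorem Gam_nab (hk : ¬ KOne D) : ∃ n ∈ D.NO (D.r 0), ∃ g ∈ D.Gam, g * n * g⁻¹ = n * D.z := by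
  have hF := B.full
  have zΔ := D.zHΔ
  have h0Δ : D.r 0 ∈ D.Δ := D.r0_Δ
  -- it is enough that `g` and `n` do not commute
  suffices hs : ∃ n ∈ D.NO (D.r 0), ∃ g ∈ D.Gam, g * n ≠ n * g by
    obtain ⟨n, hn, g, hg, hne⟩ := hs
    refine ⟨n, hn, g, hg, ?_⟩
    obtain ⟨b, hb, h1⟩ := D.CB_Gam hg (D.NO_le_Gam h0Δ hn)
    rcases B.BN_eq hb with h2 | h2
    · rw [h2, one_mul] at h1; exact absurd h1 hne
    · rw [h2] at h1
      have hnz : n * D.z = D.z * n := D.N_z (D.mem_NO.1 hn).1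
      calc g * n * g⁻¹ = D.z * n := by rw [h1]; group
        _ = n * D.z := hnz.symm
  by_contra hcon
  push Not at hcon
  obtain ⟨n0, hn0, hn0U⟩ : ∃ n ∈ D.NO (D.r 0), n ∉ D.U := by
    unfold KOne at hk
    push Not at hk
    exact hk
  apply hn0U
  -- `n0 = [n, t] b`
  obtain ⟨p, hp, hp1⟩ := D.Ms.exists_nbr (p := D.r 0) h0Δ
  obtain ⟨t, ht, htU⟩ := D.exists_n h0Δ
  obtain ⟨n, hn, b, hb, h1⟩ := D.surj hp h0Δ ((D.φ_symm hp h0Δ).trans hp1) hn0 ht htU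
  have hnO := F.NO_O hp hn
  have hnA : n ∈ D.Hs.A := D.mem_HA.2 (F.O_r hnO)
  have hnG := D.NO_le_Gam hp hn
  have htN : t ∈ D.Hs.U := ht
  have hntN : n * t * n⁻¹ ∈ D.Hs.U := F.O_N hnO ht
  have hc := D.Hs.U.mul_mem hntN (D.Hs.U.inv_mem htN)
  have h2 := B.perp_perp hc (by
    intro w hw h3
    have hw' : w ∈ D.NO (D.r 0) := D.NO_iff.2 ⟨hw, h3⟩
    have h4 := hcon w hw' n hnG
    have h5 := hF.f_conj hnA htN hw
    rw [conj_of_comm h4] at h5
    rw [hF.f_mul_left hntN (D.Hs.U.inv_mem htN) hw, h5, D.Hs.U_inv htN]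
    have : ∀ c : ZMod 2, c + c = 0 := by decide
    exact this _)
  have hU : n * t * n⁻¹ * t⁻¹ ∈ D.U := by
    rcases h2 with h | h | h | h
    · rw [h]; exact D.U.one_mem
    · rw [h]; exact D.z_mem
    · rw [h]; exact D.r_mem 0
    · rw [h]; exact D.U.mul_mem (D.r_mem 0) D.z_mem
  have hbU : b ∈ D.U := by
    rcases B.BN_eq hb with h | h
    · rw [h]; exact D.U.one_mem
    · rw [h]; exact D.z_mem
  rw [h1]
  exact D.U.mul_mem hU hbU

/-- `y z ∈ ZZ` for `y ∈ ZZ ∩ z^⊥`, `y ≠ z` -/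
theorem mul_z_ZZ (hk : ¬ KOne D) {y : G} (hy : y ∈ D.Hs.Δ) (hz : D.Hs.φ D.z y = 0) (hne : y ≠ D.z) :
    y * D.z ∈ D.Hs.Δ := by
  have hF := B.full
  have zΔ := D.zHΔ
  obtain ⟨n, hn, g, hg, h1⟩ := F.Gam_nab B hk
  have hgO := F.Gam_O hg
  have hgA : g ∈ D.Hs.A := D.mem_HA.2 (F.O_r hgO)
  have hgz := F.O_z hgO
  have hgr := F.O_r hgO
  have hn' := D.NO_iff.1 hn
  have z1 : D.z ≠ 1 := D.z_ne
  -- one `y0`
  obtain ⟨y0, hy0, hz0, hne0, h0⟩ : ∃ y0 ∈ D.Hs.Δ, D.Hs.φ D.z y0 = 0 ∧ y0 ≠ D.z ∧ y0 * D.z ∈ D.Hs.Δ := by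
    rcases hF.full n hn'.1 with h | h | h | h
    · rw [h, mul_one, mul_inv_cancel, one_mul] at h1
      exact absurd h1.symm z1
    · rw [h, show D.Hs.z = D.r 0 from rfl, hgr, mul_inv_cancel_right, left_eq_mul] at h1
      exact absurd h1 z1
    · refine ⟨n, h, hn'.2, ?_, ?_⟩
      · intro h2
        rw [h2, hgz, mul_inv_cancel_right, left_eq_mul] at h1
        exact z1 h1
      · rw [← h1]; exact D.Hs.Δ_conj g hgA n h
    · have h3 : n * D.Hs.z = n * D.r 0 := rfl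
      rw [h3] at h
      have h2 : g * (n * D.r 0) * g⁻¹ = n * D.r 0 * D.z := by
        calc g * (n * D.r 0) * g⁻¹ = (g * n * g⁻¹) * (g * D.r 0 * g⁻¹) := by group
          _ = n * D.z * D.r 0 := by rw [h1, conj_of_comm hgr]
          _ = n * D.r 0 * D.z := by rw [mul_assoc, D.z_r, ← mul_assoc]
      refine ⟨n * D.r 0, h, ?_, ?_, ?_⟩
      · have := hF.φ_mul_z zΔ hn'.1
        rw [hn'.2] at this
        exact this
      · intro h4
        rw [h4, hgz, mul_inv_cancel_right, left_eq_mul] at h2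
        exact z1 h2
      · rw [← h2]; exact D.Hs.Δ_conj g hgA _ h
  obtain ⟨h, hr, hz', e⟩ := B.perp_trans hy0 hy hz0 hz hne0 hne
  have h2 := D.Hs.Δ_conj h (D.mem_HA.2 hr) _ h0
  have h3 : h * (y0 * D.z) * h⁻¹ = y * D.z := by
    calc h * (y0 * D.z) * h⁻¹ = (h * y0 * h⁻¹) * (h * D.z * h⁻¹) := by group
      _ = _ := by rw [e, conj_of_comm hz']
  rwa [h3] at h2

/-- the `H`-side is orthogonal -/
theorem Hs_orth (hk : ¬ KOne D) : D.Hs.IsOrth where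
  full := B.full.full
  inj := B.full.inj
  mm := by
    rintro p ⟨h, hh, rfl⟩ q hq hne h0
    have hhA : h ∈ D.Hs.A := D.mem_HA.2 hh
    have hhA' := D.Hs.A.inv_mem hhA
    have hq' := D.Hs.Δ_conj _ hhA' q hq
    have e1 : h⁻¹ * (h * D.z * h⁻¹) * h⁻¹⁻¹ = D.z := by group
    have h1 := D.Hs.φ_conj hhA' (show h * D.z * h⁻¹ ∈ D.Hs.Δ from ⟨h, hh, rfl⟩) (D.Hs.Δ_le hq)
    rw [e1, h0] at h1
    have h2 := F.mul_z_ZZ B hk hq' h1 (by
      intro h3
      apply hne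
      rw [← h3]; group)
    have h3 := D.Hs.Δ_conj h hhA _ h2
    have e : h * (h⁻¹ * q * h⁻¹⁻¹ * D.z) * h⁻¹ = h * D.z * h⁻¹ * q := by
      have h4 := D.Hs.U_comm D.zN (D.Hs.Δ_le hq')
      calc h * (h⁻¹ * q * h⁻¹⁻¹ * D.z) * h⁻¹ = h * (D.z * (h⁻¹ * q * h⁻¹⁻¹)) * h⁻¹ := by rw [h4]
        _ = _ := by group
    rwa [e] at h3

/-- `O` centralises `z^⊥` modulo `z` -/
theorem O_perp0 [Finite G] (hk : ¬ KOne D) {x n : G} (hx : x ∈ O) (hn : n ∈ D.NO (D.r 0)) :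
    x * n * x⁻¹ = n ∨ x * n * x⁻¹ = n * D.z := by
  have hF := B.full
  have zΔ := D.zHΔ
  have zsq := D.z_sq
  -- a vector fixed modulo `⟨z, r⟩`
  obtain ⟨m, hm, hmA, hfix⟩ := exists_fix_mod (S := O) (B := D.NO (D.r 0)) (A := D.U ⊓ gen (D.r 0) D.z) F.two
    (by
      intro g
      refine ⟨1, ?_⟩
      apply Subtype.ext
      have := D.N_sq (D.mem_NO.1 g.2).1
      show (g : G) ^ (2 ^ 1) = 1
      rw [pow_one, pow_two, this])
    (by
      intro t ht b hb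
      have h1 := F.comm_mem D.r0_Δ ht (D.mem_NO.1 hb).1
      have h2 := Subgroup.mul_mem _ h1 hb
      have e : t * b * t⁻¹ * b⁻¹ * b = t * b * t⁻¹ := by group
      rwa [e] at h2)
    (by
      intro t ht b hb
      have h1 := F.O_U t ht b hb.1
      rw [conj_of_comm h1]
      exact hb)
    (by
      intro t ht b hb
      have h1 := (D.mem_NO.1 ht).2 b hb.1
      rw [conj_of_comm h1]
      exact hb)
    (by
      intro h
      exact hk fun n hn => (h hn).1)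
  -- `y0`
  obtain ⟨y0, hy0, hz0, hne0, h0⟩ : ∃ y0 ∈ D.Hs.Δ, D.Hs.φ D.z y0 = 0 ∧ y0 ≠ D.z ∧
      ∀ t ∈ O, t * y0 * t⁻¹ = y0 ∨ t * y0 * t⁻¹ = y0 * D.z := by
    have hm' := D.NO_iff.1 hm
    have hmU : m ∉ D.U := fun h => hmA ⟨h, hm'.1⟩
    -- the shape of `t y t⁻¹` for `y ∈ {m, m r}`
    have main : ∀ y ∈ D.Hs.Δ, D.Hs.φ D.z y = 0 → y ≠ D.z → (∀ t ∈ O, t * y * t⁻¹ * y⁻¹ ∈ D.U ⊓ gen (D.r 0) D.z) →
        ∀ t ∈ O, t * y * t⁻¹ = y ∨ t * y * t⁻¹ = y * D.z := by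
      intro y hy hzy hney hfx t ht
      have hyU := D.Hs.Δ_le hy
      have htA : t ∈ D.Hs.A := D.mem_HA.2 (F.O_r ht)
      have h1 := hfx t ht
      have h2 := D.U_zt h1.1 (D.N_le_zt 0 h1.2)
      have h3 := D.Hs.Δ_conj t htA y hy
      have hcm := D.Hs.U_comm (show t * y * t⁻¹ * y⁻¹ ∈ D.Hs.U from h1.2) hyU
      have e : t * y * t⁻¹ = y * (t * y * t⁻¹ * y⁻¹) := by
        rw [← hcm]; group
      have h4 := F.mul_z_ZZ B hk hy hzy hney
      rcases h2 with h5 | h5 | h5 | h5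
      · left; rw [e, h5, mul_one]
      · right; rw [e, h5]
      · exfalso
        rw [e, h5] at h3
        exact hF.inj y hy h3
      · exfalso
        rw [e, h5, ← D.z_r, ← mul_assoc] at h3
        exact hF.inj _ h4 h3
    rcases hF.full m hm'.1 with h | h | h | h
    · exact absurd (h ▸ D.U.one_mem) hmU
    · exact absurd (show m ∈ D.U by rw [h]; exact D.r_mem 0) hmU
    · refine ⟨m, h, hm'.2, fun h2 => hmU (by rw [h2]; exact D.z_mem), ?_⟩
      exact main m h hm'.2 (fun h2 => hmU (by rw [h2]; exact D.z_mem)) hfix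
    · have h3 : n * D.Hs.z = n * D.r 0 := rfl
      have hne : m * D.Hs.z ≠ D.z := by
        intro h2
        apply hmU
        have h4 : m = m * D.Hs.z * D.r 0 := by
          rw [show D.Hs.z = D.r 0 from rfl, mul_assoc, D.r_sq, mul_one]
        rw [h4, h2]
        exact D.U.mul_mem D.z_mem (D.r_mem 0)
      have h0' : D.Hs.φ D.z (m * D.Hs.z) = 0 := by rw [hF.φ_mul_z zΔ hm'.1, hm'.2]
      refine ⟨m * D.Hs.z, h, h0', hne, ?_⟩
      apply main _ h h0' hne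
      intro t ht
      have h5 := hfix t ht
      have htr : t * D.Hs.z = D.Hs.z * t := F.O_r ht
      have e : t * (m * D.Hs.z) * t⁻¹ * (m * D.Hs.z)⁻¹ = t * m * t⁻¹ * m⁻¹ := by
        calc t * (m * D.Hs.z) * t⁻¹ * (m * D.Hs.z)⁻¹
            = (t * m * t⁻¹) * (t * D.Hs.z * t⁻¹) * D.Hs.z⁻¹ * m⁻¹ := by group
          _ = _ := by rw [conj_of_comm htr]; group
      rw [e]; exact h5
  -- all `y`
  have all : ∀ y ∈ D.Hs.Δ, D.Hs.φ D.z y = 0 → ∀ t ∈ O, t * y * t⁻¹ = y ∨ t * y * t⁻¹ = y * D.z := by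
    intro y hy hzy t ht
    by_cases hne : y = D.z
    · left; rw [hne, F.O_z ht, mul_inv_cancel_right]
    · obtain ⟨h, hr, hz', e⟩ := B.perp_trans hy0 hy hz0 hzy hne0 hne
      have hM : h ∈ D.M := D.M_r h hr hz'
      have h1 := F.O_conj _ (D.M.inv_mem hM) t ht
      have hcz : h * D.z * h⁻¹ = D.z := conj_of_comm hz'
      rcases h0 _ h1 with h2 | h2
      · left
        calc t * y * t⁻¹ = h * (h⁻¹ * t * h⁻¹⁻¹ * y0 * (h⁻¹ * t * h⁻¹⁻¹)⁻¹) * h⁻¹ := by rw [← e]; group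
          _ = y := by rw [h2, e]
      · right
        calc t * y * t⁻¹ = h * (h⁻¹ * t * h⁻¹⁻¹ * y0 * (h⁻¹ * t * h⁻¹⁻¹)⁻¹) * h⁻¹ := by rw [← e]; group
          _ = (h * y0 * h⁻¹) * (h * D.z * h⁻¹) := by rw [h2]; group
          _ = y * D.z := by rw [e, hcz]
  have hn' := D.NO_iff.1 hn
  have hxr : x * D.r 0 = D.r 0 * x := F.O_r hx
  rcases hF.full n hn'.1 with h | h | h | h
  · left; rw [h]; group
  · left; rw [h]; exact conj_of_comm hxr
  · exact all n h hn'.2 x hx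
  · have h0' : D.Hs.φ D.z (n * D.Hs.z) = 0 := by rw [hF.φ_mul_z zΔ hn'.1, hn'.2]
    have h1 := all _ h h0' x hx
    have e : x * (n * D.Hs.z) * x⁻¹ = x * n * x⁻¹ * D.r 0 := by
      calc x * (n * D.r 0) * x⁻¹ = (x * n * x⁻¹) * (x * D.r 0 * x⁻¹) := by group
        _ = _ := by rw [conj_of_comm hxr]
    rw [e] at h1
    rcases h1 with h1 | h1
    · left
      exact mul_right_cancel h1
    · right
      apply mul_right_cancel (b := D.r 0)
      rw [h1]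
      calc n * D.Hs.z * D.z = n * (D.r 0 * D.z) := by rw [mul_assoc]; rfl
        _ = n * D.z * D.r 0 := by rw [← D.z_r, mul_assoc]

/-- **(16)** `[O, NO p] ≤ ⟨z⟩` -/
theorem O_perp [Finite G] (hk : ¬ KOne D) {p x n : G} (hp : p ∈ D.Δ) (hx : x ∈ O) (hn : n ∈ D.NO p) :
    x * n * x⁻¹ = n ∨ x * n * x⁻¹ = n * D.z := by
  obtain ⟨m, hm, rfl⟩ := hp
  have hm' := D.M.inv_mem hm
  have h1 := D.NO_conj (D.mem_A.2 hm') hn
  rw [show m⁻¹ * (m * D.r 0 * m⁻¹) * m⁻¹⁻¹ = D.r 0 by group] at h1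
  have h2 := F.O_conj _ hm' x hx
  have e : x * n * x⁻¹ = m * (m⁻¹ * x * m⁻¹⁻¹ * (m⁻¹ * n * m⁻¹⁻¹) * (m⁻¹ * x * m⁻¹⁻¹)⁻¹) * m⁻¹ := by group
  rcases F.O_perp0 B hk h2 h1 with h3 | h3
  · left
    rw [e, h3]; group
  · right
    rw [e, h3]
    calc m * (m⁻¹ * n * m⁻¹⁻¹ * D.z) * m⁻¹ = n * (m * D.z * m⁻¹) := by group
      _ = n * D.z := by rw [D.m_z hm]

/-- **(16)** `[O, Γ] ≤ ⟨z⟩` -/
theorem O_Gam [Finite G] (hk : ¬ KOne D) {x g : G} (hx : x ∈ O) (hg : g ∈ D.Gam) :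
    x * g * x⁻¹ = g ∨ x * g * x⁻¹ = g * D.z := by
  have hxz := F.O_z hx
  have hcz : ∀ g ∈ D.Gam, D.z * g = g * D.z := fun g hg => (F.O_z (F.Gam_O hg)).symm
  have zsq := D.z_sq
  have hg' : g ∈ closure {x | ∃ p ∈ D.Δ, x ∈ D.NO p} := hg
  induction hg' using closure_induction with
  | mem g hg' =>
    obtain ⟨p, hp, hg'⟩ := hg'
    exact F.O_perp B hk hp hx hg'
  | one => left; group
  | mul a b ha hb ha' hb' =>
    have e : x * (a * b) * x⁻¹ = (x * a * x⁻¹) * (x * b * x⁻¹) := by group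
    have hbz := hcz b hb
    rcases ha' ha with h1 | h1 <;> rcases hb' hb with h2 | h2
    · left; rw [e, h1, h2]
    · right; rw [e, h1, h2, mul_assoc]
    · right; rw [e, h1, h2, mul_assoc, hbz, ← mul_assoc]
    · left
      rw [e, h1, h2]
      calc a * D.z * (b * D.z) = a * (D.z * b) * D.z := by group
        _ = a * b * (D.z * D.z) := by rw [hbz]; group
        _ = a * b := by rw [zsq, mul_one]
  | inv a ha ha' =>
    have e : x * a⁻¹ * x⁻¹ = (x * a * x⁻¹)⁻¹ := by group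
    have haz := hcz a ha
    rcases ha' ha with h1 | h1
    · left; rw [e, h1]
    · right
      rw [e, h1, mul_inv_rev]
      have h2 : D.z⁻¹ = D.z := inv_eq_of_mul_eq_one_left zsq
      rw [h2]
      exact (inv_comm haz.symm).symm

/-- an `x ∈ O` fixing some `y ∈ ZZ - z^⊥` centralises `N₁` -/
theorem O_fix [Finite G] (hk : ¬ KOne D) {x y : G} (hx : x ∈ O) (hy : y ∈ D.Hs.Δ) (hy1 : D.Hs.φ D.z y = 1)
    (hxy : x * y = y * x) : x ∈ D.Q (D.r 0) := by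
  have hF := B.full
  have zΔ := D.zHΔ
  have hyU := D.Hs.Δ_le hy
  have hxA : x ∈ D.Hs.A := D.mem_HA.2 (F.O_r hx)
  have h0 : ∀ n ∈ D.Hs.U, D.Hs.φ D.z n = 0 → x * n * x⁻¹ = n := by
    intro n hn hn0
    rcases F.O_perp0 B hk hx (D.NO_iff.2 ⟨hn, hn0⟩) with h1 | h1
    · exact h1
    · exfalso
      have h2 := hF.f_conj hxA hyU hn
      rw [conj_of_comm hxy, h1, hF.f_mul_right hn D.zN hyU, hF.f_symm hyU D.zN, Side.f_Δ zΔ, hy1] at h2
      have : ∀ c : ZMod 2, c + 1 ≠ c := by decide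
      exact this _ h2
  apply F.O_Q x hx
  intro n hn
  have hn' : n ∈ D.Hs.U := hn
  apply comm_of_conj
  rcases zmod_cases (D.Hs.φ D.z n) with h1 | h1
  · exact h0 n hn' h1
  · have h2 := h0 (n * y) (D.Hs.U.mul_mem hn' hyU) (by
      rw [D.Hs.φ_mul zΔ hn' hyU, h1, hy1]; decide)
    have h3 : x * n * x⁻¹ * y = n * y := by
      calc x * n * x⁻¹ * y = x * n * x⁻¹ * (x * y * x⁻¹) := by rw [conj_of_comm hxy]
        _ = x * (n * y) * x⁻¹ := by group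
        _ = n * y := h2
    exact mul_right_cancel h3

/-- `O = Γ (O ∩ Q₁)` -/
theorem O_split [Finite G] (hk : ¬ KOne D)
    (hT : ∀ y ∈ D.Hs.Δ, ∀ y' ∈ D.Hs.Δ, D.Hs.φ D.z y = 1 → D.Hs.φ D.z y' = 1 → ∃ g ∈ D.Gam, g * y * g⁻¹ = y')
    {x : G} (hx : x ∈ O) : ∃ g ∈ D.Gam, g⁻¹ * x ∈ O ∧ g⁻¹ * x ∈ D.Q (D.r 0) := by
  have zΔ := D.zHΔ
  obtain ⟨y, hy, hy1⟩ := D.Hs.exists_nbr zΔ
  have hxA : x ∈ D.Hs.A := D.mem_HA.2 (F.O_r hx)
  have h1 := D.Hs.Δ_conj x hxA y hy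
  have h2 := D.Hs.φ_conj hxA zΔ (D.Hs.Δ_le hy)
  rw [conj_of_comm (F.O_z hx), hy1] at h2
  obtain ⟨g, hg, h3⟩ := hT y hy _ h1 hy1 h2
  have hgO : g⁻¹ * x ∈ O := O.mul_mem (O.inv_mem (F.Gam_O hg)) hx
  refine ⟨g, hg, hgO, F.O_fix B hk hgO hy hy1 ?_⟩
  apply comm_of_conj
  calc g⁻¹ * x * y * (g⁻¹ * x)⁻¹ = g⁻¹ * (x * y * x⁻¹) * g := by group
    _ = y := by rw [← h3]; group

end OM

end Cfsg.Agent.Omega.HOneTwo.Trans

end

-- merged: Cfsg.Agent.Mrg.Omega.HOneTwo.TwoOut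
section

section


/-!
# II.0h1, `q = 2`: `OM` from `O₂(M)`; (14)-(16) of #16429 in the language of `Eight.Res` (helper467)

* `OM.of_O2` : `O = O₂(M)`, `Q p = O₂(C(p))`;
* `Bz.of_TB` : `Bz D` from helper205's `TS.TB`;
* `OM.opD` : helper338's `OpInst.OpD` (the instance of `OpSys`) for `k ≥ 2`.
-/

set_option autoImplicit false
set_option maxHeartbeats 400000
set_option linter.unusedSectionVars false

namespace Cfsg.Agent.Omega.HOneTwo.Trans

open Subgroup Cfsg.Agent Cfsg.Agent.Omega.BTwo Cfsg.Agent.Omega.HTwo.Eight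

universe u

variable {G : Type u} [Group G]

/-- `OM` for `O = O₂(M)` -/
theorem OM.of_O2 [Finite G] {D : TS G} (hQ : ∀ p, D.Q p = Qp p) (hUO : ∀ o ∈ O2 D.M, ∀ u ∈ D.U, o * u = u * o)
    (hUle : D.U ≤ O2 D.M) : OM D (O2 D.M) where
  two := O2_isPGroup _
  O_M := O2_le _
  O_conj := fun m hm x hx => conj_mem_of_normalizer (le_normalizer_O2 _ hm) hx
  O_U := hUO
  U_O := hUle
  O_Q := by
    intro x hx h
    have A := D.res hQ hUO hUle
    rw [hQ]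
    apply A.O_inf_K D.r0_Δ hx
    rw [mem_centralizer_iff]
    intro n hn
    have hn' : n ∈ Np D.z (D.r 0) := hn
    rw [TS.Np_eq] at hn'
    exact (h n hn').symm
  Q_O := by
    intro x hx h
    -- `Q₁ ∩ C_M(U)` is a normal 2-subgroup of `C_M(U)`
    have A := D.res hQ hUO hUle
    rw [hQ] at hx
    have h1 : Qp (D.r 0) ⊓ (D.M ⊓ centralizer (D.U : Set G)) ≤ O2 D.M := by
      refine le_O2_of_chain (B := D.M ⊓ centralizer (D.U : Set G)) (C := D.M) inf_le_right inf_le_left le_rfl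
        ((O2_isPGroup _).to_le inf_le_left) ?_ ?_ ?_
      · rintro k ⟨hk1, hk2⟩ b ⟨hb1, hb2⟩
        refine ⟨?_, Subgroup.mul_mem _ (Subgroup.mul_mem _ ⟨hk1, hk2⟩ hb2) (Subgroup.inv_mem _ ⟨hk1, hk2⟩)⟩
        apply Q_normal _ hb1
        rw [mem_Cp]
        exact ((mem_centralizer_iff.1 hk2) _ (D.r_mem 0)).symm
      · rintro m hm b ⟨hb1, hb2⟩
        refine ⟨D.M.mul_mem (D.M.mul_mem hm hb1) (D.M.inv_mem hm), ?_⟩
        have hb3 : b ∈ centralizer (D.U : Set G) := hb2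
        show m * b * m⁻¹ ∈ centralizer (D.U : Set G)
        rw [mem_centralizer_iff] at hb3 ⊢
        intro u hu
        have h2 := hb3 _ (gn_inv' hm hu)
        calc u * (m * b * m⁻¹) = m * ((m⁻¹ * u * m) * b) * m⁻¹ := by group
          _ = m * b * m⁻¹ * u := by rw [h2]; group
      · intro g hg c hc
        exact D.M.mul_mem (D.M.mul_mem hg hc) (D.M.inv_mem hg)
    have hr := D.Q_M (x := x) (by rw [hQ]; exact hx)
    exact h1 ⟨hx, hr, mem_centralizer_iff.2 fun u hu => (h u hu).symm⟩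

/-- `Bz` from the Sylow data -/
theorem Bz.of_TB [Finite G] {D : TS G} {S : Subgroup G} (T : D.TB S) : Bz D where
  cen := fun _ hx => T.BB_eq hx
  full :=
    { full := by
        intro u hu
        by_cases h1 : u = 1
        · exact Or.inl h1
        by_cases h2 : u = D.r 0
        · exact Or.inr (Or.inl h2)
        · exact Or.inr (Or.inr (T.ZZ_or hu h1 h2))
      inj := fun p hp => T.ZZ_not_both hp }

theorem Bz.trans [Finite G] {D : TS G} {S : Subgroup G} (T : D.TB S) :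
    ∀ y ∈ D.Hs.Δ, ∀ y' ∈ D.Hs.Δ, D.Hs.φ D.z y = 1 → D.Hs.φ D.z y' = 1 → ∃ g ∈ D.Gam, g * y * g⁻¹ = y' :=
  fun _ hy _ hy' h1 h2 => T.Gam_trans hy hy' h1 h2

/-- helper338's `Γ` is `Γ` -/
theorem Gam_eq (D : TS G) : OpInst.Gam D.z D.U D.Δ = D.Gam := by
  unfold OpInst.Gam TS.Gam
  congr 1
  ext x
  constructor
  · rintro ⟨p, hp, h1, h2⟩
    rw [TS.Np_eq] at h1
    exact ⟨p, hp, D.mem_NO.2 ⟨h1, h2⟩⟩
  · rintro ⟨p, hp, h1⟩
    have h2 := D.mem_NO.1 h1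
    refine ⟨p, hp, ?_, h2.2⟩
    rw [TS.Np_eq]
    exact h2.1

/-- **the instance of helper338's `OpD`** -/
noncomputable def OM.opD [Finite G] {D : TS G} (hQ : ∀ p, D.Q p = Qp p)
    (hUO : ∀ o ∈ O2 D.M, ∀ u ∈ D.U, o * u = u * o) (hUle : D.U ≤ O2 D.M) (B : Bz D) (hk : ¬ KOne D) :
    OpInst.OpD G where
  z := D.z
  M := D.M
  U := D.U
  Δ := D.Δ
  f := D.f
  t := D.tz
  r := D.r 0
  res := D.res hQ hUO hUle
  r_Δ := D.r0_Δ
  OG := by
    intro o ho g hg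
    rw [Gam_eq] at hg
    have F := OM.of_O2 hQ hUO hUle
    rcases F.O_Gam B hk ho hg with h | h
    · exact Or.inl (comm_of_conj h)
    · right
      have h1 : D.z * g = g * D.z := (F.O_z (F.Gam_O hg)).symm
      have h2 : D.z * o = o * D.z := (F.O_z ho).symm
      calc o * g = (o * g * o⁻¹) * o := by group
        _ = D.z * (g * o) := by rw [h, ← h1, mul_assoc]
  NN := by
    intro p hp q hq h1 n hn hn'
    rw [TS.Np_eq] at hn hn'
    rw [D.f_Δ hp] at h1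
    exact B.BN_eq (D.N_inf hp hq h1 hn hn')
  UN := by
    rintro p ⟨m, hm, rfl⟩ u hu hn
    rw [TS.Np_eq] at hn
    have hm' := D.M.inv_mem hm
    have h1 := gen_conj m⁻¹ hn
    rw [show m⁻¹ * (m * D.r 0 * m⁻¹) * m⁻¹⁻¹ = D.r 0 by group, D.m_z' hm] at h1
    have h2 := D.U_zt (gn_inv hm' hu) (D.N_le_zt 0 h1)
    have e : u = m * (m⁻¹ * u * m⁻¹⁻¹) * m⁻¹ := by group
    have hz := D.m_z hm
    rcases h2 with h | h | h | h
    · left; rw [e, h]; group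
    · right; right; left; rw [e, h, hz]
    · right; left; rw [e, h]
    · right; right; right
      rw [e, h]
      calc m * (D.r 0 * D.z) * m⁻¹ = m * D.r 0 * m⁻¹ * (m * D.z * m⁻¹) := by group
        _ = _ := by rw [hz]
  C14 := by
    intro x hx h
    have F := OM.of_O2 hQ hUO hUle
    apply F.fourteen B hx
    intro p hp n hn
    apply h p hp
    rw [TS.Np_eq]
    exact hn

/-! ### `k = 1` means `|N₁| = 8` -/

theorem Bz.NO_four {D : TS G} (hk : KOne D) {n : G} (hn : n ∈ D.NO (D.r 0)) :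
    n = 1 ∨ n = D.z ∨ n = D.r 0 ∨ n = D.r 0 * D.z := D.U_zt (hk n hn) (D.N_le_zt 0 hn.1)

theorem Bz.three0 {D : TS G} (B : Bz D) (hk : KOne D) {t y : G} (ht : t ∈ D.Hs.Δ) (ht1 : D.Hs.φ D.z t = 1)
    (hy : y ∈ D.Hs.Δ) : y = D.z ∨ y = t ∨ y = D.r 0 * D.z * t := by
  have hF := B.full
  have zΔ := D.zHΔ
  have htU := D.Hs.Δ_le ht
  have hyU := D.Hs.Δ_le hy
  have rU : D.r 0 ∈ D.Hs.U := D.Hs.z_mem
  have rz : D.r 0 * D.z ∉ D.Hs.Δ := by
    rw [← D.z_r]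
    exact hF.inj D.z zΔ
  rcases zmod_cases (D.Hs.φ D.z y) with h | h
  · left
    rcases Bz.NO_four hk (D.NO_iff.2 ⟨hyU, h⟩) with h1 | h1 | h1 | h1
    · exact absurd h1 (D.Hs.one_notin hy)
    · exact h1
    · exact absurd h1 (D.Hs.z_notin hy)
    · rw [h1] at hy; exact absurd hy rz
  · right
    have h2 : y * t ∈ D.NO (D.r 0) := D.NO_iff.2 ⟨D.Hs.U.mul_mem hyU htU, by
      rw [D.Hs.φ_mul zΔ hyU htU, h, ht1]; decide⟩
    have htt := D.Hs.U_sq t htU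
    have e : y = y * t * t := by rw [mul_assoc, htt, mul_one]
    have h3 := D.Hs.mz1 zΔ ht ht1
    rcases Bz.NO_four hk h2 with h1 | h1 | h1 | h1
    · left; rw [e, h1, one_mul]
    · exfalso
      rw [h1] at e
      rw [← e] at h3
      exact hF.inj y hy h3
    · exfalso
      rw [h1, D.Hs.U_comm rU htU] at e
      rw [e] at hy
      exact hF.inj t ht hy
    · right; rw [e, h1]

/-- `z^{C(p)} = {z, t_p, p z t_p}` -/
theorem Bz.three {D : TS G} (B : Bz D) (hk : KOne D) : Three D.z D.Δ D.tz := by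
  rintro p hp h hh
  have hp' := hp
  obtain ⟨m, hm, rfl⟩ := hp
  have hm' := D.M.inv_mem hm
  have hmz := D.m_z hm
  have hmz' := D.m_z' hm
  have back : ∀ k, k ∈ Cp (m * D.r 0 * m⁻¹) → m⁻¹ * (k * D.z * k⁻¹) * m⁻¹⁻¹ ∈ D.Hs.Δ := by
    intro k hk
    rw [mem_Cp] at hk
    refine ⟨m⁻¹ * k * m, ?_, ?_⟩
    · calc m⁻¹ * k * m * D.r 0 = m⁻¹ * (k * (m * D.r 0 * m⁻¹)) * m := by group
        _ = D.r 0 * (m⁻¹ * k * m) := by rw [hk]; group
    · calc m⁻¹ * (k * D.z * k⁻¹) * m⁻¹⁻¹ = m⁻¹ * k * m * (m⁻¹ * D.z * m⁻¹⁻¹) * (m⁻¹ * k * m)⁻¹ := by group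
        _ = _ := by rw [hmz']
  obtain ⟨⟨k, hk1, hk2⟩, hact⟩ := D.tz_spec hp'
  have ht : m⁻¹ * D.tz (m * D.r 0 * m⁻¹) * m⁻¹⁻¹ ∈ D.Hs.Δ := by
    rw [hk2]
    exact back k (mem_Cp.2 hk1)
  have htNC : D.Ms.NC (D.tz (m * D.r 0 * m⁻¹)) := by
    intro hall
    obtain ⟨v, hv, hv1⟩ := D.Ms.φ_ne hp'
    have h2 := hact v hv
    have h3 := hall v hv
    rw [h3, show D.φ (m * D.r 0 * m⁻¹) v = 1 from hv1, pw_one, left_eq_mul] at h2
    exact D.Ms.pz_ne hp' h2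
  have ht1 : D.Hs.φ D.z (m⁻¹ * D.tz (m * D.r 0 * m⁻¹) * m⁻¹⁻¹) = 1 := by
    rw [← D.NC_iff]
    exact Side.NC_conj (S := D.Ms) hm' htNC
  have e : h * D.z * h⁻¹ = m * (m⁻¹ * (h * D.z * h⁻¹) * m⁻¹⁻¹) * m⁻¹ := by group
  rcases B.three0 hk ht ht1 (back h hh) with h1 | h1 | h1
  · left
    rw [e, h1, hmz]
  · right; left
    rw [e, h1]; group
  · right; right
    rw [e, h1]
    calc m * (D.r 0 * D.z * (m⁻¹ * D.tz (m * D.r 0 * m⁻¹) * m⁻¹⁻¹)) * m⁻¹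
        = m * D.r 0 * m⁻¹ * (m * D.z * m⁻¹) * D.tz (m * D.r 0 * m⁻¹) := by group
      _ = _ := by rw [hmz]

/-- `|N₁| = 8` -/
theorem Bz.card_eight [Finite G] {D : TS G} (hk : KOne D) : Nat.card (gen (D.r 0) D.z) = 8 := by
  have zΔ := D.zHΔ
  have h1 : D.NO (D.r 0) ≤ gen (D.r 0) D.z := fun _ h => h.1
  have h2 : ((D.NO (D.r 0)).subgroupOf (gen (D.r 0) D.z)).index = 2 := by
    rw [Subgroup.index_eq_two_iff]
    obtain ⟨y, hy, hy1⟩ := D.Hs.exists_nbr zΔ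
    have hyU := D.Hs.Δ_le hy
    refine ⟨⟨y, hyU⟩, fun b => ?_⟩
    rw [mem_subgroupOf, mem_subgroupOf]
    have hb : (b : G) ∈ D.Hs.U := b.2
    rcases zmod_cases (D.Hs.φ D.z b) with h | h
    · right
      refine ⟨D.NO_iff.2 ⟨hb, h⟩, fun h3 => ?_⟩
      have h4 := (D.NO_iff.1 h3).2
      have h5 := D.Hs.φ_mul zΔ hb hyU
      rw [h, hy1] at h5
      have h6 : D.Hs.φ D.z ((b : G) * y) = 0 := h4
      rw [h5] at h6
      exact absurd h6 (by decide)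
    · left
      refine ⟨D.NO_iff.2 ⟨D.Hs.U.mul_mem hb hyU, ?_⟩, fun h3 => ?_⟩
      · show D.Hs.φ D.z ((b : G) * y) = 0
        rw [D.Hs.φ_mul zΔ hb hyU, h, hy1]; decide
      · have h4 := (D.NO_iff.1 h3).2
        rw [h] at h4
        exact one_ne_zero h4
  have r1 : D.r 0 ≠ 1 := D.Ms.one_notin D.r0_Δ
  have rz : D.r 0 ≠ D.z := D.Ms.z_notin D.r0_Δ
  have h3 : Nat.card (D.NO (D.r 0)) = 4 := by
    have e : ((D.NO (D.r 0) : Subgroup G) : Set G) = {1, D.z, D.r 0, D.r 0 * D.z} := by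
      ext n
      constructor
      · intro hn
        exact Bz.NO_four hk hn
      · intro hn
        have hz : D.z ∈ D.NO (D.r 0) := D.NO_iff.2 ⟨D.zN, D.Hs.φ_self zΔ⟩
        have hr : D.r 0 ∈ D.NO (D.r 0) := D.NO_iff.2 ⟨D.Hs.z_mem, D.Hs.φ_z zΔ⟩
        rcases hn with hn | hn | hn | hn
        · rw [hn]; exact Subgroup.one_mem _
        · rw [hn]; exact hz
        · rw [hn]; exact hr
        · rw [hn]; exact Subgroup.mul_mem _ hr hz
    have h4 : Nat.card (D.NO (D.r 0)) = Set.ncard ((D.NO (D.r 0) : Subgroup G) : Set G) := rfl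
    rw [h4, e]
    have n1 : (1 : G) ≠ D.z := fun h => D.z_ne h.symm
    have n2 : (1 : G) ≠ D.r 0 := fun h => r1 h.symm
    have n3 : (1 : G) ≠ D.r 0 * D.z := fun h => D.Ms.pz_ne D.r0_Δ h.symm
    have n4 : D.z ≠ D.r 0 := fun h => rz h.symm
    have n5 : D.z ≠ D.r 0 * D.z := fun h => r1 (right_eq_mul.1 h)
    have n6 : D.r 0 ≠ D.r 0 * D.z := fun h => D.z_ne (left_eq_mul.1 h)
    rw [Set.ncard_insert_of_notMem, Set.ncard_insert_of_notMem, Set.ncard_pair n6]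
    · rintro (h | h)
      · exact n4 h
      · exact n5 h
    · rintro (h | h | h)
      · exact n1 h
      · exact n2 h
      · exact n3 h
  have h5 := Subgroup.card_mul_index ((D.NO (D.r 0)).subgroupOf (gen (D.r 0) D.z))
  rw [h2, Nat.card_congr (Subgroup.subgroupOfEquivOfLe h1).toEquiv, h3] at h5
  exact h5.symm

end Cfsg.Agent.Omega.HOneTwo.Trans

end

section


/-!
# II.0h1, `q = 2`, F4-type: the end of (16)-(20) of #16429

`TS.f4` : `¬ KOne D` ⇒ `|U| = |N₁| = 2⁷`, `|NO r| = 2⁶`, `O₂(M) = Γ` of order `2¹⁵`.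
-/

set_option autoImplicit false
set_option linter.unusedSectionVars false

namespace Cfsg.Agent.Omega.HOneTwo.Trans

open Subgroup Cfsg.Agent.Omega.BTwo Cfsg.Agent.Omega.HTwo.Eight

universe u

variable {G : Type u} [Group G]

namespace TS

variable {D : TS G}

/-- the inputs of (17)-(20) from (16) -/
theorem Inp.of [Finite G] (hQ : ∀ p, D.Q p = Qp p) (F : OM D (O2 D.M)) (B : Bz D) (hk : ¬ KOne D) : D.Inp where
  hQ := hQ
  F := F
  B := B
  hOG := by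
    intro o ho g hg
    have hoz : o * D.z = D.z * o := F.O_z ho
    have hgz : g * D.z = D.z * g := F.O_z (F.Gam_O hg)
    rcases F.O_Gam B hk ho hg with h | h
    · exact Or.inl (comm_of_conj h)
    · right
      rw [mul_inv_eq_iff_eq_mul] at h
      rw [h, hgz, mul_assoc]

theorem hnab [Finite G] (F : OM D (O2 D.M)) (B : Bz D) (hk : ¬ KOne D) :
    ∃ g ∈ D.Gam, ∃ h ∈ D.Gam, g * h ≠ h * g := by
  obtain ⟨n, hn, g, hg, e⟩ := F.Gam_nab B hk
  refine ⟨g, hg, n, D.NO_le_Gam D.r0_Δ hn, fun h => ?_⟩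
  rw [h, mul_inv_cancel_right] at e
  exact D.z_ne (left_eq_mul.1 e)

theorem hk' (hk : ¬ KOne D) : ∃ x ∈ D.NO (D.r 0), x ∉ D.U := by
  unfold KOne at hk
  push Not at hk
  exact hk

theorem card_N [Finite G] : Nat.card (gen (D.r 0) D.z) = 2 * Nat.card (D.NO (D.r 0)) := by
  have h1 : D.NO (D.r 0) ≤ gen (D.r 0) D.z := fun _ h => h.1
  have h2 : ((D.NO (D.r 0)).subgroupOf (gen (D.r 0) D.z)).index = 2 := by
    rw [Subgroup.index_eq_two_iff]
    obtain ⟨y, hy, hy1⟩ := D.Hs.exists_nbr D.zHs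
    have hyU : y ∈ gen (D.r 0) D.z := D.Hs.Δ_le hy
    refine ⟨⟨y, hyU⟩, fun b => ?_⟩
    obtain ⟨b, hb⟩ := b
    rw [mem_subgroupOf, mem_subgroupOf]
    show Xor (b * y ∈ D.NO (D.r 0)) (b ∈ D.NO (D.r 0))
    have hb1 : D.Hs.φ D.z (b * y) = D.Hs.φ D.z b + 1 := by
      rw [D.Hs.φ_mul D.zHs hb hyU, hy1]
    rw [TB.mem_NO_r, TB.mem_NO_r, hb1]
    rcases zmod_cases (D.Hs.φ D.z b) with h | h <;> rw [h]
    · right
      refine ⟨⟨hb, rfl⟩, fun h' => ?_⟩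
      exact absurd h'.2 (by decide)
    · left
      refine ⟨⟨Subgroup.mul_mem _ hb hyU, by decide⟩, fun h' => ?_⟩
      exact absurd h'.2 (by decide)
  have h3 := Subgroup.index_mul_card ((D.NO (D.r 0)).subgroupOf (gen (D.r 0) D.z))
  rw [h2, Nat.card_congr (subgroupOfEquivOfLe h1).toEquiv] at h3
  exact h3.symm

/-- **(16)-(20)** -/
theorem f4 [Finite G] (hQ : ∀ p, D.Q p = Qp p) (F : OM D (O2 D.M)) (B : Bz D) (hk : ¬ KOne D) :
    Nat.card D.U = 2 ^ 7 ∧ Nat.card (D.NO (D.r 0)) = 2 ^ 6 ∧ Nat.card (gen (D.r 0) D.z) = 2 ^ 7 ∧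
      O2 D.M = D.Gam ∧ Nat.card (O2 D.M) = 2 ^ 15 := by
  obtain ⟨h1, h2, h3, h4⟩ := (Inp.of hQ F B hk).f4 (hk' hk) (hnab F B hk)
  exact ⟨h1, h2, by rw [card_N, h2]; norm_num, h3, h4⟩

end TS

end Cfsg.Agent.Omega.HOneTwo.Trans

end

section


/-!
# II.0h1, `q = 2`, F4-type: the intersections `N_p ∩ N_q`, `N_p ∩ N_q ∩ N_e` ((21) of #16429)

* `OpSys.mem_inf2`, `mem_inf3` : `Σ_q ∩ Σ_r = T_r Σ_q`, `Σ_q ∩ Σ_r ∩ Σ_e = T_e T_r Σ_q`; `card_inf2`, `card_inf3`;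
* `OpD.card_two`, `card_three` : `|N_p ∩ N_q| = 2 |T_q Σ_p|`, `|N_p ∩ N_q ∩ N_e| = 2 |T_e T_q Σ_p|`;
* `TS.F4.card_two` (`= 8`), `TS.F4.card_three` (`= 4`), `TS.Inp.ti` : total isotropy.
-/

set_option autoImplicit false
set_option linter.unusedSectionVars false
set_option linter.dupNamespace false

namespace Cfsg.Agent.Omega.HOneTwo.OpSys

namespace OpSys

variable {E S : Type*} [AddCommGroup E] [AddCommGroup S] {f : E → E → ZMod 2} {T : E → S →+ S}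

theorem mem_inf2 (h : OpSys f T) {q r r' : E} (hr : f q r = 0) (hr' : f q r' = 0) (hrr : f r r' = 1) {x : S} :
    x ∈ (T q).range.map (T r) ↔ x ∈ (T q).range ∧ x ∈ (T r).range := by
  constructor
  · rintro ⟨y, hy, rfl⟩
    exact ⟨h.mem_of_comm hr hy, ⟨y, rfl⟩⟩
  · rintro ⟨h1, h2⟩
    have h3 := h.split hr hr' hrr h1
    rw [h.zero_of_mem h2, map_zero, add_zero] at h3
    exact ⟨T r' x, h.mem_of_comm hr' h1, h3.symm⟩

theorem mem_inf3 (h : OpSys f T) {q r r' e e' : E} (hr : f q r = 0) (hr' : f q r' = 0) (hrr : f r r' = 1)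
    (he : f q e = 0) (he' : f q e' = 0) (hee : f e e' = 1) (hre : f r e = 0) (hre' : f r e' = 0) {x : S} :
    x ∈ ((T q).range.map (T r)).map (T e) ↔ x ∈ (T q).range ∧ x ∈ (T r).range ∧ x ∈ (T e).range := by
  constructor
  · rintro ⟨_, ⟨y, hy, rfl⟩, rfl⟩
    refine ⟨h.mem_of_comm he (h.mem_of_comm hr hy), ?_, ⟨_, rfl⟩⟩
    rw [← h.comm r e hre]
    exact ⟨_, rfl⟩
  · rintro ⟨h1, h2, h3⟩
    have h4 := h.split hr hr' hrr h1
    rw [h.zero_of_mem h2, map_zero, add_zero] at h4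
    have h5 := h.split he he' hee h1
    rw [h.zero_of_mem h3, map_zero, add_zero] at h5
    refine ⟨T e' x, ⟨T e' (T r' x), h.mem_of_comm he' (h.mem_of_comm hr' h1), ?_⟩, h5.symm⟩
    rw [h.comm r e' hre', ← h4]

theorem card_inf2 (h : OpSys f T) {q r r' : E} (hr : f q r = 0) (hr' : f q r' = 0) (hrr : f r r' = 1) :
    Nat.card (T q).range = Nat.card ((T q).range.map (T r)) ^ 2 :=
  h.card_sq hr hr' hrr (T q).range le_rfl (fun _ hx => h.mem_of_comm hr hx) (fun _ hx => h.mem_of_comm hr' hx)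

theorem card_inf3 (h : OpSys f T) {q r e e' : E} (hr : f q r = 0)
    (he : f q e = 0) (he' : f q e' = 0) (hee : f e e' = 1) (hre : f r e = 0) (hre' : f r e' = 0) :
    Nat.card ((T q).range.map (T r)) = Nat.card (((T q).range.map (T r)).map (T e)) ^ 2 := by
  refine h.card_sq he he' hee ((T q).range.map (T r)) ?_ ?_ ?_
  · rintro _ ⟨y, hy, rfl⟩
    exact h.mem_of_comm hr hy
  · rintro _ ⟨y, hy, rfl⟩
    exact ⟨T e y, h.mem_of_comm he hy, h.comm r e hre y⟩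
  · rintro _ ⟨y, hy, rfl⟩
    exact ⟨T e' y, h.mem_of_comm he' hy, h.comm r e' hre' y⟩

end OpSys

end Cfsg.Agent.Omega.HOneTwo.OpSys

namespace Cfsg.Agent.Omega.HOneTwo.OpInst

open Subgroup Cfsg.Agent.Omega.BTwo Cfsg.Agent.Omega.HTwo.Eight Cfsg.Agent.Omega.HOneTwo.OpSys

universe u

variable {G : Type u} [Group G]

namespace OpD

variable (D : OpD G)

/-- `N_p ∩ N_q ≤ C(U)` for `p ≠ q` -/
theorem N_inf_cen {p q n : G} (hp : p ∈ D.Δ) (hq : q ∈ D.Δ) (hne : p ≠ q) (hn : n ∈ Np D.z p)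
    (hn' : n ∈ Np D.z q) : ∀ u ∈ D.U, n * u = u * n := by
  rcases D.res.act_or hp hn with h | h
  · exact h
  rcases D.res.act_or hq hn' with h' | h'
  · exact h'
  exfalso
  obtain ⟨u, hu, h1⟩ := D.res.exists_f1 hp
  have e1 := h u hu
  have e2 := h' u hu
  rw [e1, h1, pw_one] at e2
  have e3 := mul_left_cancel e2
  rcases HTwo.Eight.z2 (D.f q u) with h2 | h2 <;> rw [h2] at e3
  · rw [pw_zero] at e3
    exact D.res.pz_ne_one hp e3
  · rw [pw_one] at e3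
    exact hne (mul_right_cancel e3)

variable [Finite G]

/-- `K → S` for `K ≤ Γ` -/
noncomputable def clH (K : Subgroup G) (hK : K ≤ D.Γ) : Additive K →+ D.S where
  toFun x := D.cl (Additive.toMul x).1
  map_zero' := D.cl_one
  map_add' x y := D.cl_mul (hK (Additive.toMul x).2) (hK (Additive.toMul y).2)

theorem card_clH (K : Subgroup G) (hK : K ≤ D.Γ) :
    Nat.card K = Nat.card (D.clH K hK).range * Nat.card (K ⊓ D.U : Subgroup G) := by
  have h1 : Nat.card K = Nat.card (Additive K) := rfl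
  rw [h1, AddSubgroup.card_eq_card_quotient_mul_card_addSubgroup (D.clH K hK).ker]
  congr 1
  · exact Nat.card_congr (QuotientAddGroup.quotientKerEquivRange (D.clH K hK)).toEquiv
  · refine Nat.card_congr ⟨fun x => ⟨(Additive.toMul x.1).1, (Additive.toMul x.1).2, ?_⟩,
      fun y => ⟨Additive.ofMul ⟨y.1, y.2.1⟩, ?_⟩, fun _ => rfl, fun _ => rfl⟩
    · have h2 : D.cl (Additive.toMul x.1).1 = 0 := x.2
      exact (D.cl_eq_zero (hK (Additive.toMul x.1).2)).1 h2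
    · show D.cl y.1 = 0
      exact (D.cl_eq_zero (hK y.2.1)).2 y.2.2

theorem mem_clH {K : Subgroup G} (hK : K ≤ D.Γ) {s : D.S} : s ∈ (D.clH K hK).range ↔ ∃ n ∈ K, D.cl n = s := by
  constructor
  · rintro ⟨x, rfl⟩
    exact ⟨_, (Additive.toMul x).2, rfl⟩
  · rintro ⟨n, hn, rfl⟩
    exact ⟨Additive.ofMul ⟨n, hn⟩, rfl⟩

theorem two_le {p q : G} (hp : p ∈ D.Δ) (hq : q ∈ D.Δ) (hne : p ≠ q) : Np D.z p ⊓ Np D.z q ≤ D.Γ :=
  fun _ hn => D.NU_Γ hp ⟨hn.1, D.N_inf_cen hp hq hne hn.1 hn.2⟩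

/-- `N_p ∩ N_q ∩ U = ⟨z⟩` -/
theorem N_inf_U {p q u : G} (hp : p ∈ D.Δ) (hq : q ∈ D.Δ) (hne : p ≠ q) (hn : u ∈ Np D.z p)
    (hn' : u ∈ Np D.z q) (hu : u ∈ D.U) : u = 1 ∨ u = D.z := by
  have hpq : p * D.z ≠ q := fun h => D.res.inj p hp (h ▸ hq)
  rcases D.UN p hp u hu hn with h | h | h | h
  · exact Or.inl h
  · exfalso
    rcases D.UN q hq u hu hn' with h' | h' | h' | h'
    · exact D.res.p_ne_one hp (h.symm.trans h')
    · exact hne (h.symm.trans h')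
    · exact D.res.p_ne_z hp (h.symm.trans h')
    · have h2 : p = q * D.z := h.symm.trans h'
      apply hpq
      rw [h2, mul_assoc, D.res.zz, mul_one]
  · exact Or.inr h
  · exfalso
    rcases D.UN q hq u hu hn' with h' | h' | h' | h'
    · exact D.res.pz_ne_one hp (h.symm.trans h')
    · exact hpq (h.symm.trans h')
    · have h2 : p * D.z = D.z := h.symm.trans h'
      exact D.res.p_ne_one hp (mul_eq_right.1 h2)
    · exact hne (mul_right_cancel (h.symm.trans h'))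

theorem card_z (K : Subgroup G) (hz : D.z ∈ K) (hK : ∀ u ∈ K, u ∈ D.U → u = 1 ∨ u = D.z) :
    Nat.card (K ⊓ D.U : Subgroup G) = 2 := by
  have e : ((K ⊓ D.U : Subgroup G) : Set G) = {1, D.z} := by
    ext u
    constructor
    · rintro ⟨h1, h2⟩
      rcases hK u h1 h2 with h | h
      · exact Or.inl h
      · exact Or.inr h
    · rintro (h | h)
      · rw [h]; exact one_mem _
      · rw [Set.mem_singleton_iff] at h; rw [h]; exact ⟨hz, D.res.z_U⟩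
  have h1 : Nat.card (K ⊓ D.U : Subgroup G) = ((K ⊓ D.U : Subgroup G) : Set G).ncard := rfl
  rw [h1, e, Set.ncard_pair (fun h => D.res.z1 h.symm)]

theorem tq_comm {p q : G} (hp : p ∈ D.Δ) (hq : q ∈ D.Δ) (h0 : D.f p q = 0) : D.t q ∈ Cp p :=
  mem_Cp.2 (D.res.t_0 q hq p (D.res.Δ_U p hp) (by
    rw [D.res.f_symm q (D.res.Δ_U q hq) p (D.res.Δ_U p hp)]; exact h0))

/-- `[n, t_q] ∈ N_p` for `n ∈ N_p`, `q ⟂ p` -/
theorem br_mem {p q n : G} (hp : p ∈ D.Δ) (hq : q ∈ D.Δ) (h0 : D.f p q = 0) (hn : n ∈ Np D.z p) :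
    n * D.t q * n⁻¹ * (D.t q)⁻¹ ∈ Np D.z p := by
  have e : n * D.t q * n⁻¹ * (D.t q)⁻¹ = n * (D.t q * n⁻¹ * (D.t q)⁻¹) := by group
  rw [e]
  exact mul_mem hn (N_normal (D.tq_comm hp hq h0) (inv_mem hn))

theorem T_eq {p : G} (hp : p ∈ D.Δ) (s : D.S) : D.T (ve (D.res.Δ_U p hp)) s = D.T₀ p s := by
  show D.TT p s = _
  rw [D.TT_Δ hp]

/-- `|N_p ∩ N_q| = 2 |T_q Σ_p|` -/
theorem card_two {p q : G} (hp : p ∈ D.Δ) (hq : q ∈ D.Δ) (hne : p ≠ q) (h0 : D.f p q = 0)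
    (hr : ∃ r ∈ D.U, D.f p r = 0 ∧ D.f q r = 1) :
    Nat.card (Np D.z p ⊓ Np D.z q : Subgroup G) =
      Nat.card ((D.T (ve (D.res.Δ_U p hp))).range.map (D.T (ve (D.res.Δ_U q hq)))) * 2 := by
  obtain ⟨r, hrU, h1, h2⟩ := hr
  have hle := D.two_le hp hq hne
  rw [D.card_clH _ hle, D.card_z (Np D.z p ⊓ Np D.z q) ⟨z_N _ _, z_N _ _⟩
    fun u hu hU => D.N_inf_U hp hq hne hu.1 hu.2 hU]
  suffices hr : (D.clH _ hle).range =
      (D.T (ve (D.res.Δ_U p hp))).range.map (D.T (ve (D.res.Δ_U q hq))) by rw [hr]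
  ext s
  rw [D.mem_clH hle]
  constructor
  · rintro ⟨n, hn, rfl⟩
    refine (D.ops.mem_inf2 (q := ve (D.res.Δ_U p hp)) (r := ve (D.res.Δ_U q hq)) (r' := ve hrU) h0 h1 h2).2 ⟨?_, ?_⟩
    · exact (D.mem_range hp _).2 ⟨n, ⟨hn.1, D.N_inf_cen hp hq hne hn.1 hn.2⟩, rfl⟩
    · exact (D.mem_range hq _).2 ⟨n, ⟨hn.2, D.N_inf_cen hp hq hne hn.1 hn.2⟩, rfl⟩
  · rintro ⟨_, hs, rfl⟩
    obtain ⟨n, hn, rfl⟩ := (D.mem_range hp _).1 hs
    have hnG := D.NU_Γ hp hn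
    refine ⟨_, ⟨D.br_mem hp hq h0 hn.1, (D.br_NU hq (D.Γ_O hnG)).1⟩, ?_⟩
    rw [D.T_eq hq, D.T₀_cl hq hnG]

/-- `|N_p ∩ N_q ∩ N_e| = 2 |T_e T_q Σ_p|` -/
theorem card_three {p q e : G} (hp : p ∈ D.Δ) (hq : q ∈ D.Δ) (he : e ∈ D.Δ) (hne : p ≠ q) (h0 : D.f p q = 0)
    (hpe : D.f p e = 0) (hqe : D.f q e = 0) (hr : ∃ r ∈ D.U, D.f p r = 0 ∧ D.f q r = 1)
    (hr' : ∃ r ∈ D.U, D.f p r = 0 ∧ D.f q r = 0 ∧ D.f e r = 1) :
    Nat.card (Np D.z p ⊓ Np D.z q ⊓ Np D.z e : Subgroup G) =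
      Nat.card (((D.T (ve (D.res.Δ_U p hp))).range.map (D.T (ve (D.res.Δ_U q hq)))).map
        (D.T (ve (D.res.Δ_U e he)))) * 2 := by
  obtain ⟨r, hrU, h1, h2⟩ := hr
  obtain ⟨r', hrU', h1', h2', h3'⟩ := hr'
  have hle : Np D.z p ⊓ Np D.z q ⊓ Np D.z e ≤ D.Γ := inf_le_left.trans (D.two_le hp hq hne)
  rw [D.card_clH _ hle, D.card_z (Np D.z p ⊓ Np D.z q ⊓ Np D.z e) ⟨⟨z_N _ _, z_N _ _⟩, z_N _ _⟩
    fun u hu hU => D.N_inf_U hp hq hne hu.1.1 hu.1.2 hU]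
  suffices hr : (D.clH _ hle).range =
      ((D.T (ve (D.res.Δ_U p hp))).range.map (D.T (ve (D.res.Δ_U q hq)))).map (D.T (ve (D.res.Δ_U e he))) by rw [hr]
  ext s
  rw [D.mem_clH hle]
  constructor
  · rintro ⟨n, hn, rfl⟩
    have hc := D.N_inf_cen hp hq hne hn.1.1 hn.1.2
    refine (D.ops.mem_inf3 (q := ve (D.res.Δ_U p hp)) (r := ve (D.res.Δ_U q hq)) (r' := ve hrU)
      (e := ve (D.res.Δ_U e he)) (e' := ve hrU')
      h0 h1 h2 hpe h1' h3' hqe h2').2 ⟨?_, ?_, ?_⟩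
    · exact (D.mem_range hp _).2 ⟨n, ⟨hn.1.1, hc⟩, rfl⟩
    · exact (D.mem_range hq _).2 ⟨n, ⟨hn.1.2, hc⟩, rfl⟩
    · exact (D.mem_range he _).2 ⟨n, ⟨hn.2, hc⟩, rfl⟩
  · rintro ⟨_, ⟨_, hs, rfl⟩, rfl⟩
    obtain ⟨n, hn, rfl⟩ := (D.mem_range hp _).1 hs
    have hnG := D.NU_Γ hp hn
    have hk := D.br_NU hq (D.Γ_O hnG)
    have hkG := D.NU_Γ hq hk
    have hkp := D.br_mem hp hq h0 hn.1
    obtain ⟨k, hk'⟩ : ∃ k, k = n * D.t q * n⁻¹ * (D.t q)⁻¹ := ⟨_, rfl⟩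
    rw [← hk'] at hk hkG hkp
    refine ⟨k * D.t e * k⁻¹ * (D.t e)⁻¹, ⟨⟨D.br_mem hp he hpe hkp, D.br_mem hq he hqe hk.1⟩,
      (D.br_NU he (D.Γ_O hkG)).1⟩, ?_⟩
    rw [D.T_eq hq, D.T₀_cl hq hnG, ← hk', D.T_eq he, D.T₀_cl he hkG]

end OpD

end Cfsg.Agent.Omega.HOneTwo.OpInst

namespace Cfsg.Agent.Omega.HOneTwo.Trans

open Subgroup Cfsg.Agent.Omega.BTwo Cfsg.Agent.Omega.HTwo.Eight Cfsg.Agent.Omega.HOneTwo.OpSys
  Cfsg.Agent.Omega.HOneTwo.OpInst
open Cfsg.Agent.Omega.HOneTwo.OpInst.OpD (el ve el_mem)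

universe u

variable {G : Type u} [Group G]

namespace TS

variable {D : TS G}

/-- `u ∉ ⟨p, z⟩`-independence: a functional on `U` -/
theorem exists_sep {p q : G} (hp : p ∈ D.Δ) (hq : q ∈ D.Δ) (hne : p ≠ q) :
    ∃ v ∈ D.U, D.f p v = 0 ∧ D.f q v = 1 := by
  have hpU := D.ΔU hp
  have hqU := D.ΔU hq
  by_contra hcon
  push Not at hcon
  have hc : ∀ v ∈ D.U, D.f p v = 0 → D.f q v = 0 := fun v hv hv0 =>
    (zmod_cases _).resolve_right (hcon v hv hv0)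
  obtain ⟨w, hw, hw1⟩ := D.Ms.φ_ne hp
  have hw1' : D.f p w = 1 := by rw [D.f_Δ hp]; exact hw1
  rcases zmod_cases (D.f q w) with h2 | h2
  · have h3 := D.f_rad hqU (fun v hv => by
      rcases zmod_cases (D.f p v) with h4 | h4
      · exact hc v hv h4
      · have h5 := hc (v * w) (Subgroup.mul_mem _ hv hw) (by
          rw [D.f_mul_right hpU hv hw, h4, hw1']; decide)
        rwa [D.f_mul_right hqU hv hw, h2, add_zero] at h5)
    rcases h3 with h3 | h3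
    · exact D.Ms.one_notin hq h3
    · exact D.Ms.z_notin hq h3
  · have h3 := D.f_rad (Subgroup.mul_mem _ hpU hqU) (fun v hv => by
      rw [D.f_mul_left hpU hqU hv]
      rcases zmod_cases (D.f p v) with h4 | h4
      · rw [h4, hc v hv h4, add_zero]
      · have h5 := hc (v * w) (Subgroup.mul_mem _ hv hw) (by
          rw [D.f_mul_right hpU hv hw, h4, hw1']; decide)
        rw [D.f_mul_right hqU hv hw, h2] at h5
        rcases zmod_cases (D.f q v) with h6 | h6 <;> rw [h6] at h5 ⊢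
        · exact absurd h5 (by decide)
        · rw [h4]; decide)
    rcases h3 with h3 | h3
    · apply hne
      rw [mul_eq_one_iff_eq_inv, D.Ms.U_inv hqU] at h3
      exact h3
    · have h4 : p = D.z * q := by
        have h5 := D.mul_self hqU
        calc p = p * (q * q) := by rw [h5, mul_one]
          _ = D.z * q := by rw [← mul_assoc, h3]
      rw [h4, D.U_comm D.z_mem hqU] at hp
      exact D.zz_mem hq hp

/-- independence of three points -/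
theorem exists_sep3 {p q e : G} (hp : p ∈ D.Δ) (hq : q ∈ D.Δ) (he : e ∈ D.Δ) (hne : p ≠ q) (hpe : e ≠ p)
    (hqe : e ≠ q) (h0 : D.f p q = 0) (hpq : e ≠ p * q) :
    ∃ v ∈ D.U, D.f p v = 0 ∧ D.f q v = 0 ∧ D.f e v = 1 := by
  have hpU := D.ΔU hp
  have hqU := D.ΔU hq
  have heU := D.ΔU he
  have hpqΔ : p * q ∈ D.Δ := D.mul_mem hp hq hne (by rw [← D.f_Δ hp]; exact h0)
  obtain ⟨a, ha, ha1, ha2⟩ := exists_sep hp he hpe.symm
  obtain ⟨b, hb, hb1, hb2⟩ := exists_sep hq he hqe.symm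
  obtain ⟨c, hc, hc1, hc2⟩ := exists_sep hpqΔ he (Ne.symm hpq)
  rw [D.f_mul_left hpU hqU hc] at hc1
  rcases zmod_cases (D.f q a) with h1 | h1
  · exact ⟨a, ha, ha1, h1, ha2⟩
  rcases zmod_cases (D.f p b) with h2 | h2
  · exact ⟨b, hb, h2, hb1, hb2⟩
  rcases zmod_cases (D.f p c) with h3 | h3
  · refine ⟨c, hc, h3, ?_, hc2⟩
    rwa [h3, zero_add] at hc1
  · have h4 : D.f q c = 1 := by
      rcases zmod_cases (D.f q c) with h | h
      · rw [h3, h] at hc1; exact absurd hc1 (by decide)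
      · exact h
    refine ⟨a * b * c, Subgroup.mul_mem _ (Subgroup.mul_mem _ ha hb) hc, ?_, ?_, ?_⟩
    · rw [D.f_mul_right hpU (Subgroup.mul_mem _ ha hb) hc, D.f_mul_right hpU ha hb, ha1, h2, h3]; decide
    · rw [D.f_mul_right hqU (Subgroup.mul_mem _ ha hb) hc, D.f_mul_right hqU ha hb, h1, hb1, h4]; decide
    · rw [D.f_mul_right heU (Subgroup.mul_mem _ ha hb) hc, D.f_mul_right heU ha hb, ha2, hb2, hc2]; decide

namespace Inp

variable [Finite G] (I : Inp D)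

include I in
/-- all `Σ_p` have the same order -/
theorem card_rg {p : G} (hp : p ∈ D.Δ) : Nat.card (I.op.T (ve (I.op.res.Δ_U p hp))).range =
    Nat.card (I.op.T I.q).range := by
  obtain ⟨q, hq, h1⟩ := I.op.res.exists_q1 hp
  obtain ⟨q', hq', h1'⟩ := I.op.res.exists_q1 (p := D.r 0) I.op.r_Δ
  have e1 := I.op.ops.card_S I.op.gen (p := ve (I.op.res.Δ_U q hq)) (q := ve (I.op.res.Δ_U p hp)) (by
    show D.f q p = 1
    rw [D.f_symm (D.ΔU hq) (D.ΔU hp)]; exact h1)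
  have e2 := I.op.ops.card_S I.op.gen (p := ve (I.op.res.Δ_U q' hq')) (q := I.q) (by
    show D.f q' (D.r 0) = 1
    rw [D.f_symm (D.ΔU hq') (D.r_mem 0)]; exact h1')
  rw [e1] at e2
  exact Nat.pow_left_injective (n := 2) (by norm_num) e2

/-- total isotropy of `T_s Σ_r` -/
theorem ti (s : I.op.E) (hs : I.op.F I.q s = 0) {x y : D.L} (hx : I.iota x ∈ (I.op.T I.q).range.map (I.op.T s))
    (hy : I.iota y ∈ (I.op.T I.q).range.map (I.op.T s)) : g x y = 0 := by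
  have hF := I.B.full
  obtain ⟨a, ha, hax⟩ := hx
  obtain ⟨b, hb, hby⟩ := hy
  have hb' : b ∈ I.iota.range := by rw [I.iota_range]; exact hb
  obtain ⟨b', rfl⟩ := hb'
  have e1 := I.iso s hs x b' 0 y (by rw [map_zero, ← hax, I.op.ops.sq]) hby.symm
  rw [add_zero, g_symm hF, g_add hF, g_symm hF b', g_symm hF y] at e1
  exact left_eq_add.1 e1.symm

end Inp

/-- `|N_p ∩ N_q| = 8` -/
theorem F4_two [Finite G] (hQ : ∀ p, D.Q p = Qp p) (F : OM D (O2 D.M)) (B : Bz D) (hk : ¬ KOne D) {p q : G}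
    (hp : p ∈ D.Δ) (hq : q ∈ D.Δ) (hne : p ≠ q) (h0 : D.f p q = 0) :
    Nat.card (gen p D.z ⊓ gen q D.z : Subgroup G) = 8 := by
  have I := Inp.of hQ F B hk
  have h1 := I.op.card_two hp hq hne h0 (exists_sep hp hq hne)
  obtain ⟨r, hrU, h2, h3⟩ := exists_sep hp hq hne
  have h4 := I.op.ops.card_inf2 (q := ve (I.op.res.Δ_U p hp)) (r := ve (I.op.res.Δ_U q hq)) (r' := ve hrU) h0 h2 h3
  have h5 : Nat.card (I.op.T (ve (I.op.res.Δ_U p hp))).range = 4 ^ 2 := by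
    rw [I.card_rg hp]
    rcases I.two_three (hk' hk) with ⟨h6, h7⟩ | ⟨-, h7, -⟩
    · exfalso
      obtain ⟨a, ha, b, hb, hne'⟩ := hnab F B hk
      rw [← D.Gam_eq] at ha hb
      exact hne' (I.op.dead h6 h7 a ha b hb)
    · exact h7
  rw [h5] at h4
  have h6 := Nat.pow_left_injective (n := 2) (by norm_num) h4.symm
  have h7 : Nat.card (Np D.z p ⊓ Np D.z q : Subgroup G) = 8 := by
    have h8 : Nat.card (Np D.z p ⊓ Np D.z q : Subgroup G) = _ := h1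
    rw [h8, show Nat.card ((I.op.T (ve (I.op.res.Δ_U p hp))).range.map (I.op.T (ve (I.op.res.Δ_U q hq)))) = 4 from h6]
  rwa [Np_eq, Np_eq] at h7

/-- `|N_p ∩ N_q ∩ N_e| = 4` -/
theorem F4_three [Finite G] (hQ : ∀ p, D.Q p = Qp p) (F : OM D (O2 D.M)) (B : Bz D) (hk : ¬ KOne D) {p q e : G}
    (hp : p ∈ D.Δ) (hq : q ∈ D.Δ) (he : e ∈ D.Δ) (hne : p ≠ q) (hpe : e ≠ p) (hqe : e ≠ q) (hpq : e ≠ p * q)
    (h0 : D.f p q = 0) (h1 : D.f p e = 0) (h2 : D.f q e = 0) :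
    Nat.card (gen p D.z ⊓ gen q D.z ⊓ gen e D.z : Subgroup G) = 4 := by
  have I := Inp.of hQ F B hk
  have k1 := I.op.card_three hp hq he hne h0 h1 h2 (exists_sep hp hq hne)
    (exists_sep3 hp hq he hne hpe hqe h0 hpq)
  have k2 := I.op.card_two hp hq hne h0 (exists_sep hp hq hne)
  obtain ⟨r, hrU, k3, k4, k5⟩ := exists_sep3 hp hq he hne hpe hqe h0 hpq
  have k6 := I.op.ops.card_inf3 (q := ve (I.op.res.Δ_U p hp)) (r := ve (I.op.res.Δ_U q hq))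
    (e := ve (I.op.res.Δ_U e he)) (e' := ve hrU) h0 h1 k3 k5 h2 k4
  have k7 : Nat.card (Np D.z p ⊓ Np D.z q : Subgroup G) = 8 := by
    have := F4_two hQ F B hk hp hq hne h0
    rwa [← Np_eq, ← Np_eq] at this
  have k8 : Nat.card (Np D.z p ⊓ Np D.z q : Subgroup G) = _ := k2
  rw [k7] at k8
  have k9 : Nat.card ((I.op.T (ve (I.op.res.Δ_U p hp))).range.map (I.op.T (ve (I.op.res.Δ_U q hq)))) = 2 ^ 2 := by
    omega
  rw [k9] at k6
  have k10 := Nat.pow_left_injective (n := 2) (by norm_num) k6.symm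
  have k11 : Nat.card (Np D.z p ⊓ Np D.z q ⊓ Np D.z e : Subgroup G) = _ := k1
  have k12 : Nat.card (((I.op.T (ve (I.op.res.Δ_U p hp))).range.map (I.op.T (ve (I.op.res.Δ_U q hq)))).map
      (I.op.T (ve (I.op.res.Δ_U e he)))) = 2 := k10
  rw [k12, Np_eq, Np_eq, Np_eq] at k11
  exact k11

/-- `N_p ∩ N_q ≤ C(U)` -/
theorem N_inf_NO [Finite G] (I : Inp D) {p q n : G} (hp : p ∈ D.Δ) (hq : q ∈ D.Δ) (hne : p ≠ q)
    (hn : n ∈ gen p D.z) (hn' : n ∈ gen q D.z) : n ∈ D.NO p := by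
  rw [D.mem_NO]
  refine ⟨hn, I.op.N_inf_cen hp hq hne ?_ ?_⟩
  · show n ∈ Np D.z p
    rwa [Np_eq]
  · show n ∈ Np D.z q
    rwa [Np_eq]

/-- `N_r ∩ N_p` is totally isotropic for the form of `N_r` -/
theorem F4_ti [Finite G] (hQ : ∀ p, D.Q p = Qp p) (F : OM D (O2 D.M)) (B : Bz D) (hk : ¬ KOne D) {p : G}
    (hp : p ∈ D.Δ) (hne : D.r 0 ≠ p) (h0 : D.f (D.r 0) p = 0) {x y : G} (hx : x ∈ gen (D.r 0) D.z)
    (hx' : x ∈ gen p D.z) (hy : y ∈ gen (D.r 0) D.z) (hy' : y ∈ gen p D.z) : D.Hs.f x y = 0 := by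
  have I := Inp.of hQ F B hk
  obtain ⟨r, hrU, h2, h3⟩ := exists_sep D.r0_Δ hp hne
  have key : ∀ x, x ∈ gen (D.r 0) D.z → x ∈ gen p D.z → ∃ h : x ∈ D.NO (D.r 0),
      I.iota (lv h) ∈ (I.op.T I.q).range.map (I.op.T (ve (I.op.res.Δ_U p hp))) := by
    intro x hx hx'
    have h1 := N_inf_NO I D.r0_Δ hp hne hx hx'
    have h4 := N_inf_NO I hp D.r0_Δ hne.symm hx' hx
    refine ⟨h1, (I.op.ops.mem_inf2 (q := I.q) (r := ve (I.op.res.Δ_U p hp)) (r' := ve hrU) h0 h2 h3).2 ⟨?_, ?_⟩⟩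
    · exact (I.op.mem_range I.op.r_Δ _).2 ⟨x, I.NU_iff.2 h1, rfl⟩
    · exact (I.op.mem_range hp _).2 ⟨x, I.NU_iff.2 h4, rfl⟩
  obtain ⟨k1, k2⟩ := key x hx hx'
  obtain ⟨k3, k4⟩ := key y hy hy'
  exact I.ti (ve (I.op.res.Δ_U p hp)) h0 k2 k4

end TS

end Cfsg.Agent.Omega.HOneTwo.Trans

end

section


/-!
# II.0h1, `q = 2`, F4-type, (21) of #16429: the groups `N_p ∩ N_q`, `p, q ∈ Δ` orthogonal

* `TS.N_inf_mul` : `N_p ∩ N_q ≤ N_{pq}`;
* `TS.exists_a` : a third `a ∈ Δ` orthogonal to `p, q`, `a ∉ {p, q, pq}`;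
* `TS.inf_O`, `TS.inf_U` : `N_p ∩ N_q ≤ O₂(M)`, `N_p ∩ N_q ∩ U = {1, z}`;
* `TS.F4_ZZ` : `N_r ∩ N_p ≤ {1} ∪ z^{C(r)}`.
-/

set_option autoImplicit false
set_option linter.unusedSectionVars false

namespace Cfsg.Agent.Omega.HOneTwo.Trans

open Subgroup Cfsg.Agent.Omega.BTwo Cfsg.Agent.Omega.HTwo.Eight Cfsg.Agent.Omega.HOneTwo.OpSys
  Cfsg.Agent.Omega.HOneTwo.OpInst
open Cfsg.Agent.Omega.HOneTwo.OpInst.OpD (el ve el_mem)

universe u

variable {G : Type u} [Group G]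

namespace TS

variable {D : TS G}

/-- `[N_p, Q_p] = 1` -/
theorem N_Q_comm {p n g : G} (hp : p ∈ D.Δ) (hn : n ∈ gen p D.z) (hg : g ∈ D.Q p) : g * n = n * g := by
  obtain ⟨m, hm, rfl⟩ := hp
  have e : m⁻¹ * (m * D.r 0 * m⁻¹) * m⁻¹⁻¹ = D.r 0 := by group
  have h1 := gen_conj m⁻¹ hn
  rw [e, D.m_z' hm] at h1
  have h2 := D.Q_conj m⁻¹ _ _ hg
  rw [e] at h2
  have h3 := (mem_zt.1 (D.N_le_zt 0 h1)).2 _ h2
  calc g * n = m * ((m⁻¹ * g * m⁻¹⁻¹) * (m⁻¹ * n * m⁻¹⁻¹)) * m⁻¹ := by group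
    _ = n * g := by rw [← h3]; group

theorem z_gen (p : G) : D.z ∈ gen p D.z := self_mem_gen p D.z

/-- `N_p ∩ N_q ≤ N_{qp}` -/
theorem N_inf_mul {p q n : G} (hp : p ∈ D.Δ) (hq : q ∈ D.Δ) (hne : p ≠ q) (h0 : D.f p q = 0)
    (hn : n ∈ gen p D.z) (hn' : n ∈ gen q D.z) : n ∈ gen (q * p) D.z := by
  rw [D.f_Δ hp] at h0
  obtain ⟨g, hg, h1⟩ := D.Q_mv hp hq hne h0
  have h2 := gen_conj g hn'
  rw [conj_of_comm (N_Q_comm hp hn hg), conj_of_comm (N_Q_comm hp (z_gen p) hg), h1] at h2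
  exact h2

theorem inf_O [Finite G] (hQ : ∀ p, D.Q p = Qp p) (F : OM D (O2 D.M)) (B : Bz D) (hk : ¬ KOne D) {p q n : G}
    (hp : p ∈ D.Δ) (hq : q ∈ D.Δ) (hne : p ≠ q) (hn : n ∈ gen p D.z) (hn' : n ∈ gen q D.z) : n ∈ O2 D.M := by
  have I := Inp.of hQ F B hk
  exact F.NO_O hp (N_inf_NO I hp hq hne hn hn')

theorem inf_U [Finite G] (hQ : ∀ p, D.Q p = Qp p) (F : OM D (O2 D.M)) (B : Bz D) (hk : ¬ KOne D) {p q n : G}
    (hp : p ∈ D.Δ) (hq : q ∈ D.Δ) (hne : p ≠ q) (hn : n ∈ gen p D.z) (hn' : n ∈ gen q D.z) (hU : n ∈ D.U) :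
    n = 1 ∨ n = D.z := by
  have I := Inp.of hQ F B hk
  rw [← Np_eq] at hn hn'
  exact I.op.N_inf_U hp hq hne hn hn' hU

/-- a third point of `Δ` orthogonal to `p` and `q` -/
theorem exists_a [Finite G] (hU : 32 < Nat.card D.U) {p q : G} (hp : p ∈ D.Δ) (hq : q ∈ D.Δ) (hne : p ≠ q) :
    ∃ a ∈ D.Δ, D.f p a = 0 ∧ D.f q a = 0 ∧ a ≠ p ∧ a ≠ q ∧ a ≠ p * q := by
  have hpU := D.ΔU hp
  have hqU := D.ΔU hq
  have hzU := D.z_mem
  obtain ⟨v, hv, v0, v1⟩ := exists_sep hp hq hne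
  obtain ⟨w, hw, w0, w1⟩ := exists_sep hq hp hne.symm
  by_contra hcon
  push Not at hcon
  let Φ : ZMod 2 × ZMod 2 × ZMod 2 × ZMod 2 × ZMod 2 → G := fun c =>
    pw p c.1 * pw q c.2.1 * pw D.z c.2.2.1 * pw v c.2.2.2.1 * pw w c.2.2.2.2
  have hK : ∀ u ∈ D.U, D.f p u = 0 → D.f q u = 0 → ∃ a b c : ZMod 2, u = pw p a * pw q b * pw D.z c := by
    have key : ∀ u ∈ D.Δ, D.f p u = 0 → D.f q u = 0 → ∃ a b : ZMod 2, u = pw p a * pw q b := by
      intro u hu h1 h2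
      by_cases h3 : u = p
      · exact ⟨1, 0, by rw [pw_one, pw_zero, mul_one, h3]⟩
      by_cases h4 : u = q
      · exact ⟨0, 1, by rw [pw_one, pw_zero, one_mul, h4]⟩
      · exact ⟨1, 1, by rw [pw_one, pw_one]; exact hcon u hu h1 h2 h3 h4⟩
    intro u hu h1 h2
    rcases D.mem_U_iff.1 hu with h | h | h | h
    · exact ⟨0, 0, 0, by rw [h]; simp⟩
    · exact ⟨0, 0, 1, by rw [h]; simp⟩
    · obtain ⟨a, b, h3⟩ := key u h h1 h2
      exact ⟨a, b, 0, by rw [pw_zero, mul_one]; exact h3⟩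
    · obtain ⟨a, b, h3⟩ := key (u * D.z) h
        (by rw [D.f_mul_right hpU hu hzU, h1, D.f_zr hpU, add_zero])
        (by rw [D.f_mul_right hqU hu hzU, h2, D.f_zr hqU, add_zero])
      refine ⟨a, b, 1, ?_⟩
      rw [pw_one, ← h3, mul_assoc, D.z_sq, mul_one]
  have hcov : (D.U : Set G) ⊆ Set.range Φ := by
    intro u hu
    have hu' : u ∈ D.U := hu
    -- `u v^{f q u} w^{f p u} ∈ K`
    have hvc : pw v (D.f q u) ∈ D.U := D.Ms.pw_mem hv _
    have hwc : pw w (D.f p u) ∈ D.U := D.Ms.pw_mem hw _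
    have fpw : ∀ x ∈ D.U, ∀ y ∈ D.U, ∀ c : ZMod 2, D.f x (pw y c) = c * D.f x y := by
      intro x hx y hy c
      rcases zmod_cases c with rfl | rfl
      · rw [pw_zero, D.f_oner hx, zero_mul]
      · rw [pw_one, one_mul]
    obtain ⟨a, b, c, h1⟩ := hK (u * (pw v (D.f q u) * pw w (D.f p u)))
      (D.U.mul_mem hu' (D.U.mul_mem hvc hwc))
      (by
        rw [D.f_mul_right hpU hu' (D.U.mul_mem hvc hwc), D.f_mul_right hpU hvc hwc, fpw p hpU v hv, fpw p hpU w hw,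
          v0, w1, mul_zero, zero_add, mul_one]
        generalize D.f p u = x
        revert x; decide)
      (by
        rw [D.f_mul_right hqU hu' (D.U.mul_mem hvc hwc), D.f_mul_right hqU hvc hwc, fpw q hqU v hv, fpw q hqU w hw,
          v1, w0, mul_zero, add_zero, mul_one]
        generalize D.f q u = x
        revert x; decide)
    refine ⟨(a, b, c, D.f q u, D.f p u), ?_⟩
    show pw p a * pw q b * pw D.z c * pw v (D.f q u) * pw w (D.f p u) = u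
    rw [← h1]
    have h2 := D.U_sq _ (D.U.mul_mem hvc hwc)
    calc u * (pw v (D.f q u) * pw w (D.f p u)) * pw v (D.f q u) * pw w (D.f p u)
        = u * (pw v (D.f q u) * pw w (D.f p u) * (pw v (D.f q u) * pw w (D.f p u))) := by group
      _ = u := by rw [h2, mul_one]
  have h1 : Nat.card D.U ≤ (Set.range Φ).ncard := by
    rw [show Nat.card D.U = (D.U : Set G).ncard from rfl]
    exact Set.ncard_le_ncard hcov (Set.finite_range _)
  have h2 : (Set.range Φ).ncard ≤ 32 := by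
    have h3 : (Set.range Φ).ncard ≤ Nat.card (ZMod 2 × ZMod 2 × ZMod 2 × ZMod 2 × ZMod 2) := by
      rw [← Set.image_univ, ← Set.ncard_univ]
      exact Set.ncard_image_le Set.finite_univ
    refine h3.trans (le_of_eq ?_)
    simp
  omega

/-- **`N_r ∩ N_p ≤ {1} ∪ z^{C(r)}`** -/
theorem F4_ZZ [Finite G] (hQ : ∀ p, D.Q p = Qp p) (F : OM D (O2 D.M)) (B : Bz D) (hk : ¬ KOne D) {p : G}
    (hp : p ∈ D.Δ) (hne : D.r 0 ≠ p) (h0 : D.f (D.r 0) p = 0) {n : G} (hn : n ∈ gen (D.r 0) D.z)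
    (hn' : n ∈ gen p D.z) (hn1 : n ≠ 1) : n ∈ D.Hs.Δ := by
  have I := Inp.of hQ F B hk
  have hO := F.Hs_orth B hk
  have hr := D.r0_Δ
  have hrU : D.r 0 ∈ D.Hs.U := D.Hs.z_mem
  have hrr : D.r 0 * D.r 0 = 1 := D.r_sq 0
  -- `good`
  have hA : ∀ x y, x ∈ gen (D.r 0) D.z → x ∈ gen p D.z → y ∈ gen (D.r 0) D.z → y ∈ gen p D.z →
      (x = 1 ∨ x ∈ D.Hs.Δ) → (y = 1 ∨ y ∈ D.Hs.Δ) → (x * y = 1 ∨ x * y ∈ D.Hs.Δ) := by
    intro x y hx hx' hy hy' gx gy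
    rcases gx with rfl | gx
    · rw [one_mul]; exact gy
    rcases gy with rfl | gy
    · rw [mul_one]; exact Or.inr gx
    by_cases hxy : x = y
    · left; rw [hxy]; exact D.N_sq hy
    · right
      refine hO.mm x gx y gy hxy ?_
      have := F4_ti hQ F B hk hp hne h0 hx hx' hy hy'
      rwa [Side.f_Δ gx] at this
  -- the commutator with `t_a`
  have hB : ∀ a ∈ D.Δ, D.f (D.r 0) a = 0 → D.f p a = 0 → ∀ x, x ∈ gen (D.r 0) D.z → x ∈ gen p D.z →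
      (x * D.tz a * x⁻¹ * (D.tz a)⁻¹ ∈ gen (D.r 0) D.z ∧ x * D.tz a * x⁻¹ * (D.tz a)⁻¹ ∈ gen p D.z) ∧
      (x * D.tz a * x⁻¹ * (D.tz a)⁻¹ = 1 ∨ x * D.tz a * x⁻¹ * (D.tz a)⁻¹ ∈ D.Hs.Δ) := by
    intro a ha h1 h2 x hx hx'
    have k1 : x * D.tz a * x⁻¹ * (D.tz a)⁻¹ ∈ gen (D.r 0) D.z := by
      rw [← Np_eq] at hx ⊢
      exact I.op.br_mem hr ha h1 hx
    have k2 : x * D.tz a * x⁻¹ * (D.tz a)⁻¹ ∈ gen p D.z := by
      rw [← Np_eq] at hx' ⊢
      exact I.op.br_mem hp ha h2 hx'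
    refine ⟨⟨k1, k2⟩, ?_⟩
    have htA : D.tz a ∈ D.Hs.A := D.mem_HA.2 (mem_Cp.1 (I.op.tq_comm hr ha h1))
    have hxi : x⁻¹ = x := D.Hs.U_inv hx
    have e : x * D.tz a * x⁻¹ * (D.tz a)⁻¹ = x * (D.tz a * x * (D.tz a)⁻¹) := by rw [hxi]; group
    obtain ⟨y, hy⟩ : ∃ y, y = D.tz a * x * (D.tz a)⁻¹ := ⟨_, rfl⟩
    have hyN : y ∈ gen (D.r 0) D.z := by rw [hy]; exact D.Hs.U_conj _ htA x hx
    have hyx : x * y ∈ gen p D.z := by rw [hy, ← e]; exact k2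
    have hyp : y ∈ gen p D.z := by
      have := Subgroup.mul_mem _ (Subgroup.inv_mem _ hx') hyx
      rwa [inv_mul_cancel_left] at this
    rw [e, ← hy]
    rcases hO.full x hx with h3 | h3 | h3 | h3
    · left
      rw [h3, one_mul, hy, h3]; group
    · left
      have h4 : D.Hs.z = D.r 0 := rfl
      rw [h4] at h3
      rw [hy, h3, conj_of_comm (D.mem_HA.1 htA)]
      exact hrr
    · have h4 : y ∈ D.Hs.Δ := by rw [hy]; exact D.Hs.Δ_conj _ htA x h3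
      exact hA x y hx hx' hyN hyp (Or.inr h3) (Or.inr h4)
    · have h4 : D.Hs.z = D.r 0 := rfl
      rw [h4] at h3
      have h5 : y * D.r 0 ∈ D.Hs.Δ := by
        have := D.Hs.Δ_conj _ htA _ h3
        have e2 : D.tz a * (x * D.r 0) * (D.tz a)⁻¹ = y * D.r 0 := by
          calc D.tz a * (x * D.r 0) * (D.tz a)⁻¹ = (D.tz a * x * (D.tz a)⁻¹) * (D.tz a * D.r 0 * (D.tz a)⁻¹) := by
                group
            _ = y * D.r 0 := by rw [← hy, conj_of_comm (D.mem_HA.1 htA)]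
        rwa [e2] at this
      have hry : D.r 0 * y = y * D.r 0 := D.Hs.U_comm hrU hyN
      have e3 : x * D.r 0 * (y * D.r 0) = x * y := by
        calc x * D.r 0 * (y * D.r 0) = x * (D.r 0 * y) * D.r 0 := by group
          _ = x * y * (D.r 0 * D.r 0) := by rw [hry]; group
          _ = x * y := by rw [hrr, mul_one]
      by_cases hxy : x * D.r 0 = y * D.r 0
      · left
        rw [← e3, hxy]
        exact D.Hs.U_sq _ (D.Hs.Δ_le h5)
      · right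
        rw [← e3]
        refine hO.mm _ h3 _ h5 hxy ?_
        have h6 := F4_ti hQ F B hk hp hne h0 hx hx' hyN hyp
        have hF := B.full
        have h7 : D.Hs.f x y = D.Hs.φ (x * D.Hs.z) y := hF.f_Δz h3
        rw [h7] at h6
        have h8 := hF.φ_mul_z (p := x * D.Hs.z) h3 hyN
        exact h8.trans h6
  -- `a`, `a'`
  have hU := (f4 hQ F B hk).1
  obtain ⟨a, ha, a1, a2, a3, a4, a5⟩ := exists_a (by rw [hU]; norm_num) hr hp hne
  obtain ⟨a', ha', b1, b2, b3⟩ : ∃ a' ∈ D.Δ, D.f (D.r 0) a' = 0 ∧ D.f p a' = 0 ∧ D.f a a' = 1 := by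
    obtain ⟨v, hv, c1, c2, c3⟩ := exists_sep3 hr hp ha hne a3 a4 h0 a5
    have hrU' := D.ΔU hr
    have hpU := D.ΔU hp
    have haU := D.ΔU ha
    rcases D.mem_U_iff.1 hv with h | h | h | h
    · rw [h, D.f_oner haU] at c3
      exact absurd c3 (by decide)
    · rw [h, D.f_zr haU] at c3
      exact absurd c3 (by decide)
    · exact ⟨v, h, c1, c2, c3⟩
    · refine ⟨v * D.z, h, ?_, ?_, ?_⟩
      · rw [D.f_mul_right hrU' hv D.z_mem, c1, D.f_zr hrU', add_zero]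
      · rw [D.f_mul_right hpU hv D.z_mem, c2, D.f_zr hpU, add_zero]
      · rw [D.f_mul_right haU hv D.z_mem, c3, D.f_zr haU, add_zero]
  -- the decomposition
  obtain ⟨⟨k1, k2⟩, -⟩ := hB a' ha' b1 b2 n hn hn'
  obtain ⟨⟨k3, k4⟩, g3⟩ := hB a ha a1 a2 _ k1 k2
  obtain ⟨⟨l1, l2⟩, -⟩ := hB a ha a1 a2 n hn hn'
  obtain ⟨⟨l3, l4⟩, g4⟩ := hB a' ha' b1 b2 _ l1 l2
  have hnO := N_inf_NO I hr hp hne hn hn'
  have hΓ : ∀ {x : G}, x ∈ gen (D.r 0) D.z → x ∈ gen p D.z → x ∈ I.op.Γ := fun {x} h1 h2 =>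
    I.op.NU_Γ hr (I.NU_iff.2 (N_inf_NO I hr hp hne h1 h2))
  have hx : I.op.cl n ∈ (I.op.T I.q).range := (I.op.mem_range hr _).2 ⟨n, I.NU_iff.2 hnO, rfl⟩
  have h5 := I.op.ops.split (q := I.q) (r := ve (I.op.res.Δ_U a ha)) (r' := ve (I.op.res.Δ_U a' ha')) a1 b1 b3 hx
  rw [I.op.T_eq ha', I.op.T_eq ha, I.op.T_eq ha, I.op.T_eq ha'] at h5
  have hnΓ := hΓ hn hn'
  have e1 : I.op.T₀ a' (I.op.cl n) = I.op.cl (n * D.tz a' * n⁻¹ * (D.tz a')⁻¹) := I.op.T₀_cl ha' hnΓ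
  have e2 : I.op.T₀ a (I.op.cl n) = I.op.cl (n * D.tz a * n⁻¹ * (D.tz a)⁻¹) := I.op.T₀_cl ha hnΓ
  rw [e1, e2] at h5
  have e3 := I.op.T₀_cl ha (hΓ k1 k2)
  have e4 := I.op.T₀_cl ha' (hΓ l1 l2)
  rw [e3, e4] at h5
  have h6 : I.op.cl n = I.op.cl (_ * _) := h5.trans (I.op.cl_mul (hΓ k3 k4) (hΓ l3 l4)).symm
  have h7 := (I.op.cl_eq_iff hnΓ (Subgroup.mul_mem _ (hΓ k3 k4) (hΓ l3 l4))).1 h6
  have g5 := hA _ _ k3 k4 l3 l4 g3 g4
  have m1 := Subgroup.mul_mem _ k3 l3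
  have m2 := Subgroup.mul_mem _ k4 l4
  have h8 := inf_U hQ F B hk hr hp hne (Subgroup.mul_mem _ (Subgroup.inv_mem _ hn) m1)
    (Subgroup.mul_mem _ (Subgroup.inv_mem _ hn') m2) h7
  have h9 : n = 1 ∨ n ∈ D.Hs.Δ := by
    rcases h8 with h8 | h8
    · rw [inv_mul_eq_one] at h8
      rw [h8]; exact g5
    · have h10 := hA _ _ m1 m2 (z_gen (D.r 0)) (z_gen p) g5 (Or.inr D.zHΔ)
      rw [inv_mul_eq_iff_eq_mul] at h8
      rw [h8, mul_assoc, D.z_sq, mul_one] at h10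
      exact h10
  exact h9.resolve_left hn1

end TS

end Cfsg.Agent.Omega.HOneTwo.Trans

end

end

-- merged: Cfsg.Agent.Mrg.Omega.HOneTwo.EndM
section

/-!
# II.0h1, `q = 2`, F4-type: the END of #16429, #17243

`FF D S` : the situation after (20): `TS`, `OM D (O₂ M)`, `Bz D`, `¬ KOne D`, `S ∈ Syl₂(G)`, characteristic 2.

* `FF.S_M`, `FF.KM` (`C_M(U) = O₂(M)`), `FF.K1_pow` (`C_{H₁}(N₁)` is a 2-group), `FF.irr`;
* `FF.O_z` : `O₂(C_G(z)) = O₂(M)`;  `FF.Z_O` : `Z(O₂(M)) ≤ U`.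
-/

set_option autoImplicit false
set_option linter.unusedSectionVars false

namespace Cfsg.Agent.Omega.HOneTwo.Trans

open Subgroup Cfsg.Agent.Omega.BTwo Cfsg.Agent.Omega.HTwo.Eight Cfsg.Agent.Omega.HOneTwo.OpSys
  Cfsg.Agent.Omega.HOneTwo.OpInst
open Cfsg.Agent.Omega.HOneTwo.OpInst.OpD (el ve el_mem)

universe u

variable {G : Type u} [Group G]

namespace TS

/-- the situation after (20) of #16429 -/
structure FF [Finite G] (D : TS G) (S : Sylow 2 G) : Prop where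
  hQ : ∀ p, D.Q p = Qp p
  F : OM D (O2 D.M)
  B : Bz D
  hk : ¬ KOne D
  S_r : ∀ s ∈ (S : Subgroup G), s * D.r 0 = D.r 0 * s
  S_z : ∀ s ∈ (S : Subgroup G), s * D.z = D.z * s
  S_V : ∀ s ∈ (S : Subgroup G), s * D.r 1 * s⁻¹ = D.r 1 ∨ s * D.r 1 * s⁻¹ = D.r 2
  cM : ∀ g ∈ D.M, (∀ o ∈ O2 D.M, g * o = o * g) → g ∈ O2 D.M
  cz : ∀ g, g * D.z = D.z * g → (∀ o ∈ O2 (centralizer {D.z}), g * o = o * g) → g ∈ O2 (centralizer {D.z})

namespace FF

variable [Finite G] {D : TS G} {S : Sylow 2 G} (A : FF D S)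

include A

theorem inp : D.Inp := Inp.of A.hQ A.F A.B A.hk

theorem card_U : Nat.card D.U = 2 ^ 7 := (f4 A.hQ A.F A.B A.hk).1

theorem card_NO : Nat.card (D.NO (D.r 0)) = 2 ^ 6 := (f4 A.hQ A.F A.B A.hk).2.1

theorem card_N : Nat.card (gen (D.r 0) D.z) = 2 ^ 7 := (f4 A.hQ A.F A.B A.hk).2.2.1

theorem O_eq : O2 D.M = D.Gam := (f4 A.hQ A.F A.B A.hk).2.2.2.1

theorem card_O : Nat.card (O2 D.M) = 2 ^ 15 := (f4 A.hQ A.F A.B A.hk).2.2.2.2

theorem hU : Nat.card A.inp.op.U = 2 * 4 ^ 3 := by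
  show Nat.card D.U = _
  rw [A.card_U]; norm_num

theorem hS : Nat.card A.inp.op.S = 256 := by
  have h1 := A.inp.op.card_Γ
  have h2 : A.inp.op.Γ = O2 D.M := (A.inp.op.O_eq (n := 0) A.hU).symm
  rw [h2, A.card_O] at h1
  have h3 : Nat.card A.inp.op.U = 2 ^ 7 := A.card_U
  rw [h3] at h1
  omega

theorem cop : ∀ g ∈ A.inp.op.M, (∀ o ∈ O2 A.inp.op.M, g * o = o * g) → g ∈ O2 A.inp.op.M := A.cM

theorem S_M : (S : Subgroup G) ≤ D.M := fun s hs => D.M_r s (A.S_r s hs) (A.S_z s hs)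

theorem M_cz : D.M ≤ centralizer {D.z} := fun m hm => mem_centralizer_singleton_iff.2 (D.M_z m hm)

theorem O_S : O2 D.M ≤ (S : Subgroup G) := HTwo.Par.O2_le_sylow S A.S_M

/-- `C_M(U) = O₂(M)` -/
theorem KM {k : G} (hk : k ∈ D.M) (hkU : ∀ u ∈ D.U, k * u = u * k) : k ∈ O2 D.M :=
  A.inp.op.KM_O A.hU A.hS A.cop hk hkU

/-- `M` is irreducible on `O₂(M) / U` -/
theorem irr {K : Subgroup G} (hK : K ≤ O2 D.M) (hKM : ∀ m ∈ D.M, ∀ x ∈ K, m * x * m⁻¹ ∈ K) (hUK : D.U ≤ K)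
    {x : G} (hx : x ∈ K) (hxU : x ∉ D.U) : K = O2 D.M :=
  A.inp.op.irrM A.hU A.hS hK hKM hUK hx hxU

/-- `Z(O₂(M)) ≤ U` -/
theorem Z_O {x : G} (hx : x ∈ O2 D.M) (hc : ∀ o ∈ O2 D.M, x * o = o * x) : x ∈ D.U := by
  by_contra hxU
  have h1 := A.irr (K := O2 D.M ⊓ centralizer (O2 D.M : Set G)) inf_le_left (by
    rintro m hm y ⟨hy1, hy2⟩
    refine ⟨A.F.O_conj m hm y hy1, mem_centralizer_iff.2 fun o ho => ?_⟩
    have h2 := mem_centralizer_iff.1 hy2 _ (A.F.O_conj m⁻¹ (D.M.inv_mem hm) o ho)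
    calc o * (m * y * m⁻¹) = m * ((m⁻¹ * o * m⁻¹⁻¹) * y) * m⁻¹ := by group
      _ = m * y * m⁻¹ * o := by rw [h2]; group)
    (fun u hu => mem_inf.2 ⟨A.F.U_O hu, mem_centralizer_iff.2 fun o ho => A.F.O_U o ho u hu⟩)
    (x := x) (mem_inf.2 ⟨hx, mem_centralizer_iff.2 fun o ho => (hc o ho).symm⟩) hxU
  obtain ⟨g, hg, h, hh, hne⟩ := hnab A.F A.B A.hk
  apply hne
  rw [← A.O_eq] at hg hh
  rw [← h1] at hg
  exact (mem_centralizer_iff.1 hg.2 h hh).symm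

/-- **`O₂(C_G(z)) = O₂(M)`** -/
theorem O_z : O2 (centralizer {D.z}) = O2 D.M := by
  have hSz : (S : Subgroup G) ≤ centralizer {D.z} := A.S_M.trans A.M_cz
  have h1 : O2 (centralizer {D.z}) ≤ (S : Subgroup G) := HTwo.Par.O2_le_sylow S hSz
  have hn : ∀ m ∈ D.M, ∀ x ∈ O2 (centralizer {D.z}), m * x * m⁻¹ ∈ O2 (centralizer {D.z}) := fun m hm x hx =>
    conj_mem_of_normalizer (le_normalizer_O2 _ (A.M_cz hm)) hx
  have h2 : O2 (centralizer {D.z}) ≤ O2 D.M :=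
    le_O2_of_normal (h1.trans A.S_M) (O2_isPGroup _) hn
  have hr : D.r 0 ∈ O2 (centralizer {D.z}) := by
    refine A.cz _ D.z_r.symm fun o ho => ?_
    exact (A.S_r o (h1 ho)).symm
  have hU : D.U ≤ O2 (centralizer {D.z}) := by
    unfold U gn
    rw [closure_le]
    rintro _ ⟨m, hm, rfl⟩
    exact hn m hm _ hr
  by_cases h : ∃ x ∈ O2 (centralizer {D.z}), x ∉ D.U
  · obtain ⟨x, hx, hxU⟩ := h
    exact A.irr h2 hn hU hx hxU
  · exfalso
    push Not at h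
    obtain ⟨n, hn1, hn2⟩ := hk' A.hk
    apply hn2
    apply h
    have h3 := D.mem_NO.1 hn1
    refine A.cz n (D.N_z h3.1) fun o ho => h3.2 o (h o ho)

/-- `C_{H₁}(N₁)` is a 2-group -/
theorem K1_pow {k : G} (hk : k * D.r 0 = D.r 0 * k) (hkN : ∀ n ∈ gen (D.r 0) D.z, k * n = n * k) :
    ∃ i : ℕ, k ^ 2 ^ i = 1 := by
  have hkz : k * D.z = D.z * k := hkN _ (self_mem_gen _ _)
  have hkM : k ∈ D.M := D.M_r k hk hkz
  have hne : (A.inp.op.T (ve (A.inp.op.res.Δ_U _ A.inp.op.r_Δ))).range ≠ ⊥ := by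
    intro hbot
    obtain ⟨n, hn1, hn2⟩ := hk' A.hk
    have hn3 : A.inp.op.NU (D.r 0) n := A.inp.NU_iff.2 hn1
    have h1 := (A.inp.op.mem_range A.inp.op.r_Δ (A.inp.op.cl n)).2 ⟨n, hn3, rfl⟩
    rw [hbot, AddSubgroup.mem_bot, A.inp.op.cl_eq_zero (A.inp.op.NU_Γ D.r0_Δ hn3)] at h1
    exact hn2 h1
  have h4 : ∀ u ∈ D.U, (k * k) * (k * k) * u = u * ((k * k) * (k * k)) := by
    intro u hu
    refine A.inp.op.pow_four hne hkM hk (fun n hn => ?_) hu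
    have h1 : n ∈ gen (D.r 0) D.z := (D.mem_NO.1 (A.inp.NU_iff.1 hn)).1
    have e : k * n * k⁻¹ * n⁻¹ = 1 := by rw [hkN n h1]; group
    rw [e]
    exact one_mem _
  have hk2 := D.M.mul_mem (D.M.mul_mem hkM hkM) (D.M.mul_mem hkM hkM)
  have h5 := A.KM hk2 h4
  obtain ⟨i, hi⟩ := O2_isPGroup D.M ⟨_, h5⟩
  have hi' : (k * k * (k * k)) ^ 2 ^ i = 1 := congrArg Subtype.val hi
  refine ⟨i + 2, ?_⟩
  have e : k * k * (k * k) = k ^ 4 := by
    rw [pow_succ, pow_succ, pow_succ, pow_one]; group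
  rw [e, ← pow_mul] at hi'
  rw [pow_add, mul_comm]
  exact hi'

end FF

end TS

end Cfsg.Agent.Omega.HOneTwo.Trans

end

-- merged: Cfsg.Agent.Mrg.Omega.HOneTwo.FSysA
section

section


/-!
# II.0h1, `q = 2`, F4-type: the flag of `M` ((21) of #16429)

* `Side.sdata` : a full side gives `SData`;
* `mem_ad`, `card_ad` : adjoining an involution in an elementary abelian group;
* `FF.exists_flag` : `⟨z⟩ < ⟨z, r₀⟩ < ⟨z, r₀, r₁⟩ < X 3 ≤ U`, `S` its full stabiliser in `M`.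
-/

set_option autoImplicit false
set_option linter.unusedSectionVars false

namespace Cfsg.Agent.Omega.HOneTwo.Trans

open Subgroup Cfsg.Agent.Omega.BTwo Cfsg.Agent.Omega.HTwo.Eight Cfsg.Agent.Omega.HTwo.SysSymp

universe u

variable {G : Type u} [Group G]

/-- a full side -/
theorem Side.sdata {D : Side G} (h : D.IsFull) : SData D.A D.U D.z D.f where
  zz := h.zz
  C_z := D.z_comm
  z_U := D.z_mem
  U_comm := fun _ hu _ hv => D.U_comm hu hv
  U_sq := D.U_sq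
  U_C := D.U_conj
  f_add := fun _ hu _ hv _ hw => h.f_mul_left hu hv hw
  f_symm := fun _ hu _ hv => h.f_symm hu hv
  f_self := fun _ hu => h.f_self hu
  f_C := fun _ hc _ hu _ hv => h.f_conj hc hu hv
  f_rad := fun u hu hv => h.rad hu fun p hp => hv p (D.Δ_le hp)
  f_z := fun _ _ => h.f_z
  tv := by
    have key : ∀ q ∈ D.Δ, ∀ u ∈ D.U, (D.f u q = 0 → D.t q * u * (D.t q)⁻¹ = u) ∧
        (D.f u q = 1 → D.t q * u * (D.t q)⁻¹ = u * (q * D.z)) := by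
      intro q hq u hu
      have h1 := D.t_act hq hu
      have h2 : D.f u q = D.φ q u := by rw [h.f_symm hu (D.Δ_le hq), Side.f_Δ hq]
      rw [h2]
      exact ⟨fun h3 => by rw [h1, h3, pw_zero, mul_one], fun h3 => by rw [h1, h3, pw_one]⟩
    intro p hp
    rcases h.cases hp with h1 | ⟨q, hq, h1⟩
    · refine ⟨1, D.A.one_mem, fun u hu => ⟨fun _ => Or.inl (by group), fun h2 => ?_⟩⟩
      exfalso
      rcases h1 with rfl | rfl
      · rw [h.f_right_one hu] at h2; exact zero_ne_one h2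
      · rw [h.f_right_z hu] at h2; exact zero_ne_one h2
    · refine ⟨D.t q, D.t_A hq, fun u hu => ?_⟩
      have hqz : D.U_comm D.z_mem (D.Δ_le hq) = D.U_comm D.z_mem (D.Δ_le hq) := rfl
      rcases h1 with rfl | rfl
      · refine ⟨fun h2 => Or.inl ((key _ hq u hu).1 h2), fun h2 => Or.inr ?_⟩
        rw [(key _ hq u hu).2 h2, mul_assoc]
      · have e : D.f u (q * D.z) = D.f u q := by
          rw [h.f_mul_right (D.Δ_le hq) D.z_mem hu, h.f_right_z hu, add_zero]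
        rw [e]
        refine ⟨fun h2 => Or.inl ((key _ hq u hu).1 h2), fun h2 => Or.inl ?_⟩
        rw [(key _ hq u hu).2 h2]

/-! ### adjoining an involution -/

section ad

variable {U A : Subgroup G} (hc : ∀ u ∈ U, ∀ v ∈ U, u * v = v * u) (hs : ∀ u ∈ U, u * u = 1) (hA : A ≤ U) {u : G}
  (hu : u ∈ U)

include hc hs hA hu

theorem mem_ad {x : G} : x ∈ A ⊔ zpowers u ↔ x ∈ A ∨ x * u ∈ A := by
  constructor
  · intro hx
    let K : Subgroup G :=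
      { carrier := {x | x ∈ U ∧ (x ∈ A ∨ x * u ∈ A)}
        one_mem' := ⟨U.one_mem, Or.inl A.one_mem⟩
        mul_mem' := by
          rintro a b ⟨ha, ha'⟩ ⟨hb, hb'⟩
          refine ⟨U.mul_mem ha hb, ?_⟩
          rcases ha' with ha' | ha' <;> rcases hb' with hb' | hb'
          · exact Or.inl (A.mul_mem ha' hb')
          · right
            rw [mul_assoc]
            exact A.mul_mem ha' hb'
          · right
            have e : a * b * u = (a * u) * b := by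
              rw [mul_assoc, hc b hb u hu, ← mul_assoc]
            rw [e]
            exact A.mul_mem ha' hb'
          · left
            have e : a * b = (a * u) * (b * u) := by
              calc a * b = a * (u * u) * b := by rw [hs u hu, mul_one]
                _ = (a * u) * (u * b) := by group
                _ = _ := by rw [hc u hu b hb]
            rw [e]
            exact A.mul_mem ha' hb'
        inv_mem' := by
          rintro a ⟨ha, ha'⟩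
          have e : a⁻¹ = a := inv_eq_of_mul_eq_one_left (hs a ha)
          rw [e]
          exact ⟨ha, ha'⟩ }
    have h1 : A ⊔ zpowers u ≤ K := sup_le (fun a ha => ⟨hA ha, Or.inl ha⟩)
      (zpowers_le.2 ⟨hu, Or.inr (by rw [hs u hu]; exact A.one_mem)⟩)
    exact (h1 hx).2
  · rintro (h | h)
    · exact mem_sup_left h
    · have e : x = x * u * u := by rw [mul_assoc, hs u hu, mul_one]
      rw [e]
      exact Subgroup.mul_mem _ (mem_sup_left h) (mem_sup_right (mem_zpowers u))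

theorem card_ad [Finite G] (hn : u ∉ A) : Nat.card (A ⊔ zpowers u : Subgroup G) = 2 * Nat.card A := by
  have h1 : A ≤ A ⊔ zpowers u := le_sup_left
  have h2 : (A.subgroupOf (A ⊔ zpowers u)).index = 2 := by
    rw [Subgroup.index_eq_two_iff]
    refine ⟨⟨u, mem_sup_right (mem_zpowers u)⟩, fun b => ?_⟩
    rw [mem_subgroupOf, mem_subgroupOf]
    rcases (mem_ad hc hs hA hu).1 b.2 with h | h
    · right
      refine ⟨h, fun h3 => hn ?_⟩
      have h4 := A.mul_mem (A.inv_mem h) h3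
      have e : (b : G)⁻¹ * ((b : G) * u) = u := by group
      change (b : G)⁻¹ * ((b : G) * u) ∈ A at h4
      rwa [e] at h4
    · left
      refine ⟨h, fun h3 => hn ?_⟩
      have h4 := A.mul_mem (A.inv_mem h3) h
      have e : (b : G)⁻¹ * ((b : G) * u) = u := by group
      rwa [e] at h4
  have h3 := Subgroup.card_mul_index (A.subgroupOf (A ⊔ zpowers u))
  rw [h2, Nat.card_congr (Subgroup.subgroupOfEquivOfLe h1).toEquiv] at h3
  rw [← h3, mul_comm]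

end ad

theorem conj_ad {A : Subgroup G} {u g : G} (hA : ∀ a ∈ A, g * a * g⁻¹ ∈ A ⊔ zpowers u)
    (hu : g * u * g⁻¹ ∈ A ⊔ zpowers u) : ∀ x ∈ A ⊔ zpowers u, g * x * g⁻¹ ∈ A ⊔ zpowers u := by
  have h : A ⊔ zpowers u ≤ (A ⊔ zpowers u).comap (MulAut.conj g).toMonoidHom := by
    refine sup_le (fun a ha => ?_) (zpowers_le.2 ?_)
    · exact hA a ha
    · exact hu
  exact fun x hx => h hx

theorem mem_zp {u x : G} (hu : u * u = 1) : x ∈ zpowers u ↔ x = 1 ∨ x = u := by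
  constructor
  · intro hx
    obtain ⟨k, rfl⟩ := mem_zpowers_iff.1 hx
    rcases Int.even_or_odd' k with ⟨c, hc | hc⟩
    · left
      rw [hc, zpow_mul, zpow_two, hu, one_zpow]
    · right
      rw [hc, zpow_add, zpow_mul, zpow_two, hu, one_zpow, one_mul, zpow_one]
  · rintro (rfl | rfl)
    · exact Subgroup.one_mem _
    · exact mem_zpowers _

theorem card_zp [Finite G] {u : G} (hu : u * u = 1) (h1 : u ≠ 1) : Nat.card (zpowers u) = 2 := by
  rw [Nat.card_zpowers, orderOf_eq_prime (by rw [pow_two]; exact hu) h1]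

namespace TS

/-- the partial flag -/
def Yf (D : TS G) : ℕ → Subgroup G
  | 0 => zpowers D.z
  | 1 => zpowers D.z ⊔ zpowers (D.r 0)
  | _ => zpowers D.z ⊔ zpowers (D.r 0) ⊔ zpowers (D.r 1)

variable {D : TS G}

theorem zz : D.z * D.z = 1 := D.z_sq

theorem zp_U : zpowers D.z ≤ D.U := zpowers_le.2 D.z_mem

theorem zr_U : zpowers D.z ⊔ zpowers (D.r 0) ≤ D.U := sup_le zp_U (zpowers_le.2 (D.r_mem 0))

theorem Y2_U : zpowers D.z ⊔ zpowers (D.r 0) ⊔ zpowers (D.r 1) ≤ D.U := sup_le zr_U (zpowers_le.2 (D.r_mem 1))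

theorem cU (u : G) (hu : u ∈ D.U) (v : G) (hv : v ∈ D.U) : u * v = v * u := D.U_comm hu hv

theorem mem_Y0 {x : G} : x ∈ zpowers D.z ↔ x = 1 ∨ x = D.z := mem_zp D.z_sq

theorem mem_Y1 {x : G} : x ∈ zpowers D.z ⊔ zpowers (D.r 0) ↔
    x = 1 ∨ x = D.z ∨ x = D.r 0 ∨ x = D.r 0 * D.z := by
  rw [mem_ad cU D.U_sq zp_U (D.r_mem 0), mem_Y0, mem_Y0]
  have e : ∀ y, x * D.r 0 = y ↔ x = y * D.r 0 := by
    intro y
    constructor
    · intro h
      rw [← h, mul_assoc, D.r_sq, mul_one]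
    · intro h
      rw [h, mul_assoc, D.r_sq, mul_one]
  rw [e, e, one_mul, D.z_r]
  tauto

theorem r2_eq : D.r 2 = D.r 0 * D.r 1 := by
  have h1 := D.r_prod
  have h2 := mul_eq_one_iff_eq_inv.1 h1
  have h3 : (D.r 2)⁻¹ = D.r 2 := inv_eq_of_mul_eq_one_left (D.r_sq 2)
  rw [← h3, ← h2]

theorem f_r {i j : Fin 3} : D.φ (D.r i) (D.r j) = 0 := D.φ_eq_zero_iff.2 (D.r_Q j i)

/-- `Δ ∩ ⟨z, r₀, r₁⟩ = {r₀, r₁, r₀ r₁}` -/
theorem mem_Y2_Δ {x : G} (hx : x ∈ zpowers D.z ⊔ zpowers (D.r 0) ⊔ zpowers (D.r 1)) (hxΔ : x ∈ D.Δ) :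
    x = D.r 0 ∨ x = D.r 1 ∨ x = D.r 0 * D.r 1 := by
  rw [mem_ad cU D.U_sq zr_U (D.r_mem 1), mem_Y1, mem_Y1] at hx
  have hz := D.z_Δ
  have h1 := D.one_Δ
  have e : ∀ y, x * D.r 1 = y → x = y * D.r 1 := by
    intro y h
    rw [← h, mul_assoc, D.r_sq, mul_one]
  have r2 : D.r 0 * D.r 1 ∈ D.Δ := by rw [← r2_eq]; exact D.r_Δ 2
  rcases hx with (h | h | h | h) | (h | h | h | h)
  · rw [h] at hxΔ; exact absurd hxΔ h1
  · rw [h] at hxΔ; exact absurd hxΔ hz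
  · exact Or.inl h
  · rw [h] at hxΔ; exact absurd hxΔ (D.zz_mem D.r0_Δ)
  · right; left
    rw [e _ h, one_mul]
  · exfalso
    rw [e _ h, cU _ D.z_mem _ (D.r_mem 1)] at hxΔ
    exact D.zz_mem (D.r_Δ 1) hxΔ
  · right; right
    exact e _ h
  · exfalso
    have e2 : D.r 0 * D.z * D.r 1 = D.r 0 * D.r 1 * D.z := by
      rw [mul_assoc, cU _ D.z_mem _ (D.r_mem 1), ← mul_assoc]
    rw [e _ h, e2] at hxΔ
    exact D.zz_mem r2 hxΔ

theorem r1_nmem : D.r 1 ∉ zpowers D.z ⊔ zpowers (D.r 0) := by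
  rw [mem_Y1]
  rintro (h | h | h | h)
  · exact D.one_Δ (h ▸ D.r_Δ 1)
  · exact D.z_Δ (h ▸ D.r_Δ 1)
  · exact D.r_r (i := 1) (j := 0) (by decide) h
  · exact D.zz_mem D.r0_Δ (h ▸ D.r_Δ 1)

theorem r0_nmem : D.r 0 ∉ zpowers D.z := by
  rw [mem_Y0]
  rintro (h | h)
  · exact D.one_Δ (h ▸ D.r0_Δ)
  · exact D.z_Δ (h ▸ D.r0_Δ)

namespace FF

variable [Finite G] {S : Sylow 2 G} (A : FF D S)
include A

theorem Msd : SData D.M D.U D.z D.Ms.f := Side.sdata D.Ms_orth.toIsFull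

theorem Hsd : SData (centralizer {D.r 0}) (gen (D.r 0) D.z) (D.r 0) D.Hs.f := Side.sdata A.B.full

theorem card_Y (d : ℕ) (hd : d ≤ 2) : Nat.card (D.Yf d) = 2 ^ (d + 1) := by
  have h0 : Nat.card (zpowers D.z) = 2 := card_zp D.z_sq D.z_ne
  have h1 := card_ad (A := zpowers D.z) cU D.U_sq zp_U (D.r_mem 0) r0_nmem
  have h2 := card_ad (A := zpowers D.z ⊔ zpowers (D.r 0)) cU D.U_sq zr_U (D.r_mem 1) r1_nmem
  rw [h0] at h1
  rw [h1] at h2
  interval_cases d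
  · exact h0
  · exact h1
  · exact h2

theorem S_Y (d : ℕ) (hd : d ≤ 2) : ∀ s ∈ (S : Subgroup G), ∀ y ∈ D.Yf d, s * y * s⁻¹ ∈ D.Yf d := by
  have h0 : ∀ s ∈ (S : Subgroup G), ∀ y ∈ zpowers D.z, s * y * s⁻¹ ∈ zpowers D.z := by
    intro s hs y hy
    rw [mem_Y0] at hy ⊢
    rcases hy with rfl | rfl
    · left; group
    · right; exact conj_of_comm (A.S_z s hs)
  have h1 : ∀ s ∈ (S : Subgroup G), ∀ y ∈ zpowers D.z ⊔ zpowers (D.r 0),
      s * y * s⁻¹ ∈ zpowers D.z ⊔ zpowers (D.r 0) := fun s hs =>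
    conj_ad (fun a ha => mem_sup_left (h0 s hs a ha)) (by
      rw [conj_of_comm (A.S_r s hs)]; exact mem_sup_right (mem_zpowers _))
  have h2 : ∀ s ∈ (S : Subgroup G), ∀ y ∈ zpowers D.z ⊔ zpowers (D.r 0) ⊔ zpowers (D.r 1),
      s * y * s⁻¹ ∈ zpowers D.z ⊔ zpowers (D.r 0) ⊔ zpowers (D.r 1) := fun s hs =>
    conj_ad (fun a ha => mem_sup_left (h1 s hs a ha)) (by
      rcases A.S_V s hs with h | h <;> rw [h]
      · exact mem_sup_right (mem_zpowers _)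
      · rw [r2_eq]
        exact Subgroup.mul_mem _ (mem_sup_left (mem_sup_right (mem_zpowers _))) (mem_sup_right (mem_zpowers _)))
  interval_cases d
  · exact h0
  · exact h1
  · exact h2

/-- `f = 0` on `⟨z, r₀, r₁⟩` -/
theorem iso_Y : ∀ x ∈ D.Yf 2, ∀ y ∈ D.Yf 2, D.Ms.f x y = 0 := by
  have hF := D.Ms_orth.toIsFull
  have hle : D.Yf 2 ≤ D.U := Y2_U
  intro x hx y hy
  have key : ∀ p ∈ D.Δ, p ∈ D.Yf 2 → ∀ q ∈ D.Δ, q ∈ D.Yf 2 → D.Ms.f p q = 0 := by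
    have a1 : ∀ i j, D.Ms.φ (D.r i) (D.r j) = 0 := fun i j => f_r
    have hr2 : D.r 0 * D.r 1 = D.r 2 := r2_eq.symm
    intro p hp hpY q hq hqY
    rw [Side.f_Δ hp]
    rcases mem_Y2_Δ hpY hp with rfl | rfl | rfl <;> rcases mem_Y2_Δ hqY hq with rfl | rfl | rfl <;>
      (try rw [hr2]) <;> exact a1 _ _
  rcases hF.cases (hle hx) with (rfl | rfl) | ⟨p, hp, hp'⟩
  · exact hF.f_one
  · exact hF.f_z
  · change x = p ∨ x = p * D.z at hp'
    have hpY : p ∈ D.Yf 2 := by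
      rcases hp' with rfl | rfl
      · exact hx
      · have h3 := Subgroup.mul_mem _ hx (show D.z ∈ D.Yf 2 from mem_sup_left (mem_sup_left (mem_zpowers _)))
        rwa [mul_assoc, D.z_sq, mul_one] at h3
    have e : D.Ms.f x y = D.Ms.f p y := by
      rcases hp' with rfl | rfl
      · rfl
      · exact (hF.f_pz hp).trans (Side.f_Δ hp).symm
    rw [e]
    rcases hF.cases (hle hy) with (rfl | rfl) | ⟨q, hq, hq'⟩
    · exact hF.f_right_one (D.ΔU hp)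
    · exact hF.f_right_z (D.ΔU hp)
    · change y = q ∨ y = q * D.z at hq'
      have hqY : q ∈ D.Yf 2 := by
        rcases hq' with rfl | rfl
        · exact hy
        · have h3 := Subgroup.mul_mem _ hy (show D.z ∈ D.Yf 2 from mem_sup_left (mem_sup_left (mem_zpowers _)))
          rwa [mul_assoc, D.z_sq, mul_one] at h3
      rcases hq' with rfl | rfl
      · exact key p hp hpY _ hq hqY
      · have e2 : D.Ms.f p (q * D.z) = D.Ms.f p q + D.Ms.f p D.z :=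
          hF.f_mul_right (D.ΔU hq) D.z_mem (D.ΔU hp)
        have e3 : D.Ms.f p D.z = 0 := hF.f_right_z (D.ΔU hp)
        rw [e2, e3, add_zero]
        exact key p hp hpY q hq hqY

theorem M_ker (c : G) (hc : c ∈ D.M) (h : ∀ u ∈ D.U, c * u = u * c) : ∃ n : ℕ, c ^ 2 ^ n = 1 := by
  obtain ⟨n, hn⟩ := O2_isPGroup D.M ⟨c, A.KM hc h⟩
  exact ⟨n, congrArg Subtype.val hn⟩

theorem H_ker (c : G) (hc : c ∈ centralizer {D.r 0}) (h : ∀ u ∈ gen (D.r 0) D.z, c * u = u * c) :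
    ∃ n : ℕ, c ^ 2 ^ n = 1 := A.K1_pow (mem_centralizer_singleton_iff.1 hc) h

theorem le_norm {Y : Subgroup G} {T : Subgroup G} (h : ∀ s ∈ T, ∀ y ∈ Y, s * y * s⁻¹ ∈ Y) :
    T ≤ normalizer (Y : Set G) := by
  intro s hs
  rw [Subgroup.mem_normalizer_iff]
  intro y
  refine ⟨h s hs y, fun hy => ?_⟩
  have h1 := h s⁻¹ (T.inv_mem hs) _ hy
  have e : s⁻¹ * (s * y * s⁻¹) * s⁻¹⁻¹ = y := by group
  rwa [e] at h1

/-- **the flag of `M`** -/
theorem exists_flag : ∃ X : ℕ → Subgroup G, Flg D.U D.z D.Ms.f 3 X ∧ (∀ d ≤ 2, X d = D.Yf d) ∧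
    PPs D.M 3 X ∅ = (S : Subgroup G) := by
  obtain ⟨m, X, h1, h2, h3, h4⟩ := exists_flg A.Msd D.z_ne S A.S_M A.M_ker (k := 2) (Y := D.Yf)
    (fun x => mem_Y0) (by
      intro d hd
      interval_cases d
      · exact le_sup_left
      · exact le_sup_left) Y2_U A.card_Y A.iso_Y (fun d hd => A.le_norm (A.S_Y d hd))
  have h5 := h2.card_U
  rw [A.card_U] at h5
  have h6 := Nat.pow_right_injective (le_refl 2) h5
  have h7 : m = 3 := by
    have : 7 = 2 * m + 1 := h6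
    omega
  subst h7
  exact ⟨X, h2, h3, h4⟩

end FF

end TS

end Cfsg.Agent.Omega.HOneTwo.Trans

end

section


/-!
# II.0h1, `q = 2`, F4-type: the flag of `C(r₀)` ((21) of #16429)

`Ns K = ⋂ {N_p : p ∈ Δ ∩ K}`; `Zf X = ⟨r₀⟩ < ⟨r₀, z⟩ < Ns (X 3) ⟨r₀⟩ < Ns (X 2) ⟨r₀⟩`.

* `FF.exists_hflag` : `Zf X` is a flag, `S` its full stabiliser in `C(r₀)`.
-/

set_option autoImplicit false
set_option linter.unusedSectionVars false

namespace Cfsg.Agent.Omega.HOneTwo.Trans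

open Subgroup Cfsg.Agent.Omega.BTwo Cfsg.Agent.Omega.HTwo.Eight Cfsg.Agent.Omega.HTwo.SysSymp

universe u

variable {G : Type u} [Group G]

namespace TS

/-- `⋂ {N_p : p ∈ Δ ∩ K}` -/
def Ns (D : TS G) (K : Subgroup G) : Subgroup G where
  carrier := {n | ∀ p ∈ D.Δ, p ∈ K → n ∈ gen p D.z}
  one_mem' := fun _ _ _ => Subgroup.one_mem _
  mul_mem' := fun ha hb p hp hK => Subgroup.mul_mem _ (ha p hp hK) (hb p hp hK)
  inv_mem' := fun ha p hp hK => Subgroup.inv_mem _ (ha p hp hK)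

variable {D : TS G}

theorem mem_Ns {K : Subgroup G} {n : G} : n ∈ D.Ns K ↔ ∀ p ∈ D.Δ, p ∈ K → n ∈ gen p D.z := Iff.rfl

theorem Ns_anti {K L : Subgroup G} (h : K ≤ L) : D.Ns L ≤ D.Ns K := fun _ hn p hp hK => hn p hp (h hK)

theorem z_Ns (K : Subgroup G) : D.z ∈ D.Ns K := fun p _ _ => z_gen p

theorem Ns_conj {K : Subgroup G} {m : G} (hm : m ∈ D.M) (hK : m ∈ normalizer (K : Set G)) :
    ∀ n ∈ D.Ns K, m * n * m⁻¹ ∈ D.Ns K := by
  intro n hn p hp hpK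
  have h1 := Dl_inv' hm hp
  have h2 : m⁻¹ * p * m ∈ K := by
    rw [Subgroup.mem_normalizer_iff] at hK
    rw [hK]
    have e : m * (m⁻¹ * p * m) * m⁻¹ = p := by group
    rwa [e]
  have h3 := gen_conj m (hn _ h1 h2)
  have e : m * (m⁻¹ * p * m) * m⁻¹ = p := by group
  rwa [e, D.m_z hm] at h3

/-- the flag of `C(r₀)` -/
def Zf (D : TS G) (X : ℕ → Subgroup G) : ℕ → Subgroup G
  | 0 => zpowers (D.r 0)
  | 1 => zpowers (D.r 0) ⊔ zpowers D.z
  | 2 => D.Ns (X 3) ⊔ zpowers (D.r 0)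
  | _ => D.Ns (X 2) ⊔ zpowers (D.r 0)

theorem cN (u : G) (hu : u ∈ gen (D.r 0) D.z) (v : G) (hv : v ∈ gen (D.r 0) D.z) : u * v = v * u :=
  D.Hs.U_comm hu hv

theorem sN (u : G) (hu : u ∈ gen (D.r 0) D.z) : u * u = 1 := D.Hs.U_sq u hu

namespace FF

variable [Finite G] {S : Sylow 2 G} (A : FF D S) {X : ℕ → Subgroup G} (hX : Flg D.U D.z D.Ms.f 3 X)
  (hY : ∀ d ≤ 2, X d = D.Yf d)

omit [Finite G] in
theorem X2_eq (hY : ∀ d ≤ 2, X d = D.Yf d) : X 2 = zpowers D.z ⊔ zpowers (D.r 0) ⊔ zpowers (D.r 1) :=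
  hY 2 le_rfl

omit [Finite G] in
theorem r0_X2 (hY : ∀ d ≤ 2, X d = D.Yf d) : D.r 0 ∈ X 2 := by
  rw [X2_eq hY]; exact mem_sup_left (mem_sup_right (mem_zpowers _))

omit [Finite G] in
theorem r1_X2 (hY : ∀ d ≤ 2, X d = D.Yf d) : D.r 1 ∈ X 2 := by
  rw [X2_eq hY]; exact mem_sup_right (mem_zpowers _)

omit [Finite G] in
theorem f_X3 (hX : Flg D.U D.z D.Ms.f 3 X) {p q : G} (hp : p ∈ D.Δ) (hpX : p ∈ X 3) (hqX : q ∈ X 3) :
    D.f p q = 0 := by
  rw [D.f_Δ hp]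
  exact (Side.f_Δ (D := D.Ms) hp).symm.trans (hX.iso p hpX q hqX)

omit [Finite G] in
theorem X23 (hX : Flg D.U D.z D.Ms.f 3 X) : X 2 ≤ X 3 := hX.mono 2 (by omega)

include hX in
/-- the third point -/
theorem exists_e : ∃ e ∈ D.Δ, e ∈ X 3 ∧ e ∉ X 2 ∧ X 3 = X 2 ⊔ zpowers e := by
  have h1 : ∃ u ∈ X 3, u ∉ X 2 := by
    by_contra hcon
    push Not at hcon
    have h2 := Subgroup.card_le_of_le (show X 3 ≤ X 2 from hcon)
    rw [hX.card 3 le_rfl, hX.card 2 (by omega)] at h2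
    norm_num at h2
  obtain ⟨u, hu, hu2⟩ := h1
  have hz2 : D.z ∈ X 2 := hX.z_mem (by omega)
  have key : ∀ e ∈ D.Δ, e ∈ X 3 → e ∉ X 2 → X 3 = X 2 ⊔ zpowers e := by
    intro e he he3 he2
    have h3 := card_ad (A := X 2) cU D.U_sq (hX.le_U (by omega)) (D.ΔU he) he2
    rw [hX.card 2 (by omega)] at h3
    symm
    refine Subgroup.eq_of_le_of_card_ge (sup_le (X23 hX) (zpowers_le.2 he3)) ?_
    rw [h3, hX.card 3 le_rfl]
    norm_num
  rcases D.mem_U_iff.1 (hX.le_U (by omega) hu) with h | h | h | h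
  · exact absurd (h ▸ Subgroup.one_mem _) hu2
  · exact absurd (h ▸ hz2) hu2
  · exact ⟨u, h, hu, hu2, key u h hu hu2⟩
  · have h3 : u * D.z ∈ X 3 := Subgroup.mul_mem _ hu (X23 hX hz2)
    have h4 : u * D.z ∉ X 2 := fun h5 => hu2 (by
      have h6 := Subgroup.mul_mem _ h5 hz2
      rwa [mul_assoc, D.z_sq, mul_one] at h6)
    exact ⟨_, h, h3, h4, key _ h h3 h4⟩

omit [Finite G] in
theorem r01 : D.r 0 ≠ D.r 1 := D.r_r (by decide)

omit [Finite G] in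
theorem fr01 : D.f (D.r 0) (D.r 1) = 0 := by
  rw [D.f_Δ D.r0_Δ]; exact f_r

omit [Finite G] in
/-- `Ns (X 2) = N₀ ∩ N₁` -/
theorem Ns2_eq (hY : ∀ d ≤ 2, X d = D.Yf d) : D.Ns (X 2) = gen (D.r 0) D.z ⊓ gen (D.r 1) D.z := by
  apply le_antisymm
  · intro n hn
    exact ⟨hn _ D.r0_Δ (r0_X2 hY), hn _ (D.r_Δ 1) (r1_X2 hY)⟩
  · rintro n ⟨h1, h2⟩ p hp hpX
    rw [X2_eq hY] at hpX
    rcases mem_Y2_Δ hpX hp with rfl | rfl | rfl
    · exact h1
    · exact h2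
    · exact N_inf_mul (D.r_Δ 1) D.r0_Δ r01.symm (by
        rw [D.f_symm (D.r_mem 1) (D.r_mem 0)]; exact fr01) h2 h1

omit [Finite G] in
/-- `Ns (X 3) = N₀ ∩ N₁ ∩ N_e` -/
theorem Ns3_eq (hX : Flg D.U D.z D.Ms.f 3 X) (hY : ∀ d ≤ 2, X d = D.Yf d) {e : G} (he : e ∈ D.Δ) (he3 : e ∈ X 3)
    (he2 : e ∉ X 2) (hX3 : X 3 = X 2 ⊔ zpowers e) :
    D.Ns (X 3) = gen (D.r 0) D.z ⊓ gen (D.r 1) D.z ⊓ gen e D.z := by
  apply le_antisymm
  · intro n hn
    exact ⟨⟨hn _ D.r0_Δ (X23 hX (r0_X2 hY)), hn _ (D.r_Δ 1) (X23 hX (r1_X2 hY))⟩, hn e he he3⟩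
  · rintro n ⟨h12, h3⟩ p hp hpX
    have h2 : n ∈ D.Ns (X 2) := by rw [Ns2_eq hY]; exact h12
    have hpX' := hpX
    rw [hX3, mem_ad cU D.U_sq (hX.le_U (by omega)) (D.ΔU he)] at hpX
    rcases hpX with hpX | hpX
    · exact h2 p hp hpX
    · have hzU := D.z_mem
      have heU := D.ΔU he
      have epe : p = p * e * e := by rw [mul_assoc, D.U_sq e heU, mul_one]
      have main : ∀ y ∈ D.Δ, y ∈ X 2 → n ∈ gen (y * e) D.z ∧ y * e ∈ D.Δ := by
        intro y hy hyX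
        have hne : e ≠ y := fun h => he2 (h ▸ hyX)
        have h0 := f_X3 hX he he3 (X23 hX hyX)
        refine ⟨N_inf_mul he hy hne h0 h3 (h2 y hy hyX), ?_⟩
        have h4 := D.mul_mem hy he hne.symm (by
          rw [D.φ_symm hy he, ← D.f_Δ he]; exact h0)
        exact h4
      rcases D.mem_U_iff.1 (hX.le_U (by omega) hpX) with h | h | h | h
      · rw [epe, h, one_mul]; exact h3
      · exfalso
        rw [epe, h, cU _ hzU _ heU] at hp
        exact D.zz_mem he hp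
      · rw [epe]
        exact (main _ h hpX).1
      · exfalso
        have h5 := (main _ h (Subgroup.mul_mem _ hpX (hX.z_mem (by omega)))).2
        have e2 : p * e * D.z * e = p * D.z := by
          calc p * e * D.z * e = p * (e * D.z) * e := by group
            _ = p * (D.z * e) * e := by rw [cU _ heU _ hzU]
            _ = p * D.z * (e * e) := by group
            _ = p * D.z := by rw [D.U_sq e heU, mul_one]
        rw [e2] at h5
        exact D.zz_mem hp h5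

include A

theorem card_Ns2 (hY : ∀ d ≤ 2, X d = D.Yf d) : Nat.card (D.Ns (X 2)) = 8 := by
  rw [Ns2_eq hY]
  exact F4_two A.hQ A.F A.B A.hk D.r0_Δ (D.r_Δ 1) r01 fr01

include hX in
theorem card_Ns3 (hY : ∀ d ≤ 2, X d = D.Yf d) : Nat.card (D.Ns (X 3)) = 4 := by
  obtain ⟨e, he, he3, he2, h3⟩ := exists_e hX
  rw [Ns3_eq hX hY he he3 he2 h3]
  have h0 := r0_X2 hY
  have h1 := r1_X2 hY
  exact F4_three A.hQ A.F A.B A.hk D.r0_Δ (D.r_Δ 1) he r01 (fun h => he2 (h ▸ h0)) (fun h => he2 (h ▸ h1))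
    (fun h => he2 (h ▸ Subgroup.mul_mem _ h0 h1)) fr01 (f_X3 hX D.r0_Δ (X23 hX h0) he3)
    (f_X3 hX (D.r_Δ 1) (X23 hX h1) he3)

omit A [Finite G] in
theorem Ns2_N (hY : ∀ d ≤ 2, X d = D.Yf d) : D.Ns (X 2) ≤ gen (D.r 0) D.z := by
  rw [Ns2_eq hY]; exact inf_le_left

omit A [Finite G] in
theorem Ns3_N (hX : Flg D.U D.z D.Ms.f 3 X) (hY : ∀ d ≤ 2, X d = D.Yf d) : D.Ns (X 3) ≤ gen (D.r 0) D.z :=
  (Ns_anti (X23 hX)).trans (Ns2_N hY)

theorem r0_Ns2 (hY : ∀ d ≤ 2, X d = D.Yf d) : D.r 0 ∉ D.Ns (X 2) := by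
  intro h
  rw [Ns2_eq hY] at h
  rcases inf_U A.hQ A.F A.B A.hk D.r0_Δ (D.r_Δ 1) r01 h.1 h.2 (D.r_mem 0) with h1 | h1
  · exact D.one_Δ (h1 ▸ D.r0_Δ)
  · exact D.z_Δ (h1 ▸ D.r0_Δ)

theorem r0_Ns3 (hX : Flg D.U D.z D.Ms.f 3 X) (hY : ∀ d ≤ 2, X d = D.Yf d) : D.r 0 ∉ D.Ns (X 3) := fun h =>
  A.r0_Ns2 hY (Ns_anti (X23 hX) h)

omit A [Finite G] in
theorem zpr_N : zpowers (D.r 0) ≤ gen (D.r 0) D.z := zpowers_le.2 D.r_mem_N

theorem card_Z (hX : Flg D.U D.z D.Ms.f 3 X) (hY : ∀ d ≤ 2, X d = D.Yf d) (d : ℕ) (hd : d ≤ 3) :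
    Nat.card (D.Zf X d) = 2 ^ (d + 1) := by
  have r1 : D.r 0 ≠ 1 := fun h => D.one_Δ (h ▸ D.r0_Δ)
  have hzr : D.z ∉ zpowers (D.r 0) := by
    rw [mem_zp (D.r_sq 0)]
    rintro (h | h)
    · exact D.z_ne h
    · exact D.z_Δ (h ▸ D.r0_Δ)
  have h0 : Nat.card (zpowers (D.r 0)) = 2 := card_zp (D.r_sq 0) r1
  have h1 := card_ad (A := zpowers (D.r 0)) cN sN zpr_N (self_mem_gen _ _ : D.z ∈ gen (D.r 0) D.z) hzr
  have h2 := card_ad (A := D.Ns (X 3)) cN sN (Ns3_N hX hY) D.r_mem_N (A.r0_Ns3 hX hY)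
  have h3 := card_ad (A := D.Ns (X 2)) cN sN (Ns2_N hY) D.r_mem_N (A.r0_Ns2 hY)
  rw [h0] at h1
  rw [A.card_Ns3 hX hY] at h2
  rw [A.card_Ns2 hY] at h3
  interval_cases d
  · exact h0
  · exact h1
  · exact h2
  · exact h3

omit A [Finite G] in
theorem Z_N (hX : Flg D.U D.z D.Ms.f 3 X) (hY : ∀ d ≤ 2, X d = D.Yf d) : D.Zf X 3 ≤ gen (D.r 0) D.z :=
  sup_le (Ns2_N hY) zpr_N

omit A [Finite G] in
theorem Z_mono (hX : Flg D.U D.z D.Ms.f 3 X) (d : ℕ) (hd : d < 3) : D.Zf X d ≤ D.Zf X (d + 1) := by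
  interval_cases d
  · exact le_sup_left
  · exact sup_le le_sup_right (zpowers_le.2 (mem_sup_left (z_Ns _)))
  · exact sup_le_sup_right (Ns_anti (X23 hX)) _

theorem Z_iso (hY : ∀ d ≤ 2, X d = D.Yf d) : ∀ x ∈ D.Zf X 3, ∀ y ∈ D.Zf X 3, D.Hs.f x y = 0 := by
  have hF := A.B.full
  have hrN : D.r 0 ∈ gen (D.r 0) D.z := D.r_mem_N
  have hle : D.Zf X 3 ≤ gen (D.r 0) D.z := sup_le (Ns2_N hY) zpr_N
  have key : ∀ x ∈ D.Ns (X 2), ∀ y ∈ D.Ns (X 2), D.Hs.f x y = 0 := by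
    intro x hx y hy
    rw [Ns2_eq hY] at hx hy
    exact F4_ti A.hQ A.F A.B A.hk (D.r_Δ 1) r01 fr01 hx.1 hx.2 hy.1 hy.2
  have k2 : ∀ x ∈ D.Ns (X 2), ∀ y ∈ D.Zf X 3, D.Hs.f x y = 0 := by
    intro x hx y hy
    have hxN := Ns2_N hY hx
    rcases (mem_ad cN sN (Ns2_N hY) hrN).1 hy with h | h
    · exact key x hx y h
    · have h1 := key x hx _ h
      have h2 : D.Hs.f x (y * D.r 0) = D.Hs.f x y + D.Hs.f x (D.r 0) := hF.f_mul_right (hle hy) hrN hxN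
      have h3 : D.Hs.f x (D.r 0) = 0 := hF.f_right_z hxN
      rwa [h2, h3, add_zero] at h1
  intro x hx y hy
  rcases (mem_ad cN sN (Ns2_N hY) hrN).1 hx with h | h
  · exact k2 x h y hy
  · have h1 := k2 _ h y hy
    have h2 : D.Hs.f (x * D.r 0) y = D.Hs.f x y + D.Hs.f (D.r 0) y := hF.f_mul_left (hle hx) hrN (hle hy)
    have h3 : D.Hs.f (D.r 0) y = 0 := hF.f_z
    rwa [h2, h3, add_zero] at h1

omit A in
/-- elements of `M ∩ C(r₀)` normalising `X d` -/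
theorem Ns_Z {K : Subgroup G} {m : G} (hm : m ∈ D.M) (hr : m * D.r 0 = D.r 0 * m)
    (hK : m ∈ normalizer (K : Set G)) : ∀ x ∈ D.Ns K ⊔ zpowers (D.r 0), m * x * m⁻¹ ∈ D.Ns K ⊔ zpowers (D.r 0) :=
  conj_ad (fun a ha => mem_sup_left (Ns_conj hm hK a ha)) (by
    rw [conj_of_comm hr]; exact mem_sup_right (mem_zpowers _))

omit A in
theorem Z1_conj {m : G} (hm : m * D.z = D.z * m) (hr : m * D.r 0 = D.r 0 * m) :
    ∀ x ∈ zpowers (D.r 0) ⊔ zpowers D.z, m * x * m⁻¹ ∈ zpowers (D.r 0) ⊔ zpowers D.z :=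
  conj_ad (fun a ha => by
    refine mem_sup_left ?_
    rw [mem_zp (D.r_sq 0)] at ha ⊢
    rcases ha with rfl | rfl
    · left; group
    · right; exact conj_of_comm hr) (by
    rw [conj_of_comm hm]; exact mem_sup_right (mem_zpowers _))

omit A in
theorem Z0_conj {m : G} (hr : m * D.r 0 = D.r 0 * m) :
    ∀ x ∈ zpowers (D.r 0), m * x * m⁻¹ ∈ zpowers (D.r 0) := by
  intro x hx
  rw [mem_zp (D.r_sq 0)] at hx ⊢
  rcases hx with rfl | rfl
  · left; group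
  · right; exact conj_of_comm hr

theorem S_Xn (hP : PPs D.M 3 X ∅ = (S : Subgroup G)) {s : G} (hs : s ∈ (S : Subgroup G)) (d : ℕ) (hd : d ≤ 3) :
    s ∈ normalizer (X d : Set G) := by
  rw [← hP] at hs
  exact hs.2 d hd (by simp)

theorem S_Z (hP : PPs D.M 3 X ∅ = (S : Subgroup G)) (d : ℕ) (hd : d ≤ 3) :
    ∀ s ∈ (S : Subgroup G), ∀ y ∈ D.Zf X d, s * y * s⁻¹ ∈ D.Zf X d := by
  intro s hs
  have hm := A.S_M hs
  have hr := A.S_r s hs
  have hz := A.S_z s hs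
  interval_cases d
  · exact Z0_conj hr
  · exact Z1_conj hz hr
  · exact Ns_Z hm hr (A.S_Xn hP hs 3 le_rfl)
  · exact Ns_Z hm hr (A.S_Xn hP hs 2 (by omega))

/-- **the flag of `C(r₀)`** -/
theorem hflag (hX : Flg D.U D.z D.Ms.f 3 X) (hY : ∀ d ≤ 2, X d = D.Yf d)
    (hP : PPs D.M 3 X ∅ = (S : Subgroup G)) : Flg (gen (D.r 0) D.z) (D.r 0) D.Hs.f 3 (D.Zf X) ∧
      PPs (centralizer {D.r 0}) 3 (D.Zf X) ∅ = (S : Subgroup G) := by
  have r1 : D.r 0 ≠ 1 := fun h => D.one_Δ (h ▸ D.r0_Δ)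
  have hSr : (S : Subgroup G) ≤ centralizer {D.r 0} := fun s hs => mem_centralizer_singleton_iff.2 (A.S_r s hs)
  obtain ⟨m, X', -, h2, h3, h4⟩ := exists_flg A.Hsd r1 S hSr A.H_ker (k := 3) (Y := D.Zf X)
    (fun x => mem_zp (D.r_sq 0)) (fun d hd => Z_mono hX d hd) (Z_N hX hY) (fun d hd => A.card_Z hX hY d hd)
    (A.Z_iso hY) (fun d hd => A.le_norm (A.S_Z hP d hd))
  have h5 := h2.card_U
  rw [A.card_N] at h5
  have h6 := Nat.pow_right_injective (le_refl 2) h5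
  have h7 : m = 3 := by
    have : 7 = 2 * m + 1 := h6
    omega
  subst h7
  refine ⟨⟨fun x => mem_zp (D.r_sq 0), fun d hd => Z_mono hX d hd, Z_N hX hY, fun d hd => A.card_Z hX hY d hd,
    A.Z_iso hY, h2.card_U⟩, ?_⟩
  rw [← h4]
  exact PPs_congr (fun d hd => (h3 d hd).symm) _

end FF

end TS

end Cfsg.Agent.Omega.HOneTwo.Trans

end

section


/-!
# II.0h1, `q = 2`, F4-type, (21) of #16429: `XX {r₀, r₁, r₂}`

* `TS.Q_le_M`, `TS.Q_act` : `Q_p ≤ M`; `g ∈ Q_p` moves `e ∈ p^⊥` to `e` or `e p`;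
* `TS.XX_PPs` : `XX {r₀, r₁, r₂} ≤ PPs M 3 X {1}`;
* `TS.XX_not_le` : `XX {r₀, r₁, r₂}` is not in `S`;
* `TS.XX_comm` : `XX {r₀, r₁, r₂}` centralises `Ns (X 3)` (even `Ns (X 2)`).
-/

set_option autoImplicit false
set_option linter.unusedSectionVars false

namespace Cfsg.Agent.Omega.HOneTwo.Trans

open Subgroup Cfsg.Agent.Omega.BTwo Cfsg.Agent.Omega.HTwo.Eight Cfsg.Agent.Omega.HTwo.SysSymp
  Cfsg.Agent.Omega.HOneTwo.OpSys Cfsg.Agent.Omega.HOneTwo.OpInst Cfsg.Agent.Omega.HOneTwo.FDigon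

universe u

variable {G : Type u} [Group G]

namespace TS

variable {D : TS G}

theorem self_N {p : G} (hp : p ∈ D.Δ) : p ∈ gen p D.z := by
  obtain ⟨m, hm, rfl⟩ := hp
  have h := gen_conj m D.r_mem_N
  rwa [conj_of_comm (D.M_z m hm)] at h

/-- `Q_p ≤ C(p)` -/
theorem Q_comm_p {p g : G} (hp : p ∈ D.Δ) (hg : g ∈ D.Q p) : g * p = p * g := N_Q_comm hp (self_N hp) hg

/-- `Q_p ≤ M` -/
theorem Q_le_M {p g : G} (hp : p ∈ D.Δ) (hg : g ∈ D.Q p) : g ∈ D.M :=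
  D.mem_M_of hp (Q_comm_p hp hg) (N_Q_comm hp (z_gen p) hg)

theorem mem_Q_of {p e : G} (hp : p ∈ D.Δ) (he : e ∈ D.U) (h0 : D.f p e = 0) : e ∈ D.Q p := by
  rw [D.f_Δ hp] at h0
  exact D.φ_eq_zero_iff.1 h0

/-- `g ∈ Q_p`, `e ∈ p^⊥`: `e^g ∈ {e, e p}` -/
theorem Q_act {p e g : G} (hp : p ∈ D.Δ) (he : e ∈ D.U) (h0 : D.f p e = 0) (hg : g ∈ D.Q p) :
    g * e * g⁻¹ = e ∨ g * e * g⁻¹ = e * p := by
  have hU : e * p = p * e := D.U_comm he (D.Ms.Δ_le hp)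
  rcases D.Q_der' hp hg (mem_Q_of hp he h0) with h | h
  · left; rw [h, mul_inv_cancel_right]
  · right
    rw [h, hU]; group

/-- `K ∋ p`, `K ⊥ p`: `Q_p` normalises `K` -/
theorem Q_norm {p g : G} {K : Subgroup G} (hp : p ∈ D.Δ) (hpK : p ∈ K) (hK : K ≤ D.U) (h0 : ∀ e ∈ K, D.f p e = 0)
    (hg : g ∈ D.Q p) : g ∈ normalizer (K : Set G) := by
  have key : ∀ g ∈ D.Q p, ∀ e ∈ K, g * e * g⁻¹ ∈ K := by
    intro g hg e he
    rcases Q_act hp (hK he) (h0 e he) hg with h | h <;> rw [h]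
    · exact he
    · exact Subgroup.mul_mem _ he hpK
  rw [Subgroup.mem_normalizer_iff]
  intro e
  refine ⟨key g hg e, fun h => ?_⟩
  have h1 := key g⁻¹ ((D.Q p).inv_mem hg) _ h
  have e2 : g⁻¹ * (g * e * g⁻¹) * g⁻¹⁻¹ = e := by group
  rwa [e2] at h1

variable {X : ℕ → Subgroup G}

theorem r_X2 (hY : ∀ d ≤ 2, X d = D.Yf d) (i : Fin 3) : D.r i ∈ X 2 := by
  have h0 := FF.r0_X2 hY
  have h1 := FF.r1_X2 hY
  fin_cases i
  · exact h0
  · exact h1
  · change D.r 2 ∈ X 2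
    rw [r2_eq]; exact Subgroup.mul_mem _ h0 h1

variable [Finite G] {S : Sylow 2 G} (A : FF D S)
include A

/-- **`XX {r₀, r₁, r₂} ≤ PPs M 3 X {1}`** -/
theorem FF.XX_PPs (hX : Flg D.U D.z D.Ms.f 3 X) (hY : ∀ d ≤ 2, X d = D.Yf d) :
    XX {D.r 0, D.r 1, D.r 2} ≤ PPs D.M 3 X {1} := by
  refine XX_le fun a ha g hg => ?_
  have ha' : ∃ i, a = D.r i := by
    rcases ha with rfl | rfl | rfl
    · exact ⟨0, rfl⟩
    · exact ⟨1, rfl⟩
    · exact ⟨2, rfl⟩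
  obtain ⟨i, rfl⟩ := ha'
  have hp := D.r_Δ i
  have hg' : g ∈ D.Q (D.r i) := by rw [A.hQ]; exact hg
  have hM := Q_le_M hp hg'
  refine ⟨hM, fun d hd hd1 => ?_⟩
  have hd1 : d ≠ 1 := hd1
  have h2 := r_X2 hY i
  have h3 : D.r i ∈ X 3 := FF.X23 hX h2
  have hd' : d = 0 ∨ d = 2 ∨ d = 3 := by omega
  rcases hd' with rfl | rfl | rfl
  · rw [Subgroup.mem_normalizer_iff]
    intro x
    rw [hX.zero, hX.zero]
    have hz := conj_of_comm (D.M_z g hM)
    constructor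
    · rintro (rfl | rfl)
      · left; group
      · exact Or.inr hz
    · rintro (h | h)
      · left
        rwa [mul_inv_eq_one, mul_eq_left] at h
      · right
        rw [← hz] at h
        exact mul_left_cancel (mul_right_cancel h)
  · exact Q_norm hp h2 (hX.le_U (by omega)) (fun e he => FF.f_X3 hX hp h3 (FF.X23 hX he)) hg'
  · exact Q_norm hp h3 (hX.le_U (by omega)) (fun e he => FF.f_X3 hX hp h3 he) hg'

/-- **`XX {r₀, r₁, r₂}` is not in `S`** -/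
theorem FF.XX_not_le : ¬ XX {D.r 0, D.r 1, D.r 2} ≤ (S : Subgroup G) := by
  intro hle
  obtain ⟨g, hg, h1⟩ := D.Q_mv (D.r_Δ 1) D.r0_Δ FF.r01.symm f_r
  have hg' : g ∈ O2 (centralizer {D.r 1}) := by
    have h2 := hg
    rw [A.hQ] at h2
    exact h2
  have h2 := hle (le_XX (show D.r 1 ∈ ({D.r 0, D.r 1, D.r 2} : Set G) by simp) hg')
  have h3 := conj_of_comm (A.S_r g h2)
  rw [h3] at h1
  have h4 : D.r 1 = 1 := by
    have h5 := h1.symm
    rwa [mul_eq_left] at h5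
  exact D.one_Δ (h4 ▸ D.r_Δ 1)

/-- **`XX {r₀, r₁, r₂}` centralises `N₀ ∩ N₁ ∩ N₂`** -/
theorem FF.XX_comm' {n : G} (hn : ∀ i, n ∈ gen (D.r i) D.z) {x : G} (hx : x ∈ XX {D.r 0, D.r 1, D.r 2}) :
    x * n = n * x := by
  have h1 : XX {D.r 0, D.r 1, D.r 2} ≤ centralizer {n} := by
    refine XX_le fun a ha g hg => ?_
    rw [mem_centralizer_singleton_iff]
    have key : ∀ i, g ∈ O2 (centralizer {D.r i}) → g * n = n * g := by
      intro i hg
      refine N_Q_comm (D.r_Δ i) (hn i) ?_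
      rw [A.hQ]; exact hg
    rcases ha with rfl | rfl | rfl
    · exact key 0 hg
    · exact key 1 hg
    · exact key 2 hg
  exact mem_centralizer_singleton_iff.1 (h1 hx)

/-- **`XX {r₀, r₁, r₂}` centralises `Ns K`, `K ∋ r₀, r₁, r₂`** -/
theorem FF.XX_comm {K : Subgroup G} (hK : ∀ i, D.r i ∈ K) {n : G} (hn : n ∈ D.Ns K) {x : G}
    (hx : x ∈ XX {D.r 0, D.r 1, D.r 2}) : x * n = n * x :=
  A.XX_comm' (fun i => hn _ (D.r_Δ i) (hK i)) hx

theorem FF.XX_comm_Ns2 (hY : ∀ d ≤ 2, X d = D.Yf d) {n : G} (hn : n ∈ D.Ns (X 2)) {x : G}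
    (hx : x ∈ XX {D.r 0, D.r 1, D.r 2}) : x * n = n * x := A.XX_comm (r_X2 hY) hn hx

theorem FF.XX_comm_Ns3 (hX : Flg D.U D.z D.Ms.f 3 X) (hY : ∀ d ≤ 2, X d = D.Yf d) {n : G} (hn : n ∈ D.Ns (X 3))
    {x : G} (hx : x ∈ XX {D.r 0, D.r 1, D.r 2}) : x * n = n * x :=
  A.XX_comm (fun i => FF.X23 hX (r_X2 hY i)) hn hx

/-- `S` normalises `{r₀, r₁, r₂}` -/
theorem FF.S_R {s : G} (hs : s ∈ (S : Subgroup G)) :
    ∀ a ∈ ({D.r 0, D.r 1, D.r 2} : Set G), s * a * s⁻¹ ∈ ({D.r 0, D.r 1, D.r 2} : Set G) := by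
  have h0 := conj_of_comm (A.S_r s hs)
  have hU : D.r 0 * D.r 1 = D.r 1 * D.r 0 := D.U_comm (D.r_mem 0) (D.r_mem 1)
  have h2 : s * D.r 2 * s⁻¹ = D.r 0 * (s * D.r 1 * s⁻¹) := by
    rw [r2_eq]
    calc s * (D.r 0 * D.r 1) * s⁻¹ = (s * D.r 0 * s⁻¹) * (s * D.r 1 * s⁻¹) := by group
      _ = _ := by rw [h0]
  rintro a (rfl | rfl | rfl)
  · rw [h0]; simp
  · rcases A.S_V s hs with h | h <;> rw [h] <;> simp
  · rcases A.S_V s hs with h | h <;> rw [h2, h]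
    · rw [← r2_eq]; simp
    · rw [r2_eq, ← mul_assoc, D.r_sq, one_mul]; simp

end TS

end Cfsg.Agent.Omega.HOneTwo.Trans

end

section


/-!
# II.0h1, `q = 2`, F4-type: the four parabolics ((21) of #16429)

`P₁ = PPs C(r₀) {1}`, `P₂ = PPs C(r₀) {2} = PPs M {3}`, `P₃ = PPs C(r₀) {3} = PPs M {2}`, `P₄ = PPs M {1}`.

* `FF.eq_two`, `FF.eq_three`;
* `FF.one_eq` : `P₁ = ⟨O₂(C(z^h)) : h ∈ P₁⟩ S`.
-/

set_option autoImplicit false
set_option linter.unusedSectionVars false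

namespace Cfsg.Agent.Omega.HOneTwo.Trans

open Subgroup Cfsg.Agent.Omega.BTwo Cfsg.Agent.Omega.HTwo.Eight Cfsg.Agent.Omega.HTwo.SysSymp
open Cfsg.Agent.Omega.HOneTwo.FDigon (XX le_XX XX_le O2_cent_conj XX_conj mem_sup_of sup_eq_of_relIndex)

universe u

variable {G : Type u} [Group G]

theorem eq_of_relIndex {S P P' : Subgroup G} (hS : S ≤ P) (h : P ≤ P') (h3 : S.relIndex P = 3)
    (h3' : S.relIndex P' = 3) : P = P' := by
  have h4 := Subgroup.relIndex_mul_relIndex S P P' hS h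
  rw [h3, h3'] at h4
  have h5 : P.relIndex P' = 1 := by omega
  exact le_antisymm h (Subgroup.relIndex_eq_one.1 h5)

namespace TS

variable {D : TS G}

namespace FF

variable [Finite G] {S : Sylow 2 G} (A : FF D S) {X : ℕ → Subgroup G}

omit [Finite G] in
theorem r_of_X1 (hY : ∀ d ≤ 2, X d = D.Yf d) {m : G} (hm : m ∈ D.M) (h : m ∈ normalizer (X 1 : Set G)) :
    m * D.r 0 = D.r 0 * m := by
  have e : X 1 = zpowers D.z ⊔ zpowers (D.r 0) := hY 1 (by omega)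
  rw [e, Subgroup.mem_normalizer_iff] at h
  have h1 := (h (D.r 0)).1 (mem_sup_right (mem_zpowers _))
  have h2 := Dl_inv hm D.r0_Δ
  rw [mem_Y1] at h1
  rcases h1 with h1 | h1 | h1 | h1
  · exact absurd (h1 ▸ h2) D.one_Δ
  · exact absurd (h1 ▸ h2) D.z_Δ
  · exact comm_of_conj h1
  · exact absurd (h1 ▸ h2) (D.zz_mem D.r0_Δ)

theorem mem_norm {K : Subgroup G} {m : G} (h : ∀ x ∈ K, m * x * m⁻¹ ∈ K) : m ∈ normalizer (K : Set G) := by
  exact mem_normalizer_of_conj h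

theorem le_two (hY : ∀ d ≤ 2, X d = D.Yf d) :
    PPs D.M 3 X {3} ≤ PPs (centralizer {D.r 0}) 3 (D.Zf X) {2} := by
  rintro m ⟨hm, h⟩
  have hr := r_of_X1 hY hm (h 1 (by omega) (by simp))
  refine ⟨mem_centralizer_singleton_iff.2 hr, fun d hd hd2 => ?_⟩
  apply mem_norm
  interval_cases d
  · exact Z0_conj hr
  · exact Z1_conj (D.M_z m hm) hr
  · exact absurd rfl hd2
  · exact Ns_Z hm hr (h 2 (by omega) (by simp))

theorem le_three (hY : ∀ d ≤ 2, X d = D.Yf d) :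
    PPs D.M 3 X {2} ≤ PPs (centralizer {D.r 0}) 3 (D.Zf X) {3} := by
  rintro m ⟨hm, h⟩
  have hr := r_of_X1 hY hm (h 1 (by omega) (by simp))
  refine ⟨mem_centralizer_singleton_iff.2 hr, fun d hd hd3 => ?_⟩
  apply mem_norm
  interval_cases d
  · exact Z0_conj hr
  · exact Z1_conj (D.M_z m hm) hr
  · exact Ns_Z hm hr (h 3 (by omega) (by simp))
  · exact absurd rfl hd3

section

variable (hX : Flg D.U D.z D.Ms.f 3 X) (hY : ∀ d ≤ 2, X d = D.Yf d) (hP : PPs D.M 3 X ∅ = (S : Subgroup G))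

include A hX hP

theorem idxM {j : ℕ} (h1 : 1 ≤ j) (h3 : j ≤ 3) : (S : Subgroup G).relIndex (PPs D.M 3 X {j}) = 3 := by
  rw [← hP]; exact hX.relIndex A.Msd D.z_ne h1 h3

theorem S_PM (j : ℕ) : (S : Subgroup G) ≤ PPs D.M 3 X {j} := by
  rw [← hP]; exact PPs_mono (Set.empty_subset _)

include hY

theorem r_ne : D.r 0 ≠ 1 := fun h => D.one_Δ (h ▸ D.r0_Δ)

theorem idxH {j : ℕ} (h1 : 1 ≤ j) (h3 : j ≤ 3) :
    (S : Subgroup G).relIndex (PPs (centralizer {D.r 0}) 3 (D.Zf X) {j}) = 3 := by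
  obtain ⟨h4, h5⟩ := A.hflag hX hY hP
  rw [← h5]
  exact h4.relIndex A.Hsd (A.r_ne hX hY hP) h1 h3

theorem S_PH (j : ℕ) : (S : Subgroup G) ≤ PPs (centralizer {D.r 0}) 3 (D.Zf X) {j} := by
  obtain ⟨h4, h5⟩ := A.hflag hX hY hP
  rw [← h5]; exact PPs_mono (Set.empty_subset _)

/-- `P₂` -/
theorem eq_two : PPs D.M 3 X {3} = PPs (centralizer {D.r 0}) 3 (D.Zf X) {2} :=
  eq_of_relIndex (A.S_PM hX hP 3) (le_two hY) (A.idxM hX hP (by omega) le_rfl)
    (A.idxH hX hY hP (by omega) (by omega))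

/-- `P₃` -/
theorem eq_three : PPs D.M 3 X {2} = PPs (centralizer {D.r 0}) 3 (D.Zf X) {3} :=
  eq_of_relIndex (A.S_PM hX hP 2) (le_three hY) (A.idxM hX hP (by omega) (by omega))
    (A.idxH hX hY hP (by omega) le_rfl)

/-! ### `P₁` -/

/-- `P₁ ∩ C(z) ≤ S` -/
theorem one_inf {x : G} (hx : x ∈ PPs (centralizer {D.r 0}) 3 (D.Zf X) {1}) (hz : x * D.z = D.z * x) :
    x ∈ (S : Subgroup G) := by
  obtain ⟨h4, h5⟩ := A.hflag hX hY hP
  rw [← h5]
  refine ⟨hx.1, fun d hd _ => ?_⟩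
  by_cases h1 : d = 1
  · subst h1
    exact mem_norm (Z1_conj hz (mem_centralizer_singleton_iff.1 hx.1))
  · exact hx.2 d hd h1

/-- the orbit of `z` -/
theorem orb_Ns {h : G} (hh : h ∈ PPs (centralizer {D.r 0}) 3 (D.Zf X) {1}) : h * D.z * h⁻¹ ∈ D.Ns (X 3) := by
  have hr := mem_centralizer_singleton_iff.1 hh.1
  have h2 := hh.2 2 (by omega) (by simp)
  rw [Subgroup.mem_normalizer_iff] at h2
  have h3 : h * D.z * h⁻¹ ∈ D.Ns (X 3) ⊔ zpowers (D.r 0) := (h2 D.z).1 (mem_sup_left (z_Ns _))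
  have h4 : h * D.z * h⁻¹ ∈ D.Hs.Δ := ⟨h, hr, rfl⟩
  rcases (mem_ad cN sN (Ns3_N hX hY) D.r_mem_N).1 h3 with h5 | h5
  · exact h5
  · exfalso
    refine A.B.full.inj _ h4 ?_
    have h6 : h * D.z * h⁻¹ * D.r 0 ∈ gen (D.r 0) D.z ⊓ gen (D.r 1) D.z := by
      rw [← Ns2_eq hY]; exact Ns_anti (X23 hX) h5
    refine F4_ZZ A.hQ A.F A.B A.hk (D.r_Δ 1) r01 fr01 h6.1 h6.2 fun h7 => ?_
    have h8 : h * D.z * h⁻¹ = D.r 0 := by
      rw [mul_eq_one_iff_eq_inv] at h7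
      rw [h7]
      exact inv_eq_of_mul_eq_one_left (D.r_sq 0)
    exact D.Hs.z_notin (h8 ▸ h4 : D.r 0 ∈ D.Hs.Δ) rfl

theorem XX_le_one : XX {y | ∃ h ∈ PPs (centralizer {D.r 0}) 3 (D.Zf X) {1}, y = h * D.z * h⁻¹} ≤
    PPs (centralizer {D.r 0}) 3 (D.Zf X) {1} := by
  refine XX_le ?_
  rintro _ ⟨h, hh, rfl⟩ x hx
  have h1 := O2_cent_conj (g := h⁻¹) hx
  have e : h⁻¹ * (h * D.z * h⁻¹) * h⁻¹⁻¹ = D.z := by group
  rw [e, A.O_z] at h1
  have h2 := A.S_PH hX hY hP 1 (A.O_S h1)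
  have h3 := Subgroup.mul_mem _ (Subgroup.mul_mem _ hh h2) (Subgroup.inv_mem _ hh)
  have e2 : h * (h⁻¹ * x * h⁻¹⁻¹) * h⁻¹ = x := by group
  rwa [e2] at h3

theorem XX_not_one : ¬ XX {y | ∃ h ∈ PPs (centralizer {D.r 0}) 3 (D.Zf X) {1}, y = h * D.z * h⁻¹} ≤
    (S : Subgroup G) := by
  intro hcon
  have hex : ∃ h ∈ PPs (centralizer {D.r 0}) 3 (D.Zf X) {1}, h ∉ (S : Subgroup G) := by
    by_contra hall
    push Not at hall
    have h1 := A.idxH hX hY hP (j := 1) le_rfl (by omega)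
    rw [Subgroup.relIndex_eq_one.2 hall] at h1
    omega
  obtain ⟨h, hh, hhS⟩ := hex
  have hinv := Subgroup.inv_mem _ hh
  have hw : h⁻¹ * D.z * h⁻¹⁻¹ ∈ D.Ns (X 3) := A.orb_Ns hX hY hP hinv
  have hw2 : h⁻¹ * D.z * h⁻¹⁻¹ ∈ gen (D.r 0) D.z ⊓ gen (D.r 1) D.z := by
    rw [← Ns2_eq hY]; exact Ns_anti (X23 hX) hw
  have hwO := inf_O A.hQ A.F A.B A.hk D.r0_Δ (D.r_Δ 1) r01 hw2.1 hw2.2
  have hwc : ∀ o ∈ O2 D.M, h⁻¹ * D.z * h⁻¹⁻¹ * o = o * (h⁻¹ * D.z * h⁻¹⁻¹) := by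
    intro o ho
    rw [← A.O_z] at ho
    have h1 := O2_cent_conj (g := h) ho
    have hB : h * D.z * h⁻¹ ∈ {y | ∃ h ∈ PPs (centralizer {D.r 0}) 3 (D.Zf X) {1},
        y = h * D.z * h⁻¹} := ⟨h, hh, rfl⟩
    have h2 := hcon (le_XX hB h1)
    have h3 := A.S_z _ h2
    calc h⁻¹ * D.z * h⁻¹⁻¹ * o = h⁻¹ * (D.z * (h * o * h⁻¹)) * h := by group
      _ = h⁻¹ * (h * o * h⁻¹ * D.z) * h := by rw [h3]
      _ = _ := by group
  have hwU := A.Z_O hwO hwc
  rcases inf_U A.hQ A.F A.B A.hk D.r0_Δ (D.r_Δ 1) r01 hw2.1 hw2.2 hwU with h1 | h1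
  · have h2 : D.z = h * (h⁻¹ * D.z * h⁻¹⁻¹) * h⁻¹ := by group
    rw [h1] at h2
    exact D.z_ne (h2.trans (by group))
  · have h2 := comm_of_conj h1
    have h3 := inv_comm h2
    rw [inv_inv] at h3
    exact hhS (A.one_inf hX hY hP hh h3)

/-- `P₁ = X* S` -/
theorem one_eq : PPs (centralizer {D.r 0}) 3 (D.Zf X) {1} =
    XX {y | ∃ h ∈ PPs (centralizer {D.r 0}) 3 (D.Zf X) {1}, y = h * D.z * h⁻¹} ⊔ (S : Subgroup G) :=
  sup_eq_of_relIndex (A.idxH hX hY hP le_rfl (by omega)) (A.S_PH hX hY hP 1) (A.XX_le_one hX hY hP)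
    (A.XX_not_one hX hY hP)

end

end FF

end TS

end Cfsg.Agent.Omega.HOneTwo.Trans

end

section


/-!
# II.0h1, `q = 2`: a 2-subgroup of the commutator group of order `|O| 2 ^ (m²)` ((7) of #15507, (21) of #16429)

* `SData.mono`, `Side.sdata_sub` : `SData` for a subgroup which contains the transvections;
* `exists_T` : `T ≤ PPs C m X ∅`, `T ≤ C₀`, `|O| 2 ^ (m²) ≤ |T|`;
* `FF.exists_T` : `T ≤ S`, `2 ^ 24 ≤ |T|`, `T ≤ ⟨(z ^ H₁) ^ M⟩`; `FF.S_le` : `S ≤ ⟨(z ^ H₁) ^ M⟩` if `|S| ≤ 2 ^ 24`.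
-/

set_option autoImplicit false
set_option linter.unusedSectionVars false
set_option maxHeartbeats 400000

namespace Cfsg.Agent.Omega.HOneTwo.Trans

open Subgroup Cfsg.Agent.Omega.BTwo Cfsg.Agent.Omega.HTwo.Eight Cfsg.Agent.Omega.HTwo.SysSymp

universe u

variable {G : Type u} [Group G]

/-- `SData` for a subgroup which contains the transvections -/
theorem sdata_mono {C C₀ U : Subgroup G} {z : G} {f : G → G → ZMod 2} (D : SData C U z f) (h0 : C₀ ≤ C)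
    (htv : ∀ p ∈ U, ∃ c ∈ C₀, ∀ u ∈ U, (f u p = 0 → c * u * c⁻¹ = u ∨ c * u * c⁻¹ = u * z) ∧
      (f u p = 1 → c * u * c⁻¹ = u * p ∨ c * u * c⁻¹ = u * p * z)) : SData C₀ U z f where
  zz := D.zz
  C_z := fun c hc => D.C_z c (h0 hc)
  z_U := D.z_U
  U_comm := D.U_comm
  U_sq := D.U_sq
  U_C := fun c hc => D.U_C c (h0 hc)
  f_add := D.f_add
  f_symm := D.f_symm
  f_self := D.f_self
  f_C := fun c hc => D.f_C c (h0 hc)
  f_rad := D.f_rad
  f_z := D.f_z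
  tv := htv

/-- **a subgroup of the flag stabiliser in a subgroup which contains the transvections** -/
theorem exists_T [Finite G] {C C₀ U : Subgroup G} {z : G} {f : G → G → ZMod 2} (D : SData C U z f)
    (h0 : C₀ ≤ C) (htv : ∀ p ∈ U, ∃ c ∈ C₀, ∀ u ∈ U, (f u p = 0 → c * u * c⁻¹ = u ∨ c * u * c⁻¹ = u * z) ∧
      (f u p = 1 → c * u * c⁻¹ = u * p ∨ c * u * c⁻¹ = u * p * z)) (hz1 : z ≠ 1) {m : ℕ} {X : ℕ → Subgroup G}
    (F : Flg U z f m X) {O : Subgroup G} (hO : O ≤ C₀)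
    (hOU : ∀ x ∈ O, ∀ u ∈ U, x * u * x⁻¹ = u ∨ x * u * x⁻¹ = u * z) :
    ∃ T : Subgroup G, T ≤ PPs C m X ∅ ∧ T ≤ C₀ ∧ Nat.card O * 2 ^ (m ^ 2) ≤ Nat.card T :=
  ⟨PPs C₀ m X ∅, fun _ hx => ⟨h0 hx.1, hx.2⟩, PPs_le, F.card_le (sdata_mono D h0 htv) hz1 hO hOU⟩

/-- the transvections of a full side -/
theorem Side.tv_sub {D : Side G} (h : D.IsFull) {A₀ : Subgroup G} (hN : ∀ p ∈ D.Δ, D.N p ≤ A₀) :
    ∀ p ∈ D.U, ∃ c ∈ A₀, ∀ u ∈ D.U, (D.f u p = 0 → c * u * c⁻¹ = u ∨ c * u * c⁻¹ = u * D.z) ∧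
      (D.f u p = 1 → c * u * c⁻¹ = u * p ∨ c * u * c⁻¹ = u * p * D.z) := by
  have key : ∀ q ∈ D.Δ, ∀ u ∈ D.U, (D.f u q = 0 → D.t q * u * (D.t q)⁻¹ = u) ∧
      (D.f u q = 1 → D.t q * u * (D.t q)⁻¹ = u * (q * D.z)) := by
    intro q hq u hu
    have h1 := D.t_act hq hu
    have h2 : D.f u q = D.φ q u := by rw [h.f_symm hu (D.Δ_le hq), Side.f_Δ hq]
    rw [h2]
    exact ⟨fun h3 => by rw [h1, h3, pw_zero, mul_one], fun h3 => by rw [h1, h3, pw_one]⟩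
  intro p hp
  rcases h.cases hp with h1 | ⟨q, hq, h1⟩
  · refine ⟨1, A₀.one_mem, fun u hu => ⟨fun _ => Or.inl (by group), fun h2 => ?_⟩⟩
    exfalso
    rcases h1 with rfl | rfl
    · rw [h.f_right_one hu] at h2; exact zero_ne_one h2
    · rw [h.f_right_z hu] at h2; exact zero_ne_one h2
  · refine ⟨D.t q, hN q hq (D.t_mem hq), fun u hu => ?_⟩
    rcases h1 with rfl | rfl
    · refine ⟨fun h2 => Or.inl ((key _ hq u hu).1 h2), fun h2 => Or.inr ?_⟩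
      rw [(key _ hq u hu).2 h2, mul_assoc]
    · have e : D.f u (q * D.z) = D.f u q := by
        rw [h.f_mul_right (D.Δ_le hq) D.z_mem hu, h.f_right_z hu, add_zero]
      rw [e]
      refine ⟨fun h2 => Or.inl ((key _ hq u hu).1 h2), fun h2 => Or.inl ?_⟩
      rw [(key _ hq u hu).2 h2]

namespace TS

variable {D : TS G}

/-- `⟨(z ^ H₁) ^ M⟩` -/
def MN (D : TS G) : Subgroup G := closure {x | ∃ m ∈ D.M, ∃ y ∈ gen (D.r 0) D.z, x = m * y * m⁻¹}

theorem gen_le_MN : ∀ p ∈ D.Δ, gen p D.z ≤ D.MN := by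
  rintro p ⟨m, hm, rfl⟩ n hn
  have h1 := gen_conj m⁻¹ hn
  have e : m⁻¹ * (m * D.r 0 * m⁻¹) * m⁻¹⁻¹ = D.r 0 := by group
  rw [e, D.m_z' hm, inv_inv] at h1
  exact subset_closure ⟨m, hm, _, h1, by group⟩

theorem MN_le : D.MN ≤ D.M := by
  unfold MN
  rw [closure_le]
  rintro _ ⟨m, hm, y, hy, rfl⟩
  exact Subgroup.mul_mem _ (Subgroup.mul_mem _ hm (D.N_M hy)) (Subgroup.inv_mem _ hm)

theorem Gam_MN : D.Gam ≤ D.MN := by
  unfold Gam
  rw [closure_le]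
  rintro x ⟨p, hp, hx⟩
  exact gen_le_MN p hp (D.mem_NO.1 hx).1

namespace FF

variable [Finite G] {S : Sylow 2 G} (A : FF D S)
include A

/-- **a 2-subgroup of `⟨(z ^ H₁) ^ M⟩` of order at least `2 ^ 24`** -/
theorem exists_T {X : ℕ → Subgroup G} (F : Flg D.U D.z D.Ms.f 3 X) (hX : PPs D.M 3 X ∅ = (S : Subgroup G)) :
    ∃ T : Subgroup G, T ≤ (S : Subgroup G) ∧ 2 ^ 24 ≤ Nat.card T ∧
      T ≤ closure {x | ∃ m ∈ D.M, ∃ y ∈ gen (D.r 0) D.z, x = m * y * m⁻¹} := by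
  obtain ⟨T, h1, h2, h3⟩ := Trans.exists_T A.Msd (C₀ := D.MN) MN_le
    (Side.tv_sub D.Ms_orth.toIsFull gen_le_MN) D.z_ne F (O := O2 D.M) (by rw [A.O_eq]; exact Gam_MN) (by
      intro x hx u hu
      left
      rw [A.F.O_U x hx u hu]
      group)
  refine ⟨T, h1.trans hX.le, ?_, h2⟩
  rw [A.card_O] at h3
  exact le_trans (by norm_num) h3

/-- `S ≤ ⟨(z ^ H₁) ^ M⟩` -/
theorem S_le {X : ℕ → Subgroup G} (F : Flg D.U D.z D.Ms.f 3 X) (hX : PPs D.M 3 X ∅ = (S : Subgroup G))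
    (hS : Nat.card (S : Subgroup G) ≤ 2 ^ 24) :
    (S : Subgroup G) ≤ closure {x | ∃ m ∈ D.M, ∃ y ∈ gen (D.r 0) D.z, x = m * y * m⁻¹} := by
  obtain ⟨T, h1, h2, h3⟩ := A.exists_T F hX
  rwa [Subgroup.eq_of_le_of_card_ge h1 (hS.trans h2)] at h3

end FF

end TS

end Cfsg.Agent.Omega.HOneTwo.Trans

end

section


/-!
# II.0h1, `q = 2`, F4-type: the system of (21) of #16429

* `FF.P4` : the four parabolics `P₁, P₂, P₃ ≤ C(r₀)`, `P₂, P₃, P₄ ≤ M`;
* `FF.gpp` : the residues of rank two, type `F₄`;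
* `FF.gen_H`, `FF.gen_M` : `C(r₀)` and `M` lie in `⟨P₁, P₂, P₃, P₄⟩`.
-/

set_option autoImplicit false
set_option linter.unusedSectionVars false

namespace Cfsg.Agent.Omega.HOneTwo.Trans

open Subgroup Cfsg.Agent.Omega.BTwo Cfsg.Agent.Omega.HTwo.Eight Cfsg.Agent.Omega.HTwo.SysSymp
open Cfsg.Agent.ParSys Cfsg.Agent.ParSys.RankTwo Cfsg.Agent.ParSys.FreeCount
open Cfsg.Agent.Omega.HOneTwo.FDigon (XX le_XX XX_le O2_cent_conj XX_conj mem_sup_of sup_eq_of_relIndex)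

universe u v

variable {G : Type u} [Group G]

/-- a digon in both directions -/
theorem gpp_both {I : Type v} {P : I → Subgroup G} {i j : I} {S X Y : Subgroup G} (hB : ∀ k, S ≤ P k)
    (hi : P i = Y ⊔ S) (hj : P j = X ⊔ S) (hSX : ∀ s ∈ S, ∀ x ∈ X, s * x * s⁻¹ ∈ X)
    (hSY : ∀ s ∈ S, ∀ y ∈ Y, s * y * s⁻¹ ∈ Y) (hXY : ∀ x ∈ X, ∀ y ∈ Y, x * y * x⁻¹ ∈ Y)
    (hinf : ∀ x, x ∈ P i → x ∈ P j → x ∈ S) : GPp S P i j 2 ∧ GPp S P j i 2 := by
  have comm : ∀ p ∈ P i, ∀ q ∈ P j, ∃ q' ∈ P j, ∃ p' ∈ P i, p * q = q' * p' := by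
    intro p hp q hq
    rw [hi] at hp
    rw [hj] at hq
    obtain ⟨y, hy, s, hs, rfl⟩ := mem_sup_of hSY hp
    obtain ⟨x, hx, t, ht, rfl⟩ := mem_sup_of hSX hq
    have hx' := hSX s hs x hx
    have hy' := hXY _ (inv_mem hx') y hy
    refine ⟨s * x * s⁻¹, ?_, (s * x * s⁻¹)⁻¹ * y * (s * x * s⁻¹)⁻¹⁻¹ * (s * t), ?_, by group⟩
    · rw [hj]; exact (le_sup_left : X ≤ X ⊔ S) hx'
    · rw [hi]
      exact mul_mem ((le_sup_left : Y ≤ Y ⊔ S) hy') ((le_sup_right : S ≤ Y ⊔ S) (mul_mem hs ht))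
  refine ⟨gpp_two hB hinf comm, gpp_two hB (fun x hx hy => hinf x hy hx) fun p hp q hq => ?_⟩
  obtain ⟨q', hq', p', hp', h⟩ := comm q⁻¹ (inv_mem hq) p⁻¹ (inv_mem hp)
  refine ⟨p'⁻¹, inv_mem hp', q'⁻¹, inv_mem hq', ?_⟩
  rw [← mul_inv_rev, ← h]
  group

namespace TS

/-- the four parabolics -/
def P4 (D : TS G) (X : ℕ → Subgroup G) : Fin 4 → Subgroup G :=
  ![PPs (centralizer {D.r 0}) 3 (D.Zf X) {1}, PPs (centralizer {D.r 0}) 3 (D.Zf X) {2},
    PPs (centralizer {D.r 0}) 3 (D.Zf X) {3}, PPs D.M 3 X {1}]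

variable {D : TS G}

namespace FF

variable [Finite G] {S : Sylow 2 G} (A : FF D S) {X : ℕ → Subgroup G}
  (hX : Flg D.U D.z D.Ms.f 3 X) (hY : ∀ d ≤ 2, X d = D.Yf d) (hP : PPs D.M 3 X ∅ = (S : Subgroup G))

include A hX hY hP

theorem S_P4 : ∀ i, (S : Subgroup G) ≤ D.P4 X i := by
  intro i
  fin_cases i
  · exact A.S_PH hX hY hP 1
  · exact A.S_PH hX hY hP 2
  · exact A.S_PH hX hY hP 3
  · exact A.S_PM hX hP 1

theorem idx_P4 : ∀ i, (S : Subgroup G).relIndex (D.P4 X i) = 3 := by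
  intro i
  fin_cases i
  · exact A.idxH hX hY hP le_rfl (by omega)
  · exact A.idxH hX hY hP (by omega) (by omega)
  · exact A.idxH hX hY hP (by omega) le_rfl
  · exact A.idxM hX hP le_rfl (by omega)

omit A hX hY hP in
theorem P4_le (i : Fin 4) (hi : i ≠ 3) : D.P4 X i ≤ centralizer {D.r 0} := by
  fin_cases i
  · exact PPs_le
  · exact PPs_le
  · exact PPs_le
  · exact absurd rfl hi

/-- `C(r₀)` is generated by `P₁, P₂, P₃` -/
theorem gen_H : centralizer {D.r 0} ≤ ⨆ i, D.P4 X i := by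
  obtain ⟨h4, h5⟩ := A.hflag hX hY hP
  refine h4.gen A.Hsd (A.r_ne hX hY hP) (by omega) fun j h1 h2 => ?_
  interval_cases j
  · exact le_iSup (D.P4 X) 0
  · exact le_iSup (D.P4 X) 1
  · exact le_iSup (D.P4 X) 2

/-- `M` is generated by `P₂, P₃, P₄` -/
theorem gen_M : D.M ≤ ⨆ i, D.P4 X i := by
  refine hX.gen A.Msd D.z_ne (by omega) fun j h1 h2 => ?_
  interval_cases j
  · exact le_iSup (D.P4 X) 3
  · rw [A.eq_three hX hY hP]; exact le_iSup (D.P4 X) 2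
  · rw [A.eq_two hX hY hP]; exact le_iSup (D.P4 X) 1

/-- `2 ^ 24 ≤ |S|` -/
theorem card_S : 2 ^ 24 ≤ Nat.card (S : Subgroup G) := by
  have h1 := hX.card_le A.Msd D.z_ne (Q := O2 D.M) (O2_le _) (fun x hx u hu => by
    left
    rw [A.F.O_U x hx u hu]
    group)
  rw [A.card_O, hP] at h1
  exact le_trans (by norm_num) h1

/-- the digon `(1, 4)` -/
theorem digon (h1 : XX {D.r 0, D.r 1, D.r 2} ≤ PPs D.M 3 X {1}) (h2 : ¬ XX {D.r 0, D.r 1, D.r 2} ≤ (S : Subgroup G))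
    (h3 : ∀ x ∈ XX {D.r 0, D.r 1, D.r 2}, ∀ n, n ∈ gen (D.r 0) D.z → n ∈ gen (D.r 1) D.z → n ∈ gen (D.r 2) D.z →
      x * n = n * x) : GPp (S : Subgroup G) (D.P4 X) 0 3 2 ∧ GPp (S : Subgroup G) (D.P4 X) 3 0 2 := by
  have hAS : ∀ s ∈ (S : Subgroup G), ∀ a ∈ ({D.r 0, D.r 1, D.r 2} : Set G), s * a * s⁻¹ ∈ ({D.r 0, D.r 1, D.r 2} : Set G) := by
    intro s hs a ha
    have h0 := A.S_r s hs
    have e0 : s * D.r 0 * s⁻¹ = D.r 0 := by rw [h0]; group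
    have hr2 : D.r 2 = D.r 0 * D.r 1 := r2_eq
    have hr1 : D.r 1 = D.r 0 * D.r 2 := by rw [hr2, ← mul_assoc, D.r_sq 0, one_mul]
    have e2 : s * D.r 2 * s⁻¹ = D.r 0 * (s * D.r 1 * s⁻¹) := by
      rw [hr2]
      calc s * (D.r 0 * D.r 1) * s⁻¹ = (s * D.r 0 * s⁻¹) * (s * D.r 1 * s⁻¹) := by group
        _ = _ := by rw [e0]
    rcases ha with rfl | rfl | rfl
    · rw [e0]; exact Or.inl rfl
    · rcases A.S_V s hs with h | h
      · rw [h]; exact Or.inr (Or.inl rfl)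
      · rw [h]; exact Or.inr (Or.inr rfl)
    · rcases A.S_V s hs with h | h
      · rw [e2, h, ← hr2]; exact Or.inr (Or.inr rfl)
      · rw [e2, h, ← hr1]; exact Or.inr (Or.inl rfl)
  refine gpp_both (A.S_P4 hX hY hP) (A.one_eq hX hY hP)
    (sup_eq_of_relIndex (A.idxM hX hP le_rfl (by omega)) (A.S_PM hX hP 1) h1 h2)
    (fun s hs x hx => XX_conj (hAS s hs) hx) (fun s hs y hy => XX_conj ?_ hy) ?_ ?_
  · rintro _ ⟨h, hh, rfl⟩
    exact ⟨s * h, Subgroup.mul_mem _ (A.S_PH hX hY hP 1 hs) hh, by group⟩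
  · intro x hx y hy
    refine XX_conj ?_ hy
    rintro _ ⟨h, hh, rfl⟩
    have h4 := Ns_anti (X23 hX) (A.orb_Ns hX hY hP hh)
    have r2X : D.r 2 ∈ X 2 := by rw [r2_eq]; exact Subgroup.mul_mem _ (r0_X2 hY) (r1_X2 hY)
    have h5 := h3 x hx _ (h4 _ D.r0_Δ (r0_X2 hY)) (h4 _ (D.r_Δ 1) (r1_X2 hY)) (h4 _ (D.r_Δ 2) r2X)
    refine ⟨h, hh, ?_⟩
    rw [h5]
    group
  · intro x hx hx'
    exact A.one_inf hX hY hP hx (D.M_z x hx'.1)

theorem gpp (h03 : GPp (S : Subgroup G) (D.P4 X) 0 3 2 ∧ GPp (S : Subgroup G) (D.P4 X) 3 0 2) :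
    ∀ i j : Fin 4, i ≠ j → GPp (S : Subgroup G) (D.P4 X) i j (CoxeterMatrix.F₄ i j) := by
  obtain ⟨h4, h5⟩ := A.hflag hX hY hP
  have hr := A.r_ne hX hY hP
  have hBH : ∀ k, PPs (centralizer {D.r 0}) 3 (D.Zf X) ∅ ≤ D.P4 X k := by rw [h5]; exact A.S_P4 hX hY hP
  have hBM : ∀ k, PPs D.M 3 X ∅ ≤ D.P4 X k := by rw [hP]; exact A.S_P4 hX hY hP
  have e1 : D.P4 X 1 = PPs D.M 3 X {3} := (A.eq_two hX hY hP).symm
  have e2 : D.P4 X 2 = PPs D.M 3 X {2} := (A.eq_three hX hY hP).symm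
  have h01 := h4.gpp_three A.Hsd hr hBH (a := 0) (b := 1) (i := 1) (j := 2) rfl rfl le_rfl rfl (by omega)
  have h12 := h4.gpp_four A.Hsd hr hBH (a := 1) (b := 2) (i := 2) (j := 3) rfl rfl (by omega) rfl rfl
  have h02 := h4.gpp_two A.Hsd hr hBH (a := 0) (b := 2) (i := 1) (j := 3) rfl rfl (by omega) le_rfl
  have h32 := hX.gpp_three A.Msd D.z_ne hBM (a := 3) (b := 2) (i := 1) (j := 2) rfl e2 le_rfl rfl (by omega)
  have h31 := hX.gpp_two A.Msd D.z_ne hBM (a := 3) (b := 1) (i := 1) (j := 3) rfl e1 (by omega) le_rfl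
  rw [h5] at h01 h12 h02
  rw [hP] at h32 h31
  intro i j hij
  fin_cases i <;> fin_cases j
  · exact absurd rfl hij
  · exact h01.1
  · exact h02.1
  · exact h03.1
  · exact h01.2
  · exact absurd rfl hij
  · exact h12.1
  · exact h31.2
  · exact h02.2
  · exact h12.2
  · exact absurd rfl hij
  · exact h32.2
  · exact h03.2
  · exact h31.1
  · exact h32.1
  · exact absurd rfl hij

end FF

end TS

/-- the order of the Borel subgroup of `F₄(2)` -/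
theorem hasQ_four : HasQ CoxeterMatrix.F₄ (fun _ => 2) (2 ^ 24) := by
  have h := hasQ_F4 (M := CoxeterMatrix.F₄) (q := fun _ => 2) (Equiv.refl (Fin 4)) rfl (x := 2) (y := 2) (by
    intro i; simp)
  norm_num at h ⊢
  exact h

theorem conn_four : ∀ J : Set (Fin 4), J.Nonempty → Jᶜ.Nonempty → ∃ i ∈ J, ∃ j ∈ Jᶜ, CoxeterMatrix.F₄ i j ≠ 2 :=
  conn_F4 (Equiv.refl (Fin 4)) rfl

end Cfsg.Agent.Omega.HOneTwo.Trans

end

section


/-!
# II.0h1, `q = 2`, F4-type: the system of (21) of #16429, closed form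

`FF.exists_sys` : the four parabolics over `S`, of type `F₄`, three chambers in each panel.
-/

set_option autoImplicit false
set_option linter.unusedSectionVars false

namespace Cfsg.Agent.Omega.HOneTwo.Trans

open Subgroup Cfsg.Agent.Omega.BTwo Cfsg.Agent.Omega.HTwo.Eight Cfsg.Agent.Omega.HTwo.SysSymp
open Cfsg.Agent.ParSys Cfsg.Agent.ParSys.RankTwo Cfsg.Agent.ParSys.FreeCount

universe u v

variable {G : Type u} [Group G]

/-- **the system of type `F₄`** -/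
theorem TS.FF.exists_sys {D : TS G} [Finite G] {S : Sylow 2 G} (A : TS.FF D S) :
    ∃ PP : Fin 4 → Subgroup G, (∀ i, (S : Subgroup G) ≤ PP i) ∧ (∀ i, (S : Subgroup G).relIndex (PP i) = 3) ∧
      (∀ i j : Fin 4, i ≠ j → GPp (S : Subgroup G) PP i j (CoxeterMatrix.F₄ i j)) ∧
      (∀ i, i ≠ 3 → PP i ≤ centralizer {D.r 0}) ∧ centralizer {D.r 0} ≤ (⨆ i, PP i) ∧ D.M ≤ (⨆ i, PP i) ∧
      2 ^ 24 ≤ Nat.card (S : Subgroup G) ∧
      ∃ T : Subgroup G, T ≤ (S : Subgroup G) ∧ 2 ^ 24 ≤ Nat.card T ∧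
        T ≤ closure {x | ∃ m ∈ D.M, ∃ y ∈ gen (D.r 0) D.z, x = m * y * m⁻¹} := by
  obtain ⟨X, hX, hY, hP⟩ := A.exists_flag
  exact ⟨D.P4 X, A.S_P4 hX hY hP, A.idx_P4 hX hY hP,
    A.gpp hX hY hP (A.digon hX hY hP (A.XX_PPs hX hY) A.XX_not_le fun x hx n h0 h1 h2 =>
      A.XX_comm' (fun i => by
        fin_cases i
        · exact h0
        · exact h1
        · exact h2) hx),
    TS.FF.P4_le, A.gen_H hX hY hP, A.gen_M hX hY hP, A.card_S hX hY hP, A.exists_T hX hP⟩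

end Cfsg.Agent.Omega.HOneTwo.Trans

end

end

-- merged: Cfsg.Agent.Mrg.Omega.HOneTwo.MoreOf
section

/-!
# II.0h1, `q = 2`, F4-type: the end of (21) of #16429 over `Pos`

`ends_of_ff` : `FF (ts p h) S` gives `Ends S V (R o)` (the system of type `F₄` and THEOREM FREE).
-/

set_option autoImplicit false

namespace Cfsg.Agent.Omega.HOneTwo.Trans

open Subgroup Cfsg Cfsg.Agent.ParSys Cfsg.Agent.ParSys.RankTwo Cfsg.Agent.ParSys.FreeCount
open Cfsg.Agent.Omega.BTwo Cfsg.Agent.Omega.HOneTwo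
open Cfsg.Agent.Omega.HTwo.Entry (Pos)
open Cfsg.Agent.Omega.HOne.Cut (TSz Ends)
open Cfsg.Agent.Omega.HTwo.TSPos (ts ts_r ts_M ts_z)

universe u v

variable {G : Type u} [Group G] [Finite G] {S : Sylow 2 G} {P V : Subgroup G} {ι : Type v}
  {R : ι → Subgroup G} {o : ι} {r z : G}

/-- **the F4-type exit** -/
theorem ends_of_ff (p : Pos S P V R o r z) (h : TSz V R o r z) (A : TS.FF (ts p h) S) :
    Ends (S : Subgroup G) V (R o) := by
  obtain ⟨PP, hle, hidx, hgp, hpar, hCr, hM, hcard, T, hTS, hTc, hT⟩ := A.exists_sys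
  rw [ts_r p h] at hpar hCr hT
  refine HOneEnd.OfSys.ends_of_sys' p h (M := CoxeterMatrix.F₄) hasQ_four hle hidx hgp hcard ?_ conn_four
    (o' := 3) hpar hCr hM (T := T) (hT.trans le_sup_right) hTS hTc
  rw [Nat.card_eq_fintype_card, Fintype.card_fin]
  omega

end Cfsg.Agent.Omega.HOneTwo.Trans

end

-- merged: Cfsg.Agent.Mrg.Omega.HOneTwo.FFOf
section

/-!
# II.0h1, `q = 2`, F4-type: `FF` from the position `Pos`, `TSz` and `|N_r| ≠ 8`

* `TSPos.ff_of : TS.FF (ts p h) S`.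
-/

set_option autoImplicit false
set_option linter.unusedSectionVars false

namespace Cfsg.Agent.Omega.HTwo.TSPos

open Subgroup Cfsg Cfsg.Agent.ZN Cfsg.Agent.Omega.MinPar
open Cfsg.Agent.Omega.BTwo Cfsg.Agent.Omega.HOneTwo Cfsg.Agent.Omega.HTwo.Hat
open Cfsg.Agent.Omega.HTwo.Entry (Pos)
open Cfsg.Agent.Omega.HTwo.AlphaP (MP)
open Cfsg.Agent.Omega.HOne.Cut (TSz)
open Cfsg.Agent.Omega.HOneTwo.Trans

universe u v

variable {G : Type u} [Group G] [Finite G] {S : Sylow 2 G} {P V : Subgroup G} {ι : Type v}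
  {R : ι → Subgroup G} {o : ι} {r z : G}

section

variable (p : Pos S P V R o r z)
include p

/-- `S` fixes or swaps `r 1`, `r 2` -/
theorem S_V_or (h : TSz V R o r z) {s : G} (hs : s ∈ (S : Subgroup G)) :
    s * (ts p h).r 1 * s⁻¹ = (ts p h).r 1 ∨ s * (ts p h).r 1 * s⁻¹ = (ts p h).r 2 := by
  have h1 := AlphaOne.comm_mem_R p.toHT (p.S_V hs) (p.S_R hs) (gg_V p (rho p 1))
  have e1 : (ts p h).r 1 = gg p (rho p 1) := rfl
  have e2 : (ts p h).r 2 = gg p (rho p 2) := rfl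
  have e3 := gg_prod p (rho_ne p (i := 0) (j := 1) (by decide)) (rho_ne p (i := 0) (j := 2) (by decide))
    (rho_ne p (i := 1) (j := 2) (by decide))
  rw [rho_zero, gg_o] at e3
  rw [e1, e2]
  rcases (p.r_iff _).1 h1 with h2 | h2
  · left
    exact mul_inv_eq_one.1 h2
  · right
    rw [mul_inv_eq_iff_eq_mul] at h2
    rw [h2]
    exact mul_eq_one_iff_eq_inv.1 e3 |>.trans (inv_eq_of_mul_eq_one_left (gg_sq p _))

/-- **`FF`** -/
theorem ff_of (h : TSz V R o r z) (h8 : Nat.card (gen r z) ≠ 8) : TS.FF (ts p h) S where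
  hQ := fun _ => rfl
  F := OM.of_O2 (fun _ => rfl) (by
    intro c hc u hu
    rw [ts_U] at hu
    exact (mem_zc.1 (U_zc p hu)).2.1 c hc) (by
    rw [ts_U]
    exact (U_zc p).trans (zc_le _))
  B := Bz.of_TB (tb p h)
  hk := by
    intro hk
    apply h8
    have h1 := Bz.card_eight hk
    rw [ts_r, ts_z] at h1
    exact h1
  S_r := fun s hs => by rw [ts_r]; exact S_r p s hs
  S_z := fun s hs => S_z p s hs
  S_V := fun s hs => S_V_or p h hs
  cM := fun g hg hc => char2_M p ⟨hg, (cen_iff p).2 hc⟩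
  cz := by
    intro g hg hc
    rw [ts_z] at hg hc ⊢
    exact (p.isLoc_cen (z_zc p) p.z_ne).char2 S p.char2 ⟨mem_centralizer_singleton_iff.2 hg, (cen_iff p).2 hc⟩

end

end Cfsg.Agent.Omega.HTwo.TSPos

end

-- merged: Cfsg.Agent.Mrg.Omega.HOneTwo.MoreMain
section

/-!
# II.0h1, `q = 2`: the statement `More0` of `HOne/Cut`

`more0 : Cut.More0` : after the transvection statement, `|N_r| ≠ 8` (#16429).
-/

set_option autoImplicit false

namespace Cfsg.Agent.Omega.HOneTwo.Trans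

universe u v

/-- **`More0`** : after the transvection statement, `|N_r| ≠ 8` -/
theorem more0 : HOne.Cut.More0.{u, v} := fun _ _ _ _ _ _ _ _ _ _ _ p h hc =>
  ends_of_ff p h (HTwo.TSPos.ff_of p h hc)

end Cfsg.Agent.Omega.HOneTwo.Trans

end
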